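import Mathlib

/-!
# THEOREM S1 (helper335 #21537 / #21629), the phi lemma

`exists_off` : `|W : B₁| ≥ 4`: some `x ∈ W` is outside `B₁`, `w B₁`, `s B₁`;
`phi` : the relation `v' v'^{-w} = v v^{-s} f` is impossible.
-/

set_option autoImplicit false
set_option linter.unusedVariables false

namespace Cfsg.Agent.Omega.NO3S.SOne

open Subgroup

variable {G : Type*} [Group G]

/-- three cosets do not cover `W` -/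
theorem exists_off {W B : Subgroup G} (h4 : 4 ≤ B.relIndex W) {w s : G} (hw : w ∈ W) (hs : s ∈ W) :
    ∃ x ∈ W, x⁻¹ ∉ B ∧ x⁻¹ * w ∉ B ∧ x⁻¹ * s ∉ B := by
  classical
  by_contra hcon
  push Not at hcon
  have key : (Set.univ : Set (W ⧸ B.subgroupOf W)) ⊆
      {((1 : W) : W ⧸ B.subgroupOf W), ((⟨w, hw⟩ : W) : W ⧸ B.subgroupOf W), ((⟨s, hs⟩ : W) : W ⧸ B.subgroupOf W)} := by
    rintro q -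
    obtain ⟨x, rfl⟩ := QuotientGroup.mk_surjective q
    rw [Set.mem_insert_iff, Set.mem_insert_iff, Set.mem_singleton_iff, QuotientGroup.eq, QuotientGroup.eq,
      QuotientGroup.eq, mem_subgroupOf, mem_subgroupOf, mem_subgroupOf]
    change (x : G)⁻¹ * 1 ∈ B ∨ (x : G)⁻¹ * w ∈ B ∨ (x : G)⁻¹ * s ∈ B
    rw [mul_one]
    by_cases h1 : (x : G)⁻¹ ∈ B
    · exact Or.inl h1
    · by_cases h2 : (x : G)⁻¹ * w ∈ B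
      · exact Or.inr (Or.inl h2)
      · exact Or.inr (Or.inr (hcon x x.2 h1 h2))
  have h1 : B.relIndex W ≤ 3 := by
    rw [relIndex, index, ← Set.ncard_univ]
    refine (Set.ncard_le_ncard key (Set.toFinite _)).trans ?_
    refine (Set.ncard_insert_le _ _).trans ?_
    refine (Nat.succ_le_succ (Set.ncard_insert_le _ _)).trans ?_
    rw [Set.ncard_singleton]
  omega

/-- **The phi lemma.** -/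
theorem phi {Λ A L W B₁ : Subgroup G} (comm : ∀ a ∈ Λ, ∀ b ∈ Λ, a * b = b * a) (hA : A ≤ Λ) (hL : L ≤ Λ)
    (hW : ∀ w ∈ W, ∀ l ∈ Λ, w * l * w⁻¹ ∈ Λ) (hB : B₁ ≤ W)
    (h2 : ∀ v ∈ L, ∀ y ∈ W, y ∉ B₁ → y * v * y⁻¹ ∈ A)
    (h3 : ∀ v ∈ L, ∀ b ∈ B₁, b * v * b⁻¹ * v⁻¹ ∈ A) (h4 : 4 ≤ B₁.relIndex W) {v v' w s f : G}
    (hv : v ∈ L) (hv' : v' ∈ L) (hvA : v' ∉ A) (hne : v' * v⁻¹ ∉ A) (hw : w ∈ W) (hwB : w ∉ B₁) (hs : s ∈ W)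
    (hf : f ∈ Λ) (hfW : ∀ x ∈ W, x * f * x⁻¹ = f)
    (rel : v' * (w * v'⁻¹ * w⁻¹) = v * (s * v⁻¹ * s⁻¹) * f) : False := by
  have cj : ∀ y ∈ W, y ∉ B₁ → ∀ l ∈ L, y * l⁻¹ * y⁻¹ ∈ A := fun y hy hyB l hl => h2 _ (L.inv_mem hl) y hy hyB
  -- `f ∈ A`
  have hfA : f ∈ A := by
    obtain ⟨x, hx, x1, x2, x3⟩ := exists_off h4 hw hs
    have hxi := W.inv_mem hx
    have e1 : x⁻¹ * v' * x⁻¹⁻¹ ∈ A := h2 v' hv' _ hxi x1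
    have e2 : x⁻¹ * v * x⁻¹⁻¹ ∈ A := h2 v hv _ hxi x1
    have e3 : (x⁻¹ * w) * v'⁻¹ * (x⁻¹ * w)⁻¹ ∈ A := cj _ (W.mul_mem hxi hw) x2 v' hv'
    have e4 : (x⁻¹ * s) * v⁻¹ * (x⁻¹ * s)⁻¹ ∈ A := cj _ (W.mul_mem hxi hs) x3 v hv
    have e5 : (x⁻¹ * v' * x⁻¹⁻¹) * ((x⁻¹ * w) * v'⁻¹ * (x⁻¹ * w)⁻¹) =
        (x⁻¹ * v * x⁻¹⁻¹) * ((x⁻¹ * s) * v⁻¹ * (x⁻¹ * s)⁻¹) * f := by
      calc (x⁻¹ * v' * x⁻¹⁻¹) * ((x⁻¹ * w) * v'⁻¹ * (x⁻¹ * w)⁻¹)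
          = x⁻¹ * (v' * (w * v'⁻¹ * w⁻¹)) * x⁻¹⁻¹ := by group
        _ = x⁻¹ * (v * (s * v⁻¹ * s⁻¹) * f) * x⁻¹⁻¹ := by rw [rel]
        _ = (x⁻¹ * v * x⁻¹⁻¹) * ((x⁻¹ * s) * v⁻¹ * (x⁻¹ * s)⁻¹) * (x⁻¹ * f * x⁻¹⁻¹) := by group
        _ = _ := by rw [hfW _ hxi]
    have e6 : f = ((x⁻¹ * v * x⁻¹⁻¹) * ((x⁻¹ * s) * v⁻¹ * (x⁻¹ * s)⁻¹))⁻¹ *
        ((x⁻¹ * v' * x⁻¹⁻¹) * ((x⁻¹ * w) * v'⁻¹ * (x⁻¹ * w)⁻¹)) := by rw [e5, inv_mul_cancel_left]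
    rw [e6]
    exact A.mul_mem (A.inv_mem (A.mul_mem e2 e4)) (A.mul_mem e1 e3)
  have e1 : w * v'⁻¹ * w⁻¹ ∈ A := cj w hw hwB v' hv'
  by_cases hsB : s ∈ B₁
  · -- `v (s v⁻¹ s⁻¹) ∈ A`
    have e2 : s * v⁻¹ * s⁻¹ * v⁻¹⁻¹ ∈ A := h3 _ (L.inv_mem hv) s hsB
    have e3 : v * (s * v⁻¹ * s⁻¹) = s * v⁻¹ * s⁻¹ * v⁻¹⁻¹ := by
      rw [inv_inv]
      exact comm v (hL hv) _ (hW s hs _ (Λ.inv_mem (hL hv)))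
    apply hvA
    have e4 : v' = v * (s * v⁻¹ * s⁻¹) * f * (w * v'⁻¹ * w⁻¹)⁻¹ := by rw [← rel, mul_inv_cancel_right]
    rw [e4, e3]
    exact A.mul_mem (A.mul_mem e2 hfA) (A.inv_mem e1)
  · have e2 : s * v⁻¹ * s⁻¹ ∈ A := cj s hs hsB v hv
    apply hne
    have e4 : v' = v * (s * v⁻¹ * s⁻¹) * f * (w * v'⁻¹ * w⁻¹)⁻¹ := by rw [← rel, mul_inv_cancel_right]
    have e5 : (s * v⁻¹ * s⁻¹) * f * (w * v'⁻¹ * w⁻¹)⁻¹ ∈ A := A.mul_mem (A.mul_mem e2 hfA) (A.inv_mem e1)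
    have e6 : v' * v⁻¹ = (s * v⁻¹ * s⁻¹) * f * (w * v'⁻¹ * w⁻¹)⁻¹ := by
      have e7 : v' = v * ((s * v⁻¹ * s⁻¹) * f * (w * v'⁻¹ * w⁻¹)⁻¹) := by
        rw [← mul_assoc, ← mul_assoc]
        exact e4
      have e8 := comm v (hL hv) _ (hA e5)
      rw [e8] at e7
      calc v' * v⁻¹ = ((s * v⁻¹ * s⁻¹) * f * (w * v'⁻¹ * w⁻¹)⁻¹ * v) * v⁻¹ := by rw [← e7]
        _ = _ := by rw [mul_inv_cancel_right]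
    rw [e6]
    exact e5

end Cfsg.Agent.Omega.NO3S.SOne
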