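import Cfsg.Agent.Omega.NOThreeL.Low.Nat
import Cfsg.Agent.Omega.NOThreeL.Low.SymCase

/-!
# GammaFF, (S1): the natural blocks of a complement (#20829 (d'))

`M : NatK K S P U ⊥ k`, `P ≤ N(U)` (no `zc S ≤ U`: `U` is a complement of the radical in `V_P`).

* `fix` : (T3) of #19191, `B` fixes the bad blocks;
* `c_em` : `w` in the bad block `i`, `b ∈ B` ⟹ `[w, b]` has only an `i`-component;
* **`exists_conj_mem`** : (d').
-/

set_option autoImplicit false

namespace Cfsg.Agent.Omega.NO3S.SOne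

open Subgroup Cfsg Cfsg.Agent.ZN Cfsg.Agent.Omega.FFThm Cfsg.Agent.Omega.Half
open Cfsg.Agent.Omega.Half.NatA
open Cfsg.Agent.Omega.NO1.NSix
open Cfsg.Agent.Omega.NatPair (ap exists_ap)
open Cfsg.Agent.Omega.NOThreeL.Low.Nat (QB Bad)

universe u

variable {G : Type u} [Group G] {K : Type} [Field K] {S P U : Subgroup G} {k : ℕ}

/-- The ambient facts. -/
structure AmbW (S P U : Subgroup G) : Prop where
  SP : S ≤ P
  nU : P ≤ normalizer (U : Set G)
  comm : ∀ a ∈ U, ∀ b ∈ U, a * b = b * a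
  sq : ∀ a ∈ U, a ^ 2 = 1

theorem AmbW.cj {g v : G} (h : AmbW S P U) (hg : g ∈ P) (hv : v ∈ U) : g * v * g⁻¹ ∈ U :=
  (mem_normalizer_iff.1 (h.nU hg) v).1 hv

section fix

variable {B E : Subgroup G} {M : NatK K S P U ⊥ k} (hA : AmbW S P U) (h : QB S U B E)
include hA h

/-- the relation `c (w (b w b⁻¹)) c⁻¹ = w (b w b⁻¹)` -/
theorem rel {w b c : G} (hw : w ∈ U) (hb : b ∈ B) (hc : c ∈ B) :
    M.e (c * (b * w * b⁻¹) * c⁻¹) + M.e (c * w * c⁻¹) = M.e (b * w * b⁻¹) + M.e w := by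
  have hbP := hA.SP (h.BS hb)
  have hcP := hA.SP (h.BS hc)
  have hbw := hA.cj hbP hw
  have hww : w⁻¹ = w := by
    have h1 := hA.sq w hw
    rw [pow_two] at h1
    exact inv_eq_of_mul_eq_one_left h1
  have h1 := h.quad w hw b hb c hc
  rw [hww] at h1
  have h2 : c * (b * w * b⁻¹ * w) * c⁻¹ = b * w * b⁻¹ * w := by rw [h1]; group
  have h3 : c * (b * w * b⁻¹ * w) * c⁻¹ = c * (b * w * b⁻¹) * c⁻¹ * (c * w * c⁻¹) := by group
  rw [← M.mul _ (hA.cj hcP hbw) _ (hA.cj hcP hw), ← M.mul _ hbw _ hw, ← h3, h2]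

/-- **(T3)** `B` fixes the bad blocks. -/
theorem fix {i : Fin k} (hi : Bad M E i) {b : G} (hb : b ∈ B) {σ : Equiv.Perm (Fin k)} (hσ : Mv M b σ) :
    σ i = i := by
  by_contra hne
  obtain ⟨x, hx⟩ := hi
  have hbP := hA.SP (h.BS hb)
  set w : G := em M i x with hw
  have hwU : w ∈ U := em_mem M i x
  have hx0 : x ≠ 0 := by
    rintro rfl
    rw [hw, em_zero] at hx
    exact hx (one_mem E)
  have hbw := hA.cj hbP hwU
  -- support of `b w b⁻¹`
  have hsb : ∀ j, j ≠ σ i → M.e (b * w * b⁻¹) j = 0 := by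
    intro j hj
    have h1 := (hσ w hwU (σ.symm j)).2 (e_em_ne M (fun h2 => hj (by rw [← h2, σ.apply_symm_apply])) x)
    rwa [σ.apply_symm_apply] at h1
  have hnb : M.e (b * w * b⁻¹) (σ i) ≠ 0 := by
    rw [Ne, hσ w hwU i, hw, e_em_self]
    exact hx0
  have key : ∀ c ∈ B, c * w * c⁻¹ ≠ w → c * w * c⁻¹ = b * w * b⁻¹ := by
    intro c hc hcw
    have hcP := hA.SP (h.BS hc)
    obtain ⟨τ, hτ⟩ := M.perm c hcP
    have hcw' := hA.cj hcP hwU
    have hsc : ∀ j, j ≠ τ i → M.e (c * w * c⁻¹) j = 0 := by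
      intro j hj
      have h1 := (hτ w hwU (τ.symm j)).2 (e_em_ne M (fun h2 => hj (by rw [← h2, τ.apply_symm_apply])) x)
      rwa [τ.apply_symm_apply] at h1
    have hnc : M.e (c * w * c⁻¹) (τ i) ≠ 0 := by
      rw [Ne, hτ w hwU i, hw, e_em_self]
      exact hx0
    have hsd : ∀ j, j ≠ τ (σ i) → M.e (c * (b * w * b⁻¹) * c⁻¹) j = 0 := by
      intro j hj
      have h1 := (hτ _ hbw (τ.symm j)).2 (hsb _ (fun h2 => hj (by rw [← h2, τ.apply_symm_apply])))
      rwa [τ.apply_symm_apply] at h1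
    have hr := rel hA h (M := M) hwU hb hc
    have hτi : τ i ≠ τ (σ i) := fun h1 => hne (τ.injective h1).symm
    by_cases h1 : τ i = i
    · -- then `c w c⁻¹ = w`
      exfalso
      apply hcw
      apply inj M hcw' hwU
      funext j
      by_cases hj : j = i
      · have h2 := congrFun hr i
        rw [Pi.add_apply, Pi.add_apply, hsd i (fun h' => hτi (h1.trans h')), hsb i (Ne.symm hne), zero_add,
          zero_add] at h2
        rw [hj, h2]
      · rw [hsc j (by rw [h1]; exact hj), hw, e_em_ne M hj]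
    · by_cases h2 : τ i = σ i
      · apply inj M hcw' hbw
        funext j
        by_cases hj : j = σ i
        · have h3 := congrFun hr (σ i)
          rw [Pi.add_apply, Pi.add_apply, hsd (σ i) (fun h' => hτi (h2.trans h')), zero_add,
            show M.e w (σ i) = 0 from e_em_ne M hne x, add_zero] at h3
          rw [hj, h3]
        · rw [hsc j (by rw [h2]; exact hj), hsb j hj]
      · exfalso
        apply hnc
        have h3 := congrFun hr (τ i)
        rw [Pi.add_apply, Pi.add_apply, hsd (τ i) hτi, hsb (τ i) h2, zero_add,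
          show M.e w (τ i) = 0 from e_em_ne M h1 x, add_zero] at h3
        exact h3
  exact h.t1 w hwU hx fun b1 hb1 c1 hc1 hm1 hm2 => (key b1 hb1 hm1).trans (key c1 hc1 hm2).symm

/-- `w` in the bad block `i` ⟹ `w (b w b⁻¹)⁻¹` has only an `i`-component. -/
theorem e_c {i : Fin k} (hi : Bad M E i) {b : G} (hb : b ∈ B) (x : Fin 2 → K) {j : Fin k} (hj : j ≠ i) :
    M.e (em M i x * (b * (em M i x)⁻¹ * b⁻¹)) j = 0 := by
  have hbP := hA.SP (h.BS hb)
  obtain ⟨σ, hσ⟩ := M.perm b hbP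
  have hσi := fix hA h hi hb hσ
  have h1 := em_mem M i x
  have h2 := hA.cj hbP (inv_mem h1)
  rw [M.mul _ h1 _ h2, Pi.add_apply, e_em_ne M hj, zero_add]
  have h3 : M.e (em M i x)⁻¹ (σ.symm j) = 0 := by
    rw [e_inv M h1, Pi.neg_apply, e_em_ne M (fun h4 => hj ?_), neg_zero]
    rw [← σ.apply_symm_apply j, h4, hσi]
  have h4 := (hσ _ (inv_mem h1) (σ.symm j)).2 h3
  rwa [σ.apply_symm_apply] at h4

end fix

/-- A `S`-invariant element of `U` has full support. -/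
theorem full_of_cent (M : NatK K S P U ⊥ k) {z : G} (hz : z ∈ U) (hz1 : z ≠ 1) (hzS : ∀ s ∈ S, s * z = z * s)
    (i : Fin k) : M.e z i ≠ 0 := by
  intro h0
  refine hz1 (eq_one M hz (funext fun j => ?_))
  obtain ⟨t, ht, h1⟩ := M.trans j i
  have h2 : t * z * t⁻¹ = z := by rw [hzS t ht, mul_inv_cancel_right]
  exact (h1 z hz).1 (by rw [h2]; exact h0)

/-- **(d') of #20829.** `z ∈ Z ∩ U`, `d ∈ D = C_Z(P)`; modulo `Fx` both `z` and `z d` lie in the block `j`: then some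
`P`-conjugate of `Z` meets `Fx`. -/
theorem exists_conj_mem (M : NatK K S P U ⊥ k) (hA : AmbW S P U) {D Fx Z : Subgroup G}
    (hDP : D ≤ centralizer (P : Set G)) (hDZ : D ≤ Z) (hinf : U ⊓ D = ⊥)
    {z : G} (hz : z ∈ Z) (hzU : z ∈ U) (hz1 : z ≠ 1) (hzS : ∀ s ∈ S, s * z = z * s)
    {d : G} (hd : d ∈ D) (hd1 : d ≠ 1) {j : Fin k}
    (H1 : ∃ n ∈ U, (∀ i, i ≠ j → M.e n i = 0) ∧ n⁻¹ * z ∈ Fx)
    (H2 : ∃ n ∈ U, (∀ i, i ≠ j → M.e n i = 0) ∧ n⁻¹ * (z * d) ∈ Fx) :
    ∃ g ∈ P, ∃ y ∈ Z, y ≠ 1 ∧ g * y * g⁻¹ ∈ Fx := by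
  have hf := full_of_cent M hzU hz1 hzS
  obtain ⟨n, hn, hn0, hnF⟩ := H1
  obtain ⟨m, hm, hm0, hmF⟩ := H2
  -- a conjugate of `z`
  have key : ∀ n ∈ U, (∀ i, i ≠ j → M.e n i = 0) → M.e n j ≠ M.e z j →
      ∃ g ∈ P, g * z * g⁻¹ = n⁻¹ * z := by
    intro n hn hn0 hnj
    have hnz : n⁻¹ * z ∈ U := mul_mem (inv_mem hn) hzU
    have h1 : ∀ i, M.e (n⁻¹ * z) i ≠ 0 := by
      intro i
      rw [M.mul _ (inv_mem hn) _ hzU, e_inv M hn, Pi.add_apply, Pi.neg_apply]
      by_cases hij : i = j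
      · subst hij
        intro h2
        exact hnj (neg_add_eq_zero.1 h2)
      · rw [hn0 i hij, neg_zero, zero_add]
        exact hf i
    choose A hA' using fun i => exists_ap (hf i) (h1 i)
    obtain ⟨g, hg, hgA⟩ := M.lift A
    refine ⟨g, hg, inj M (hA.cj hg hzU) hnz (funext fun i => ?_)⟩
    rw [hgA.1 z hzU i, hA' i]
  by_cases h1 : M.e n j = M.e z j
  · by_cases h2 : M.e m j = M.e z j
    · have hnm : n = m := inj M hn hm (funext fun i => by
        by_cases hij : i = j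
        · rw [hij, h1, h2]
        · rw [hn0 i hij, hm0 i hij])
      subst hnm
      refine ⟨1, one_mem _, d, hDZ hd, hd1, ?_⟩
      have h3 := mul_mem (inv_mem hnF) hmF
      have e : (n⁻¹ * z)⁻¹ * (n⁻¹ * (z * d)) = 1 * d * 1⁻¹ := by group
      rwa [e] at h3
    · obtain ⟨g, hg, hgz⟩ := key m hm hm0 h2
      refine ⟨g, hg, z * d, mul_mem hz (hDZ hd), fun h3 => ?_, ?_⟩
      · apply hd1
        have h5 : d ∈ U := by
          rw [← inv_eq_of_mul_eq_one_right h3]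
          exact U.inv_mem hzU
        have h4 : d ∈ U ⊓ D := ⟨h5, hd⟩
        rwa [hinf, mem_bot] at h4
      · have h4 : g * d = d * g := (mem_centralizer_iff.1 (hDP hd)) g hg
        have e : g * (z * d) * g⁻¹ = m⁻¹ * (z * d) := by
          calc g * (z * d) * g⁻¹ = g * z * (d * g⁻¹) := by group
            _ = g * z * (g⁻¹ * (g * d) * g⁻¹) := by group
            _ = g * z * g⁻¹ * d := by rw [h4]; group
            _ = m⁻¹ * (z * d) := by rw [hgz]; group
        rw [e]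
        exact hmF
  · obtain ⟨g, hg, hgz⟩ := key n hn hn0 h1
    exact ⟨g, hg, z, hz, hz1, by rw [hgz]; exact hnF⟩

end Cfsg.Agent.Omega.NO3S.SOne
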