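import Cfsg.Agent.Omega.NOThreeL.DataLow
import Cfsg.Agent.Omega.NOThreeL.RTools.Two
import Cfsg.Agent.Omega.NOne.Flat.Base

/-!
# GammaFF, (S1) (#20829 (a)): a bad line on a chamber `T` with `Z(T) ∩ F ≠ 1` gives an (A)-pair

`V`, `F` as in THEOREM FLAT (`Flat.Hyp V F`), `E = EE V F = V ∩ O₂(C_G(F))`, `T = S^g` a Sylow 2-subgroup, `R ∈ P*(S)`
with `V_R^g ≤ V`, `V_R^g ≰ E`, and `1 ≠ u ∈ Z(T) ∩ F`.  Then `[V_R, U_H] ≠ 1` for the long group `H = C_G(u^{g⁻¹})`.
-/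

set_option autoImplicit false

namespace Cfsg.Agent.Omega.NO3S.SOne

open Subgroup Cfsg Cfsg.Agent.ZN Cfsg.Agent.Omega.MinPar Cfsg.Agent.Omega.Frame
open Cfsg.Agent.Omega.FrameNOFF Cfsg.Agent.Omega.Node.NO3L Cfsg.Agent.Omega.NOThreeL.Basic
open Cfsg.Agent.Omega.NoFF.Basic (conj_conj mem_conj conj_le_iff)
open Cfsg.Agent.Omega.NOne.Flat (EE WW Bad o2_conj conj_centralizer)
open Cfsg.Agent.MinSimple.VModule (zl_le le_normalizer_zl zc_le_zl zc_le o2_isPGroup le_normalizer_o2 le_o2 o2_le)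
open scoped Pointwise

universe u

variable {G : Type u} [Group G] [Finite G]

/-- `O₂(H) ∩ X ≤ O₂(X)` for `X ≤ H`. -/
theorem inf_o2_le {H X : Subgroup G} (h : X ≤ H) : o2 H ⊓ X ≤ o2 X := by
  refine MinSimple.VModule.le_o2 inf_le_right ((o2_isPGroup H).to_le inf_le_left) ?_
  refine (le_inf (h.trans (MinSimple.VModule.le_normalizer_o2 H)) le_normalizer).trans ?_
  exact inf_normalizer_le_normalizer_inf

/-- **#20829 (a)**. -/
theorem pairA_of_bad {S : Sylow 2 G} (D : DataLow (S : Subgroup G)) {V F : Subgroup G} (hVF : V ≤ centralizer (F : Set G))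
    {R : Subgroup G} (hR : IsParS (S : Subgroup G) R) {g : G}
    (hle : MulAut.conj g • zl (S : Subgroup G) R ≤ V) (hbad : ¬ MulAut.conj g • zl (S : Subgroup G) R ≤ EE V F)
    {z : G} (hz : z ∈ zc (S : Subgroup G)) (hz1 : z ≠ 1) (hzF : g * z * g⁻¹ ∈ F) :
    PairA (S : Subgroup G) R (centralizer ({z} : Set G)) := by
  refine ⟨hR, NOThreeL.RTools.isLong S hz hz1, fun hcom => hbad ?_⟩
  have h1 : zl (S : Subgroup G) R ≤ o2 (centralizer ({z} : Set G)) :=
    le_o2_of_comm (D.low R hR) (NOThreeL.RTools.isLong S hz hz1) hcom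
  have h2 : MulAut.conj g • zl (S : Subgroup G) R ≤ o2 (MulAut.conj g • centralizer ({z} : Set G)) := by
    rw [← o2_conj]
    exact conj_le_iff.2 h1
  have h3 : centralizer (F : Set G) ≤ MulAut.conj g • centralizer ({z} : Set G) := by
    intro x hx
    rw [mem_conj, mem_centralizer_iff]
    intro y hy
    rw [Set.mem_singleton_iff.1 hy]
    have h4 := mem_centralizer_iff.1 hx _ hzF
    have h5 : g⁻¹ * (g * z * g⁻¹ * x) * g = g⁻¹ * (x * (g * z * g⁻¹)) * g := by rw [h4]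
    simpa [mul_assoc] using h5
  exact le_inf hle ((le_inf h2 (hle.trans hVF)).trans (inf_o2_le h3))

end Cfsg.Agent.Omega.NO3S.SOne
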