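import Cfsg.Agent.Omega.FFThmM

/-!
# Restriction of `NatK`, `SymK` to a complement of the radical

`V = V₀ D`, `V₀ ∩ D = 1`, `P ≤ N(V₀)`, `D ≤ C(P)`.
-/

set_option autoImplicit false

namespace Cfsg.Agent.Omega.NO3S.SOne

open Subgroup Cfsg Cfsg.Agent.ZN Cfsg.Agent.Omega.FFThm

universe u

variable {G : Type u} [Group G] {T P V D V₀ : Subgroup G}

/-- `V = V₀ × D`, `V₀` normal in `P`, `D` central in `P`. -/
structure Split (P V D V₀ : Subgroup G) : Prop where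
  le : V₀ ≤ V
  DV : D ≤ V
  nV : P ≤ normalizer (V₀ : Set G)
  inf : V₀ ⊓ D = ⊥
  mul : ∀ v ∈ V, ∃ a ∈ V₀, ∃ d ∈ D, v = a * d
  cD : D ≤ centralizer (P : Set G)

namespace Split

variable (h : Split P V D V₀)
include h

theorem comm {g d : G} (hg : g ∈ P) (hd : d ∈ D) : g * d = d * g := mem_centralizer_iff.1 (h.cD hd) g hg

theorem cj_mul {g a d : G} (hg : g ∈ P) (hd : d ∈ D) : g * (a * d) * g⁻¹ = g * a * g⁻¹ * d := by
  calc g * (a * d) * g⁻¹ = g * a * (g⁻¹ * (g * d) * g⁻¹) := by group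
    _ = g * a * g⁻¹ * d := by rw [h.comm hg hd]; group

theorem cj {g a : G} (hg : g ∈ P) (ha : a ∈ V₀) : g * a * g⁻¹ ∈ V₀ := (mem_normalizer_iff.1 (h.nV hg) a).1 ha

/-- `V₀ ∩ X` and `D` for `D ≤ X` : `|V ∩ X| = |V₀ ∩ X| |D|` -/
theorem card [Finite G] {X : Subgroup G} (hD : D ≤ X) :
    Nat.card ↥(V ⊓ X) = Nat.card ↥(V₀ ⊓ X) * Nat.card D := by
  rw [← Nat.card_prod]
  symm
  refine Nat.card_congr (Equiv.ofBijective
    (fun p : ↥(V₀ ⊓ X) × D => (⟨(p.1 : G) * p.2, mul_mem (mem_inf.2 ⟨h.le p.1.2.1, p.1.2.2⟩)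
      (mem_inf.2 ⟨h.DV p.2.2, hD p.2.2⟩)⟩ : ↥(V ⊓ X))) ⟨?_, ?_⟩)
  · rintro ⟨⟨a, ha⟩, ⟨d, hd⟩⟩ ⟨⟨b, hb⟩, ⟨f, hf⟩⟩ he
    have h1 : a * d = b * f := congrArg Subtype.val he
    have h2 : b⁻¹ * a = f * d⁻¹ := by
      calc b⁻¹ * a = b⁻¹ * (a * d) * d⁻¹ := by group
        _ = f * d⁻¹ := by rw [h1]; group
    have h3 : b⁻¹ * a ∈ V₀ ⊓ D := by
      refine mem_inf.2 ⟨mul_mem (inv_mem hb.1) ha.1, ?_⟩
      rw [h2]
      exact D.mul_mem hf (D.inv_mem hd)
    rw [h.inf, mem_bot] at h3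
    have h4 : b = a := inv_mul_eq_one.1 h3
    have h5 : f = d := by
      rw [h3] at h2
      exact mul_inv_eq_one.1 h2.symm
    subst h4; subst h5
    rfl
  · rintro ⟨v, hv⟩
    obtain ⟨a, ha, d, hd, rfl⟩ := h.mul v hv.1
    have h1 : a ∈ X := by
      have e : a = a * d * d⁻¹ := by group
      rw [e]
      exact mul_mem hv.2 (inv_mem (hD hd))
    exact ⟨⟨⟨a, ha, h1⟩, ⟨d, hd⟩⟩, rfl⟩

theorem off [Finite G] (hTP : T ≤ P) {A : Subgroup G} (hA : A ≤ T) (ho : Off V₀ A) : Off V A := by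
  have hDA : D ≤ centralizer (A : Set G) := h.cD.trans (centralizer_le (hA.trans hTP))
  have h1 : A ⊓ centralizer (V₀ : Set G) = A ⊓ centralizer (V : Set G) := by
    refine le_antisymm (fun x hx => mem_inf.2 ⟨hx.1, ?_⟩) (inf_le_inf_left _ (centralizer_le h.le))
    rw [mem_centralizer_iff]
    intro v hv
    obtain ⟨a, ha, d, hd, rfl⟩ := h.mul v hv
    have e1 : a * x = x * a := mem_centralizer_iff.1 hx.2 a ha
    have e2 : x * d = d * x := h.comm (hTP (hA hx.1)) hd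
    rw [mul_assoc, ← e2, ← mul_assoc, e1, mul_assoc]
  refine ⟨ho.elem, fun hc => ho.ne (hc.trans (centralizer_le h.le)), ?_⟩
  have h2 := h.card (X := ⊤) le_top
  rw [inf_top_eq, inf_top_eq] at h2
  rw [← h1, h.card hDA, h2]
  calc Nat.card V₀ * Nat.card D * Nat.card ↥(A ⊓ centralizer (V₀ : Set G))
      = Nat.card V₀ * Nat.card ↥(A ⊓ centralizer (V₀ : Set G)) * Nat.card D := by ring
    _ ≤ Nat.card A * Nat.card ↥(V₀ ⊓ centralizer (A : Set G)) * Nat.card D := Nat.mul_le_mul_right _ ho.le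
    _ = Nat.card A * (Nat.card ↥(V₀ ⊓ centralizer (A : Set G)) * Nat.card D) := by ring

end Split

section nat

variable [Finite G] {K : Type} [Field K] {k : ℕ} (M : NatK K T P V D k) (h : Split P V D V₀) (hTP : T ≤ P)

/-- `NatK` on the complement. -/
def natRes : NatK K T P V₀ ⊥ k where
  e := M.e
  mul := fun v hv w hw => M.mul v (h.le hv) w (h.le hw)
  surj := by
    intro x
    obtain ⟨v, hv, he⟩ := M.surj x
    obtain ⟨a, ha, d, hd, rfl⟩ := h.mul v hv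
    refine ⟨a, ha, ?_⟩
    rw [← he, M.mul _ (h.le ha) _ (h.DV hd), (M.ker d (h.DV hd)).2 hd, add_zero]
  ker := by
    intro v hv
    rw [M.ker v (h.le hv), mem_bot]
    constructor
    · intro h1
      have h2 : v ∈ V₀ ⊓ D := ⟨hv, h1⟩
      rwa [h.inf, mem_bot] at h2
    · rintro rfl
      exact one_mem _
  lift := by
    intro A
    obtain ⟨g, hg, h1, -⟩ := M.lift A
    exact ⟨g, hg, fun v hv => h1 v (h.le hv), fun d hd => by rw [mem_bot.1 hd, mul_one, one_mul]⟩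
  norm := by
    intro g hg h' hh A hA
    obtain ⟨B, hB⟩ := M.norm g hg h' hh A (by
      intro v hv i
      obtain ⟨a, ha, d, hd, rfl⟩ := h.mul v hv
      rw [h.cj_mul hh hd, M.mul _ (h.le (h.cj hh ha)) _ (h.DV hd), M.mul _ (h.le ha) _ (h.DV hd),
        (M.ker d (h.DV hd)).2 hd, add_zero, add_zero, hA a ha i])
    exact ⟨B, fun v hv => hB v (h.le hv)⟩
  perm := by
    intro g hg
    obtain ⟨σ, hσ⟩ := M.perm g hg
    exact ⟨σ, fun v hv => hσ v (h.le hv)⟩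
  trans := by
    intro i j
    obtain ⟨t, ht, h1⟩ := M.trans i j
    exact ⟨t, ht, fun v hv => h1 v (h.le hv)⟩
  line := by
    intro t ht
    obtain ⟨σ, hσ⟩ := M.line t ht
    exact ⟨σ, fun v hv => hσ v (h.le hv)⟩
  unip := by
    intro b
    obtain ⟨t, ht, h1, -⟩ := M.unip b
    exact ⟨t, ht, fun v hv => h1 v (h.le hv), fun d hd => by rw [mem_bot.1 hd, mul_one, one_mul]⟩
  gen := by
    intro L hL h1
    exact M.gen L hL fun g hg A hA => h1 g hg A ⟨fun v hv => hA.1 v (h.le hv),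
      fun d hd => by rw [mem_bot.1 hd, mul_one, one_mul]⟩
  off := by
    intro A hA ho
    obtain ⟨I, h1, h2⟩ := M.off A hA (h.off hTP hA ho)
    refine ⟨I, fun a ha => ?_, fun b hb => ?_⟩
    · obtain ⟨b, hb, hab⟩ := h1 a ha
      exact ⟨b, hb, fun v hv => hab.1 v (h.le hv), fun d hd => by rw [mem_bot.1 hd, mul_one, one_mul]⟩
    · obtain ⟨a, ha, hab⟩ := h2 b hb
      exact ⟨a, ha, fun v hv => hab.1 v (h.le hv), fun d hd => by rw [mem_bot.1 hd, mul_one, one_mul]⟩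

end nat

section sym

variable [Finite G] {k m : ℕ} (M : SymK T P V D k m) (h : Split P V D V₀) (hTP : T ≤ P)

/-- `SymK` on the complement. -/
def symRes : SymK T P V₀ ⊥ k m where
  e := M.e
  mul := fun v hv w hw => M.mul v (h.le hv) w (h.le hw)
  even := fun v hv => M.even v (h.le hv)
  surj := by
    intro x hx
    obtain ⟨v, hv, he⟩ := M.surj x hx
    obtain ⟨a, ha, d, hd, rfl⟩ := h.mul v hv
    refine ⟨a, ha, ?_⟩
    rw [← he, M.mul _ (h.le ha) _ (h.DV hd), (M.ker d (h.DV hd)).2 hd, add_zero]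
  ker := by
    intro v hv
    rw [M.ker v (h.le hv), mem_bot]
    constructor
    · intro h1
      have h2 : v ∈ V₀ ⊓ D := ⟨hv, h1⟩
      rwa [h.inf, mem_bot] at h2
    · rintro rfl
      exact one_mem _
  lift := by
    intro τ
    obtain ⟨g, hg, h1, -⟩ := M.lift τ
    exact ⟨g, hg, fun v hv => h1 v (h.le hv), fun d hd => by rw [mem_bot.1 hd, mul_one, one_mul]⟩
  perm := by
    intro g hg
    obtain ⟨σ, τ, hσ⟩ := M.perm g hg
    exact ⟨σ, τ, fun v hv => hσ v (h.le hv)⟩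
  trans := by
    intro i j
    obtain ⟨t, ht, σ, τ, h1, h2⟩ := M.trans i j
    exact ⟨t, ht, σ, τ, fun v hv => h1 v (h.le hv), h2⟩
  fix0 := by
    intro t ht σ τ h1 i
    refine M.fix0 t ht σ τ (fun v hv => ?_) i
    obtain ⟨a, ha, d, hd, rfl⟩ := h.mul v hv
    intro j x
    rw [h.cj_mul (hTP ht) hd, M.mul _ (h.le (h.cj (hTP ht) ha)) _ (h.DV hd), M.mul _ (h.le ha) _ (h.DV hd),
      (M.ker d (h.DV hd)).2 hd, add_zero, add_zero]
    exact h1 a ha j x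
  gen := by
    intro L hL h1
    exact M.gen L hL fun g hg τ hτ _ => h1 g hg τ (fun v hv => hτ v (h.le hv))
      fun d hd => by rw [mem_bot.1 hd, mul_one, one_mul]
  off := by
    intro A hA ho
    obtain ⟨-, h2⟩ := M.off A hA (h.off hTP hA ho)
    refine ⟨fun a _ d hd => by rw [mem_bot.1 hd, mul_one, one_mul], fun a ha => ?_⟩
    obtain ⟨τ, h3, h4⟩ := h2 a ha
    refine ⟨τ, fun v hv => h3 v (h.le hv), fun i x hx => ?_⟩
    obtain ⟨h5, b, hb, h6⟩ := h4 i x hx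
    exact ⟨h5, b, hb, fun v hv => h6 v (h.le hv)⟩

end sym

end Cfsg.Agent.Omega.NO3S.SOne
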