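import Cfsg.Agent.Omega.NO3S.SOne.Block
import Cfsg.Agent.Omega.NO3S.SOne.Res
import Cfsg.Agent.Omega.NO3S.SOne.PairBad
import Cfsg.Agent.Omega.NOThreeL.Low.Key
import Cfsg.Agent.PLocal.OffenderStep

/-!
# GammaFF, (S1): a bad line of a type with radical gives an (A)-pair (#20829, (d'))

`DataLow S`; `BH V F B`; `B ≤ S` elementary abelian; `R ∈ P*(S)`, `V_R ≤ V`, `V_R ≰ E`; `Z ≤ I = V ∩ B`, `|Z| > 2`.

* `exists_pairA_two` : `|I : F| ≤ 2`;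
* **`exists_pairA_sym`** : `V_R = V₀ × D`, `V₀` a sum of even-subset modules;
* **`exists_pairA_nat`** : `V_R = V₀ × D`, `V₀` a sum of natural modules, `1 ≠ D ≤ C(R)`.

Conclusion: `(S, R, C_G(z))` is an (A)-pair for some `1 ≠ z ∈ Z`.
The chamber `T_n` of the text is `S`; `V`, `F`, `B` are conjugated back.
-/

set_option autoImplicit false

namespace Cfsg.Agent.Omega.NO3S.SOne

open Subgroup Cfsg Cfsg.Agent.ZN Cfsg.Agent.Omega.MinPar Cfsg.Agent.Omega.Frame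
open Cfsg.Agent.Omega.FrameNOFF Cfsg.Agent.Omega.Node.NO3L Cfsg.Agent.Omega.NOThreeL.Basic
open Cfsg.Agent.Omega.NOne.Flat (EE WW NN Bad)
open Cfsg.Agent.Omega.NOne.NearFF (c)
open Cfsg.Agent.Omega.FFThm (NatK SymK)
open Cfsg.Agent.Omega.NOThreeL.Low.Key (BH)
open Cfsg.Agent.Omega.NO1.NSix (em em_mem e_em_ne e_em_self em_eq mem_of_em)
open Cfsg.Agent.Omega.NOThreeL.Low (SymCase.le_of_t1)
open Cfsg.Agent.MinSimple.VModule (zl_le le_normalizer_zl zc_le_zl zc_le)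
open scoped Pointwise

universe u

variable {G : Type u} [Group G] [Finite G] {S : Sylow 2 G} {V F B R : Subgroup G}

/-- `Z ≤ I`, `|I : F| ≤ 2 < |Z|` ⟹ `Z ∩ F ≠ 1` -/
theorem exists_mem_of_le_two {I Z : Subgroup G} (h : F.relIndex I ≤ 2) (hZ : Z ≤ I) (h2 : 2 < Nat.card Z) :
    ∃ z ∈ Z, z ≠ 1 ∧ z ∈ F := by
  by_contra hcon
  have h0 : F ⊓ Z = ⊥ := by
    rw [eq_bot_iff]
    intro z hz
    rw [mem_bot]
    by_contra hz1
    exact hcon ⟨z, hz.2, hz1, hz.1⟩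
  have h1 : F.relIndex Z = Nat.card Z := by
    rw [← inf_relIndex_right, h0, relIndex_bot_left]
  have h3 : F.relIndex Z ≤ F.relIndex I :=
    relIndex_le_of_le_right hZ (by rw [relIndex]; exact index_ne_zero_of_finite)
  omega

/-- The situation at the bad line `V_R` of the chamber `S`. -/
structure BadLine (S : Sylow 2 G) (V F B R : Subgroup G) : Prop where
  hc : IsCharacteristicTwoType G
  D : DataLow (S : Subgroup G)
  bh : BH V F B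
  BS : B ≤ (S : Subgroup G)
  Bsq : ∀ b ∈ B, b * b = 1
  hR : IsParS (S : Subgroup G) R
  le : zl (S : Subgroup G) R ≤ V
  bad : ¬ zl (S : Subgroup G) R ≤ EE V F
  ZI : zc (S : Subgroup G) ≤ V ⊓ B
  Z2 : 2 < Nat.card (zc (S : Subgroup G))

namespace BadLine

variable (h : BadLine S V F B R)
include h

omit [Finite G] in
theorem SR : (S : Subgroup G) ≤ R := h.hR.le

/-- **(a)** for a conjugate by an element of `R` -/
theorem pairA_of {g z : G} (hg : g ∈ R) (hz : z ∈ zc (S : Subgroup G)) (hz1 : z ≠ 1) (hzF : g * z * g⁻¹ ∈ F) :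
    PairA (S : Subgroup G) R (centralizer ({z} : Set G)) := by
  have h1 : MulAut.conj g • zl (S : Subgroup G) R = zl (S : Subgroup G) R :=
    NOThreeL.Low.Key.conj_eq_of_norm' (MinSimple.VModule.le_normalizer_zl _ _ hg)
  exact pairA_of_bad h.D (h.bh.toHyp.comm.trans (centralizer_le h.bh.toHyp.F_le_V)) h.hR (by rw [h1]; exact h.le)
    (by rw [h1]; exact h.bad) hz hz1 hzF

theorem exists_pairA_two (h2 : F.relIndex (V ⊓ B) ≤ 2) :
    ∃ z ∈ zc (S : Subgroup G), z ≠ 1 ∧ PairA (S : Subgroup G) R (centralizer ({z} : Set G)) := by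
  obtain ⟨z, hz, hz1, hzF⟩ := exists_mem_of_le_two h2 h.ZI h.Z2
  exact ⟨z, hz, hz1, h.pairA_of (one_mem R) hz hz1 (by rwa [one_mul, inv_one, mul_one])⟩

omit [Finite G] in
/-- `[V, B, B] = 1` -/
theorem quad {w b b' : G} (hw : w ∈ V) (hb : b ∈ B) (hb' : b' ∈ B) :
    b' * (b * w * b⁻¹ * w⁻¹) = b * w * b⁻¹ * w⁻¹ * b' := by
  have h1 := h.bh.quad hw hb hb'
  have h2 : (c w b)⁻¹ = b * w * b⁻¹ * w⁻¹ := by rw [c]; group
  rw [← h2]
  calc b' * (c w b)⁻¹ = (c w b)⁻¹ * (c w b * b') * (c w b)⁻¹ := by group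
    _ = (c w b)⁻¹ * (b' * c w b) * (c w b)⁻¹ := by rw [h1]
    _ = (c w b)⁻¹ * b' := by group

theorem qb {U : Subgroup G} (hU : U ≤ V) (h2 : ¬ F.relIndex (V ⊓ B) ≤ 2) :
    NOThreeL.Low.Nat.QB (S : Subgroup G) U B (EE V F) where
  BS := h.BS
  ab := fun _ hb _ hc => h.bh.B_comm hb hc
  sq := h.Bsq
  quad := fun _ hv _ hb _ hc => h.quad (hU hv) hb hc
  t1 := fun _ hw hwE hall => h2 (h.bh.relIndex_le_two (hU hw) hwE hall)

/-- `V₀ ≰ E` -/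
theorem bad₀ {D₀ V₀ : Subgroup G} (hs : Split R (zl (S : Subgroup G) R) D₀ V₀) (hDZ : D₀ ≤ zc (S : Subgroup G)) :
    ¬ V₀ ≤ EE V F := by
  intro h1
  apply h.bad
  intro v hv
  obtain ⟨a, ha, d, hd, rfl⟩ := hs.mul v hv
  exact mul_mem (h1 ha) (h.bh.I_le_E (h.ZI (hDZ hd)))

/-- `Z ∩ V₀ ≠ 1` -/
theorem exists_z {D₀ V₀ : Subgroup G} (hs : Split R (zl (S : Subgroup G) R) D₀ V₀)
    (hDZ : D₀ ≤ zc (S : Subgroup G)) : ∃ z ∈ zc (S : Subgroup G), z ∈ V₀ ∧ z ≠ 1 := by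
  have : Fact (Nat.Prime 2) := ⟨Nat.prime_two⟩
  have hVS : V₀ ≤ (S : Subgroup G) := hs.le.trans (IsParS.zl_le_S h.hc h.hR)
  have hne : V₀ ≠ ⊥ := by
    rintro rfl
    exact h.bad₀ hs hDZ bot_le
  have h2 := Cfsg.Agent.PLocal.OffenderStep.inf_centralizer_ne_bot V₀ (S : Subgroup G)
    (S.isPGroup'.to_le hVS) S.isPGroup' (h.SR.trans hs.nV) hne
  obtain ⟨⟨x, hx⟩, hx1⟩ := (Subgroup.ne_bot_iff_exists_ne_one).1 h2
  refine ⟨x, MinSimple.VModule.mem_zc.2 ⟨hVS hx.1, fun b hb => mem_centralizer_iff.1 hx.2 b hb, ?_⟩, hx.1,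
    fun h0 => hx1 (Subtype.ext h0)⟩
  exact h.bh.toHyp.sq x (h.le (hs.le hx.1))

/-- **symmetric type** -/
theorem exists_pairA_sym {D₀ V₀ : Subgroup G} (hs : Split R (zl (S : Subgroup G) R) D₀ V₀)
    (hDZ : D₀ ≤ zc (S : Subgroup G)) {k m : ℕ} (M : SymK (S : Subgroup G) R (zl (S : Subgroup G) R) D₀ k m) :
    ∃ z ∈ zc (S : Subgroup G), z ≠ 1 ∧ PairA (S : Subgroup G) R (centralizer ({z} : Set G)) := by
  refine h.exists_pairA_two ?_
  by_contra h2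
  refine h.bad₀ hs hDZ (SymCase.le_of_t1 (symRes M hs h.SR) h.SR hs.nV h.BS ?_ ?_)
  · intro w hw b hb b' hb'
    exact h.quad (h.le (hs.le hw)) hb hb'
  · exact (h.qb (hs.le.trans h.le) h2).t1

/-- **natural type, radical `D₀ ≠ 1`** -/
theorem exists_pairA_nat {D₀ V₀ : Subgroup G} (hs : Split R (zl (S : Subgroup G) R) D₀ V₀)
    (hDZ : D₀ ≤ zc (S : Subgroup G)) (hD1 : D₀ ≠ ⊥)
    {K : Type} [Field K] {k : ℕ} (M : NatK K (S : Subgroup G) R (zl (S : Subgroup G) R) D₀ k) :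
    ∃ z ∈ zc (S : Subgroup G), z ≠ 1 ∧ PairA (S : Subgroup G) R (centralizer ({z} : Set G)) := by
  by_cases h2 : F.relIndex (V ⊓ B) ≤ 2
  · exact h.exists_pairA_two h2
  have hUV := hs.le.trans h.le
  have hQ := h.qb hUV h2
  have N := natRes M hs h.SR
  have hA : AmbW (S : Subgroup G) R V₀ := ⟨h.SR, hs.nV, fun a ha b hb =>
    NOThreeL.Low.Key.comm_of_c (NOThreeL.Low.Key.c_eq_one'
      ((mem_centralizer_iff.1 (h.bh.toHyp.comm (hUV hb)) a (hUV ha)))),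
    fun a ha => h.bh.toHyp.sq a (hUV ha)⟩
  -- a bad block
  obtain ⟨i, x, hx⟩ : ∃ i, NOThreeL.Low.Nat.Bad N (EE V F) i := by
    by_contra hall
    refine h.bad₀ hs hDZ fun v hv => mem_of_em N hv fun j => ?_
    by_contra h3
    exact hall ⟨j, _, h3⟩
  have hi : NOThreeL.Low.Nat.Bad N (EE V F) i := ⟨x, hx⟩
  -- `y ∈ I` is in the block `i` modulo `F`
  have key : ∀ y ∈ V ⊓ B, ∃ n ∈ V₀, (∀ j, j ≠ i → N.e n j = 0) ∧ n⁻¹ * y ∈ F := by
    intro y hy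
    obtain ⟨b, hb, hby⟩ := h.bh.surj (hUV (em_mem N i x)) hx hy
    have e : em N i x * (b * (em N i x)⁻¹ * b⁻¹) = c (em N i x) b := by rw [c]; group
    refine ⟨c (em N i x) b, ?_, fun j hj => ?_, hby⟩
    · rw [← e]
      exact mul_mem (em_mem N i x) (hA.cj (h.SR (h.BS hb)) (inv_mem (em_mem N i x)))
    · rw [← e]
      exact e_c hA hQ hi hb x hj
  obtain ⟨z, hz, hz0, hz1⟩ := h.exists_z hs hDZ
  obtain ⟨⟨d, hd⟩, hd1⟩ := (Subgroup.ne_bot_iff_exists_ne_one).1 hD1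
  have hd1' : d ≠ 1 := fun h0 => hd1 (Subtype.ext h0)
  obtain ⟨g, hg, y, hy, hy1, hyF⟩ := exists_conj_mem N hA hs.cD hDZ hs.inf hz hz0 hz1
    (MinSimple.VModule.mem_zc.1 hz).2.1 hd hd1' (key z (h.ZI hz)) (key (z * d) (h.ZI (mul_mem hz (hDZ hd))))
  exact ⟨y, hy, hy1, h.pairA_of hg hy hy1 hyF⟩

end BadLine

end Cfsg.Agent.Omega.NO3S.SOne
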