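import Cfsg.Agent.Omega.NO3S.Pas.KTwo
import Cfsg.Agent.Omega.NO3S.Act.OneNat

/-!
# GammaFF, (S1) (#21629): the frame

`V = X₀`, `F` maximal bad, `W = NOne.Flat.WW V F ≤ S`, `P ∈ P**`, `P₁ ∈ P*(S)` active (`W ≰ O₂(P₁)`), `L₁ = zl S P₁`.

* `SO S V F B P P₁` : what the geometry of `Y = ⟨P, P₁⟩` gives (lines of types `P^ν`, `P₁^ν`, `ν ∈ N_Y(S)`; `B` the group of the good
  lines up to the distance of the nearest bad line);
* `Gen S P₁ A p` : a generic element `p ∈ P₁` (radicals allowed);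
* `NT S P₁ q` : the interface to the natural modules (radicals allowed), `q` = order of the field;
* `Two S P₁` : the interface for the field of order 2 and for the symmetric groups.
-/

set_option autoImplicit false
set_option linter.unusedSectionVars false

namespace Cfsg.Agent.Omega.NO3S.SOne

open Subgroup Cfsg Cfsg.Agent.ZN Cfsg.Agent.Omega.MinPar
open Cfsg.Agent.Omega.NOne.Flat (EE NN)
open Cfsg.Agent.Omega.NOThreeL.Low.Key (BH)
open Cfsg.Agent.Omega.FFThm (ElemM OffM NoOverM)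
open Cfsg.Agent.Omega.FrameFF (cv)
open Cfsg.Agent.Omega.NOThreeL.NF (MinOffM)
open Cfsg.Agent.Omega.NOThreeL.NF.NatR (Const)
open scoped Pointwise

universe u

variable {G : Type u} [Group G]

/-- **The frame of (S1).** -/
structure SO [Finite G] (S : Sylow 2 G) (V F B P P₁ : Subgroup G) : Prop extends BH V F B where
  hc : IsCharacteristicTwoType G
  hP : IsParS (S : Subgroup G) P
  hP₁ : IsParS (S : Subgroup G) P₁
  PV : P ≤ normalizer (V : Set G)
  P₁V : P₁ ≤ normalizer (V : Set G)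
  ZV : zc (S : Subgroup G) ≤ V
  WS : NOne.Flat.WW V F ≤ (S : Subgroup G)
  act : ¬ NOne.Flat.WW V F ≤ o2 P₁
  /-- the lines (type `P₁`) of the chambers which contain `W` -/
  line0 : ∀ y ∈ P ⊔ P₁, NOne.Flat.WW V F ≤ MulAut.conj y • (S : Subgroup G) → MulAut.conj y • zl (S : Subgroup G) P₁ ≤ B
  /-- the good lines of the chambers at distance 1 -/
  line1 : ∀ g ∈ P₁, ∀ h ∈ P, h ∈ normalizer ((S : Subgroup G) : Set G) →
    MulAut.conj (g * h) • zl (S : Subgroup G) P₁ ≤ EE V F → MulAut.conj (g * h) • zl (S : Subgroup G) P₁ ≤ B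
  BS : ∀ g ∈ P₁, B ≤ MulAut.conj g • (S : Subgroup G)

/-- **A generic element** (radicals allowed): `P₁ = ⟨S, A^(p⁻¹)⟩`; `x ∈ L₁` centralised by all `A^s`, `x^p ∈ [L₁, A]` ⟹ `x = 1`. -/
structure Gen (S P₁ A : Subgroup G) (p : G) : Prop where
  mem : p ∈ P₁
  gen : P₁ ≤ S ⊔ MulAut.conj p⁻¹ • A
  dis : ∀ x ∈ zl S P₁, (∀ s ∈ S, MulAut.conj s • A ≤ centralizer ({x} : Set G)) → p * x * p⁻¹ ∈ ⁅zl S P₁, A⁆ → x = 1

/-- `R = ⟨[L₁, A]^S⟩` -/
def RR (S P₁ A : Subgroup G) : Subgroup G := ⨆ s : S, MulAut.conj (s : G) • ⁅zl S P₁, A⁆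

/-- **The interface to the natural modules**, `q` the order of the field; `L₁ = zl S P₁`, radical `cv S P₁`. -/
structure NT (S P₁ : Subgroup G) (q : ℕ) : Prop where
  four : 4 ≤ q
  no : NoOverM (zl S P₁) P₁
  /-- an offender with constant commutators is one full root group -/
  const : ∀ A ≤ S, OffM (zl S P₁) A → Const (zl S P₁) A → MinOffM (zl S P₁) S A
  idx : ∀ A, MinOffM (zl S P₁) S A → (centralizer (zl S P₁ : Set G)).relIndex A = q
  idx' : ∀ A, MinOffM (zl S P₁) S A → (centralizer (A : Set G)).relIndex (zl S P₁) = q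
  /-- `C_A(r) = C_A(L₁)` for `r ∈ L₁ - C(A)` -/
  cent : ∀ A, MinOffM (zl S P₁) S A → ∀ r ∈ zl S P₁, r ∉ centralizer (A : Set G) → ∀ a ∈ A, a * r = r * a →
    a ∈ centralizer (zl S P₁ : Set G)
  /-- the root groups of `S` on `L₁` are conjugate in `S` -/
  cls : ∀ A A', MinOffM (zl S P₁) S A → MinOffM (zl S P₁) S A' →
    ∃ s ∈ S, A' ⊔ o2 P₁ = MulAut.conj s • (A ⊔ o2 P₁)
  gen : ∀ A, MinOffM (zl S P₁) S A → Const (zl S P₁) A → ∃ p, Gen S P₁ A p
  dis : ∀ A, MinOffM (zl S P₁) S A → Const (zl S P₁) A → RR S P₁ A ⊓ cv S P₁ = ⊥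

/-- The groups `A ≤ S` which move `L₁`, with constant commutators. -/
structure KA (S P₁ A : Subgroup G) : Prop where
  le : A ≤ S
  off : OffM (zl S P₁) A
  const : Const (zl S P₁) A

/-- **The interface for `q = 2`** (field of order 2, symmetric groups). -/
structure Two (S P₁ : Subgroup G) : Prop where
  cls : ∀ A A', KA S P₁ A → KA S P₁ A' → ∃ s ∈ S, ⁅zl S P₁, A'⁆ = MulAut.conj s • ⁅zl S P₁, A⁆
  pt : ∀ A, KA S P₁ A → ∃ r, r ≠ 1 ∧ ⁅zl S P₁, A⁆ = zpowers r ∧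
    ∃ g ∈ P₁, g * r * g⁻¹ ≠ r ∧ ∀ s ∈ S, s * r * s⁻¹ ≠ r → g * (s * r * s⁻¹) * g⁻¹ = s * r * s⁻¹

end Cfsg.Agent.Omega.NO3S.SOne
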