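import Cfsg.Agent.Omega.NO3S.SOne.NTBase
import Cfsg.Agent.Omega.NO3S.SOne.Frame

/-!
# GammaFF, (S1) (#21629): the fields `gen` and `dis` of `NT` for natural modules with a radical

`M : NatKM F S P (zl S P) D k`, `D = cv S P` arbitrary.

* `le_of_lo` : `S ≤ K ≤ P` contains an element acting as `lo 1` on one summand and trivially on `D`: `K = P`;
* `exists_gen` : a generic element (the Weyl element of the summand of `A`);
* `RR_inf` : `RR S P A ⊓ cv S P = ⊥`.
-/

set_option autoImplicit false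
set_option linter.unusedSectionVars false

namespace Cfsg.Agent.Omega.NO3S.SOne.NatD

open Subgroup Cfsg Cfsg.Agent.ZN Cfsg.Agent.ZN.ChoiceBase Cfsg.Agent.Omega.MinPar
open Cfsg.Agent.Omega.FFThm (ElemM OffM NoOverM ConclM NatKM ActsSL relIndex_le_iff)
open Cfsg.Agent.Omega.FrameFF (cv)
open Cfsg.Agent.Omega.NatPair (ap ap_mul ap_one ap_inv_ap ap_zero' ap_one' ext2 exists_ap ap_inj)
open Cfsg.Agent.Omega.NOThreeL.NF (MinOffM)
open Cfsg.Agent.Omega.NOThreeL.NF.NatR (Const ap_up ap_lo)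
open Cfsg.Agent.Lib.SL2Mat
open scoped commutatorElement Pointwise

universe u

variable {G : Type u} [Group G] {F : Type} [Field F] {k : ℕ}

/-- an element acting trivially on the coordinates other than `j` -/
theorem eq_mulSingle {S P V D : Subgroup G} {M : NatKM F S P V D k} {h : G}
    {B : Fin k → Matrix.SpecialLinearGroup (Fin 2) F} (hB : ∀ v ∈ V, ∀ i, M.e (h * v * h⁻¹) i = ap (B i) (M.e v i))
    {j : Fin k} (hfix : ∀ v ∈ V, M.e v j = 0 → M.e (h * v * h⁻¹) = M.e v) : B = Pi.mulSingle j (B j) := by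
  classical
  funext i
  by_cases hi : i = j
  · subst hi; rw [Pi.mulSingle_eq_same]
  · rw [Pi.mulSingle_eq_of_ne hi]
    refine ap_inj fun x => ?_
    obtain ⟨v, hv, hvi, hvj⟩ := exists_pt M i x
    have h1 := hB v hv i
    rw [hfix v hv (hvj j (Ne.symm hi)), hvi] at h1
    rw [← h1, ap_one]

/-- the elements of `K ≥ S` cover `SL₂(F)^k` as soon as one of them acts as `lo 1` on one summand -/
theorem le_of_lo [CharP F 2] {S P D K : Subgroup G} (M : NatKM F S P (zl S P) D k)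
    (hA : AmbD S P (zl S P) D) (hP : IsParS S P)
    (hSK : S ≤ K) (hKP : K ≤ P) {g : G} (hg : g ∈ K) {j : Fin k}
    (hac : ActsSL M.e (zl S P) D g (Pi.mulSingle j (lo 1))) : P ≤ K := by
  classical
  have hSP := hP.le
  refine NOThreeL.Low.eq_of_sup hP hSK hKP ?_
  set K' : Subgroup G := K ⊔ (P ⊓ centralizer (zl S P : Set G)) with hK'
  have hKK' : K ≤ K' := le_sup_left
  have hCK' : P ⊓ centralizer (zl S P : Set G) ≤ K' := le_sup_right
  have hK'P : K' ≤ P := _root_.sup_le hKP inf_le_left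
  let Γ : Subgroup (Fin k → Matrix.SpecialLinearGroup (Fin 2) F) :=
    { carrier := {B | ∃ m ∈ K', ActsSL M.e (zl S P) D m B}
      mul_mem' := by
        rintro B B' ⟨m, hm, hmB⟩ ⟨m', hm', hmB'⟩
        exact ⟨m * m', mul_mem hm hm', act_mul hA (hK'P hm') hmB hmB'⟩
      one_mem' := ⟨1, one_mem _, act_cent hA.DV (one_mem _)⟩
      inv_mem' := by
        rintro B ⟨m, hm, hmB⟩
        exact ⟨m⁻¹, inv_mem hm, act_inv hA (hK'P hm) hmB⟩ }
  have hup : ∀ i c, Pi.mulSingle i (up c) ∈ Γ := by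
    intro i c
    obtain ⟨t, ht, hac⟩ := M.unip (Pi.single i c)
    rw [single_up] at hac
    exact ⟨t, hKK' (hSK ht), hac⟩
  have hlo1 : Pi.mulSingle j (lo 1) ∈ Γ := ⟨g, hKK' hg, hac⟩
  -- an element of `P` acting as an element of `Γ` is in `K'`
  have hmem : ∀ h ∈ P, ∀ B, ActsSL M.e (zl S P) D h B → B ∈ Γ → h ∈ K' := by
    rintro h hh B hB ⟨m, hm, hmB⟩
    have h2 : m⁻¹ * h ∈ K' :=
      hCK' (mem_inf.2 ⟨mul_mem (inv_mem (hK'P hm)) hh, cent_of_same hA hh (hK'P hm) hB hmB⟩)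
    have h3 := mul_mem hm h2
    rwa [mul_inv_cancel_left] at h3
  -- the summand `j`
  have hw : (Pi.mulSingle j (wm (1 : F) one_ne_zero) : Fin k → Matrix.SpecialLinearGroup (Fin 2) F) ∈ Γ := by
    have h1 : wm (1 : F) one_ne_zero = lo 1 * up 1 * lo 1 := by
      rw [wm_eq, inv_one, CharTwo.neg_eq]
    rw [h1, Pi.mulSingle_mul, Pi.mulSingle_mul]
    exact mul_mem (mul_mem hlo1 (hup j 1)) hlo1
  have hlo : ∀ c, Pi.mulSingle j (lo c) ∈ Γ := by
    intro c
    have h1 : lo c = wm (1 : F) one_ne_zero * up (-c) * (wm (1 : F) one_ne_zero)⁻¹ := by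
      rw [wm_up, mul_inv_cancel_right]
      congr 1
      ring
    rw [h1, Pi.mulSingle_mul, Pi.mulSingle_mul, Pi.mulSingle_inv]
    exact mul_mem (mul_mem hw (hup j _)) (inv_mem hw)
  have hj : ∀ B, Pi.mulSingle j B ∈ Γ := by
    intro B
    obtain ⟨a, b, c, d, h1⟩ := exists_up_lo B
    rw [h1, Pi.mulSingle_mul, Pi.mulSingle_mul, Pi.mulSingle_mul]
    exact mul_mem (mul_mem (mul_mem (hup j a) (hlo b)) (hup j c)) (hlo d)
  -- all summands
  have hall : ∀ i B, Pi.mulSingle i B ∈ Γ := by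
    intro i B
    obtain ⟨t, ht, htr⟩ := M.trans j i
    obtain ⟨h, hh, hB⟩ := M.lift (Pi.mulSingle i B)
    have htP := hSP ht
    have h1 : t⁻¹ * h * t ∈ P := mul_mem (mul_mem (inv_mem htP) hh) htP
    obtain ⟨B', hB'⟩ := M.norm t⁻¹ (inv_mem htP) h hh _ hB.1
    have hB'' : ∀ v ∈ zl S P, ∀ i', M.e (t⁻¹ * h * t * v * (t⁻¹ * h * t)⁻¹) i' = ap (B' i') (M.e v i') := by
      intro v hv i'
      have h2 := hB' v hv i'
      rwa [inv_inv] at h2
    have hfix : ∀ v ∈ zl S P, M.e v j = 0 → M.e (t⁻¹ * h * t * v * (t⁻¹ * h * t)⁻¹) = M.e v := by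
      intro v hv h0
      have hv' : t * v * t⁻¹ ∈ zl S P := hA.cm htP hv
      have h3 : M.e (t * v * t⁻¹) i = 0 := (htr v hv).2 h0
      have h4 : M.e (h * (t * v * t⁻¹) * h⁻¹) = M.e (t * v * t⁻¹) := by
        funext i'
        rw [hB.1 _ hv' i']
        by_cases hi' : i' = i
        · subst hi'
          rw [Pi.mulSingle_eq_same, h3]
          refine ext2 ?_ ?_
          · rw [ap_zero']; simp
          · rw [ap_one']; simp
        · rw [Pi.mulSingle_eq_of_ne hi', ap_one]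
      rw [e_eq_iff (hA.cm hh hv') hv'] at h4
      rw [e_eq_iff (hA.cm h1 hv) hv]
      have h5 := hA.cmD (inv_mem htP) h4
      have e1 : t⁻¹ * (h * (t * v * t⁻¹) * h⁻¹ * (t * v * t⁻¹)⁻¹) * t⁻¹⁻¹ =
        t⁻¹ * h * t * v * (t⁻¹ * h * t)⁻¹ * v⁻¹ := by group
      rwa [e1] at h5
    have h5 := eq_mulSingle hB'' hfix
    have hact : ActsSL M.e (zl S P) D (t⁻¹ * h * t) (Pi.mulSingle j (B' j)) := by
      rw [← h5]
      refine ⟨hB'', fun d hd => ?_⟩
      have h6 := hB.2 _ (hA.cmD htP hd)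
      calc t⁻¹ * h * t * d = t⁻¹ * (h * (t * d * t⁻¹)) * t := by group
        _ = t⁻¹ * (t * d * t⁻¹ * h) * t := by rw [h6]
        _ = d * (t⁻¹ * h * t) := by group
    have h6 : t⁻¹ * h * t ∈ K' := hmem _ h1 _ hact (hj _)
    have h7 : h ∈ K' := by
      have h8 := mul_mem (mul_mem (hKK' (hSK ht)) h6) (inv_mem (hKK' (hSK ht)))
      have e2 : t * (t⁻¹ * h * t) * t⁻¹ = h := by group
      rwa [e2] at h8
    exact ⟨h, h7, hB⟩
  have hΓ : ∀ B, B ∈ Γ := fun B => pi_mem_of_mulSingle_mem B fun i => hall i (B i)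
  exact M.gen K' (hSK.trans hKK') fun h hh A hA' => hmem h hh A hA' (hΓ A)

/-- **the field `gen` of `NT`** -/
theorem exists_gen [Finite G] [Finite F] [CharP F 2] {S P : Subgroup G} (M : NatKM F S P (zl S P) (cv S P) k)
    (hA : AmbD S P (zl S P) (cv S P)) (hP : IsParS S P) {A : Subgroup G} (hmin : MinOffM (zl S P) S A)
    (hc : Const (zl S P) A) : ∃ p, Gen S P A p := by
  classical
  have hSP := hP.le
  obtain ⟨i, hr⟩ := One.of_min hA M hmin
  obtain ⟨g, hg, hgac⟩ := M.lift (Pi.mulSingle i (wm 1 one_ne_zero))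
  have hAP : A ≤ P := hmin.le.trans hSP
  refine ⟨g⁻¹, inv_mem hg, ?_, ?_⟩
  · rw [inv_inv]
    obtain ⟨a, ha, hac⟩ := hr.ex (-1)
    have haP := hAP ha
    have h1 := act_mul hA (inv_mem hg) (act_mul hA haP hgac hac) (act_inv hA hg hgac)
    have e1 : (Pi.mulSingle i (wm 1 one_ne_zero) : Fin k → Matrix.SpecialLinearGroup (Fin 2) F) *
        Pi.mulSingle i (up (-1)) * (Pi.mulSingle i (wm 1 one_ne_zero))⁻¹ = Pi.mulSingle i (lo 1) := by
      rw [← Pi.mulSingle_mul, ← Pi.mulSingle_inv, ← Pi.mulSingle_mul]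
      congr 1
      rw [wm_up, mul_inv_cancel_right]
      congr 1
      ring
    rw [e1] at h1
    refine le_of_lo M hA hP le_sup_left (_root_.sup_le hSP ?_)
      ((le_sup_right : MulAut.conj g • A ≤ _) (NOne.Frame.conj_mem ha)) h1
    rintro _ ⟨x, hx, rfl⟩
    exact mul_mem (mul_mem hg (hAP hx)) (inv_mem hg)
  · intro x hx hcx hpx
    have hpe := comm_e (M := M) hA hr hpx
    have h1 : ∀ j, M.e x j 1 = 0 := by
      intro j
      obtain ⟨t, ht, hrt⟩ := exists_one hA M hmin j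
      refine hrt.zero_of_cent hx ?_
      rw [mem_centralizer_iff]
      intro y hy
      have h2 : y ∈ centralizer ({x} : Set G) := hcx t ht hy
      exact mem_centralizer_singleton_iff.1 h2
    have hac' := act_inv hA hg hgac
    have h2 : ∀ j, M.e (g⁻¹ * x * g⁻¹⁻¹) j = ap ((Pi.mulSingle i (wm 1 one_ne_zero) :
        Fin k → Matrix.SpecialLinearGroup (Fin 2) F)⁻¹ j) (M.e x j) := hac'.1 x hx
    have hx0 : M.e x = 0 := by
      funext j
      by_cases hj : j = i
      · subst hj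
        have h3 := hpe.2.1
        rw [h2 j] at h3
        have h4 : ap (wm (1 : F) one_ne_zero) (ap ((Pi.mulSingle j (wm 1 one_ne_zero) :
          Fin k → Matrix.SpecialLinearGroup (Fin 2) F)⁻¹ j) (M.e x j)) = M.e x j := by
          rw [Pi.inv_apply, Pi.mulSingle_eq_same, ← ap_mul, mul_inv_cancel, ap_one]
        refine ext2 ?_ (h1 j)
        rw [← h4, ap_zero', h3, wm_00]
        simp
      · have h3 := hpe.2.2 j hj
        rw [h2 j, Pi.inv_apply, Pi.mulSingle_eq_of_ne hj, inv_one, ap_one] at h3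
        rw [h3]
        rfl
    have hxD : x ∈ cv S P := (M.ker x hx).1 hx0
    have h5 : g⁻¹ * x * g⁻¹⁻¹ = x := by
      rw [hac'.2 x hxD, mul_inv_cancel_right]
    have h6 : x ∈ (⁅zl S P, A⁆ : Subgroup G) ⊓ cv S P := ⟨by rw [← h5]; exact hpx, hxD⟩
    rw [comm_inf (M := M) hA hr hmin.off hc] at h6
    exact mem_bot.1 h6

/-- **the field `dis` of `NT`** -/
theorem RR_inf [Finite G] [Finite F] {S P : Subgroup G} (M : NatKM F S P (zl S P) (cv S P) k)
    (hA : AmbD S P (zl S P) (cv S P)) {A : Subgroup G} (hmin : MinOffM (zl S P) S A)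
    (hc : Const (zl S P) A) : RR S P A ⊓ cv S P = ⊥ := by
  classical
  have hSV : S ≤ normalizer (zl S P : Set G) := hA.SP.trans hA.PV
  obtain ⟨i, hr⟩ := One.of_min hA M hmin
  choose t ht hrt using exists_one hA M hmin
  set Rj : Fin k → Subgroup G := fun j => ⁅zl S P, MulAut.conj (t j) • A⁆ with hRj
  have hconj : ∀ s ∈ S, MulAut.conj s • (⁅zl S P, A⁆ : Subgroup G) = ⁅zl S P, MulAut.conj s • A⁆ :=
    fun s hs => (NOThreeL.NF.NatR.comm_cj s (hSV hs)).symm
  have hRR : RR S P A ≤ ⨆ j, Rj j := by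
    refine iSup_le fun s => ?_
    rw [hconj s s.2]
    obtain ⟨j, hj⟩ := One.of_min hA M (NOThreeL.NF.NatR.minOffM_cj hSV hmin s.2)
    have h1 : (⁅zl S P, MulAut.conj (s : G) • A⁆ : Subgroup G) = Rj j := hj.comm_same hA (hrt j)
    rw [h1]
    exact le_iSup Rj j
  have hinf : ∀ j, ∀ x ∈ Rj j, x ∈ cv S P → x = 1 := by
    intro j x hx hxD
    have h1 : x ∈ MulAut.conj (t j) • (⁅zl S P, A⁆ : Subgroup G) := by rw [hconj _ (ht j)]; exact hx
    obtain ⟨y, hy, hyx⟩ := h1
    have hyx' : t j * y * (t j)⁻¹ = x := hyx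
    have h2 := hA.cmD (inv_mem (hA.SP (ht j))) hxD
    have e : (t j)⁻¹ * x * (t j)⁻¹⁻¹ = y := by rw [← hyx']; group
    rw [e] at h2
    have h3 : y ∈ (⁅zl S P, A⁆ : Subgroup G) ⊓ cv S P := ⟨hy, h2⟩
    rw [comm_inf (M := M) hA hr hmin.off hc] at h3
    rw [← hyx', mem_bot.1 h3, mul_one, mul_inv_cancel]
  have hRje : ∀ j, ∀ x ∈ Rj j, x ∈ zl S P ∧ ∀ l, l ≠ j → M.e x l = 0 := fun j x hx =>
    ⟨(comm_e hA (hrt j) hx).1, (comm_e hA (hrt j) hx).2.2⟩
  have key : ∀ J : Finset (Fin k), ∀ x ∈ (⨆ j ∈ J, Rj j), x ∈ zl S P ∧ (∀ l, l ∉ J → M.e x l = 0) ∧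
      (x ∈ cv S P → x = 1) := by
    intro J
    induction J using Finset.induction_on with
    | empty =>
      intro x hx
      have h1 : x = 1 := by simpa using hx
      rw [h1]
      exact ⟨one_mem _, fun l _ => by rw [e_one]; rfl, fun _ => rfl⟩
    | insert a J' ha ih =>
      intro x hx
      rw [Finset.iSup_insert] at hx
      have hR'V : (⨆ j ∈ J', Rj j) ≤ zl S P := fun y hy => (ih y hy).1
      have hn : Rj a ≤ normalizer ((⨆ j ∈ J', Rj j : Subgroup G) : Set G) := by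
        intro y hy
        have hyV := (hRje a y hy).1
        refine mem_normalizer_iff.2 fun z => ?_
        constructor
        · intro hz
          rw [hA.ab y hyV z (hR'V hz), mul_inv_cancel_right]; exact hz
        · intro hz
          have h1 : z = y * z * y⁻¹ := by
            have h2 := hA.ab y⁻¹ (inv_mem hyV) _ (hR'V hz)
            calc z = y⁻¹ * (y * z * y⁻¹) * y := by group
              _ = y * z * y⁻¹ * y⁻¹ * y := by rw [h2]
              _ = y * z * y⁻¹ := by group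
          rw [h1]; exact hz
      have hx' : x ∈ ((Rj a ⊔ ⨆ j ∈ J', Rj j : Subgroup G) : Set G) := hx
      rw [coe_mul_of_left_le_normalizer_right _ _ hn] at hx'
      obtain ⟨y, hy, z, hz, rfl⟩ := hx'
      obtain ⟨hyV, hye⟩ := hRje a y hy
      obtain ⟨hzV, hze, hz1⟩ := ih z hz
      dsimp only
      refine ⟨mul_mem hyV hzV, fun l hl => ?_, fun hD => ?_⟩
      · rw [Finset.mem_insert, not_or] at hl
        rw [M.mul y hyV z hzV, Pi.add_apply, hye l hl.1, hze l hl.2, add_zero]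
      · have h1 := (M.ker _ (mul_mem hyV hzV)).2 hD
        rw [M.mul y hyV z hzV] at h1
        have hy0 : M.e y = 0 := by
          funext l
          by_cases hl : l = a
          · subst hl
            have h2 := congrFun h1 l
            rw [Pi.add_apply, hze l ha, add_zero] at h2
            exact h2
          · exact hye l hl
        have hyD : y ∈ cv S P := (M.ker y hyV).1 hy0
        have hy1 := hinf a y hy hyD
        rw [hy1, one_mul] at hD ⊢
        exact hz1 hD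
  refine eq_bot_iff.2 fun x hx => mem_bot.2 ?_
  have h1 := hRR hx.1
  have h2 : x ∈ ⨆ j ∈ (Finset.univ : Finset (Fin k)), Rj j := by simpa using h1
  exact (key _ x h2).2.2 hx.2

end Cfsg.Agent.Omega.NO3S.SOne.NatD
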