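import Cfsg.Agent.Omega.NO3S.SOne.NTBase
import Cfsg.Agent.Omega.NO3S.SOne.Frame

/-!
# GammaFF, (S1): the fields `const`, `idx`, `idx'`, `cent`, `cls` of `NT` for a natural module with radical

`M : NatKM F S P₁ (zl S P₁) (cv S P₁) k`, `P₁ ∈ P*(S)`; `nt_of` : `NT S P₁ |F|` from `4 ≤ |F|`, `NoOverM`, `gen`, `dis`.
-/

set_option autoImplicit false
set_option linter.unusedSectionVars false

namespace Cfsg.Agent.Omega.NO3S.SOne.NTNat

open Subgroup Cfsg Cfsg.Agent.ZN Cfsg.Agent.Omega.MinPar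
open Cfsg.Agent.Omega.FFThm (ElemM OffM NoOverM NatKM)
open Cfsg.Agent.Omega.FrameFF (cv)
open Cfsg.Agent.Omega.NOThreeL.NF (MinOffM)
open Cfsg.Agent.Omega.NOThreeL.NF.NatR (Const)
open Cfsg.Agent.Omega.NO3S.SOne.NatD
open scoped Pointwise

universe u

variable {G : Type u} [Group G] [Finite G] {F : Type} [Field F] [Finite F] {S : Sylow 2 G} {P₁ : Subgroup G} {k : ℕ}

/-- **cls**: the root groups of `S` on `zl S P₁` are conjugate in `S`, modulo `O₂(P₁)` -/
theorem cls (hG : IsCharacteristicTwoType G) (hP : IsParS (S : Subgroup G) P₁)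
    (M : NatKM F (S : Subgroup G) P₁ (zl (S : Subgroup G) P₁) (cv (S : Subgroup G) P₁) k) {A A' : Subgroup G}
    (h : MinOffM (zl (S : Subgroup G) P₁) (S : Subgroup G) A)
    (h' : MinOffM (zl (S : Subgroup G) P₁) (S : Subgroup G) A') :
    ∃ s ∈ (S : Subgroup G), A' ⊔ o2 P₁ = MulAut.conj s • (A ⊔ o2 P₁) := by
  have hA := AmbD.of hG hP M
  obtain ⟨j, hj⟩ := One.of_min hA M h'
  obtain ⟨t, ht, htj⟩ := exists_one hA M h j
  have ho : (S : Subgroup G) ⊓ centralizer (zl (S : Subgroup G) P₁ : Set G) = o2 P₁ := hP.inf_centralizer S hG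
  refine ⟨t, ht, ?_⟩
  have h1 := hj.sup_same hA htj
  rw [ho] at h1
  rw [h1, smul_sup]
  congr 1
  have h2 : t ∈ normalizer (o2 P₁ : Set G) := MinSimple.VModule.le_normalizer_o2 P₁ (hP.le ht)
  exact (NOThreeL.Pair.conj_eq_of_mem h2).symm

/-- **`NT`** from `gen` and `dis` -/
theorem nt_of (hG : IsCharacteristicTwoType G) (hP : IsParS (S : Subgroup G) P₁)
    (M : NatKM F (S : Subgroup G) P₁ (zl (S : Subgroup G) P₁) (cv (S : Subgroup G) P₁) k) (h4 : 4 ≤ Nat.card F)
    (no : NoOverM (zl (S : Subgroup G) P₁) P₁)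
    (gen : ∀ A, MinOffM (zl (S : Subgroup G) P₁) (S : Subgroup G) A → Const (zl (S : Subgroup G) P₁) A →
      ∃ p, Gen (S : Subgroup G) P₁ A p)
    (dis : ∀ A, MinOffM (zl (S : Subgroup G) P₁) (S : Subgroup G) A → Const (zl (S : Subgroup G) P₁) A →
      RR (S : Subgroup G) P₁ A ⊓ cv (S : Subgroup G) P₁ = ⊥) : NT (S : Subgroup G) P₁ (Nat.card F) := by
  have hA := AmbD.of hG hP M
  refine
    { four := h4
      no := no
      const := fun A hAS hoff hc => ?_
      idx := fun A h => ?_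
      idx' := fun A h => ?_
      cent := fun A h r hr hrA a ha har => ?_
      cls := fun A A' h h' => cls hG hP M h h'
      gen := gen
      dis := dis }
  · obtain ⟨i, hi⟩ := One.of_const hA M hAS hoff hc
    exact hi.min hA hoff
  · obtain ⟨i, hi⟩ := One.of_min hA M h
    exact hi.relIndex hA
  · obtain ⟨i, hi⟩ := One.of_min hA M h
    exact hi.relIndex' hA h.off
  · obtain ⟨i, hi⟩ := One.of_min hA M h
    exact hi.cent hA h.off hr hrA ha har

end Cfsg.Agent.Omega.NO3S.SOne.NTNat
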