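import Mathlib

/-!
# LEMMA PAR (the parity argument for `q₀ = 2` in (S1) of GammaFF; bb OMEGA, helper480)

`V` elementary abelian (only: commutative), normalised by `P` and `P₁`, `C_V(P) = 1`; `𝒲` is a set
of pairs `(W',r)` (a subgroup and its centre `r ∈ V`) closed under conjugation by `⟨P,P₁⟩`.
`P` is passive: `W' ≤ S` implies `W'^p ≤ S`.  If `W' ≤ S` is active for `P₁` (`W' ≰ Q₁`) then its
centre is an `S`-conjugate of `r₁`.  Some `g₀ ∈ P₁` moves `r₁` and fixes all other `S`-conjugates.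
Contradiction.
-/

set_option linter.unusedSectionVars false

open scoped Pointwise Classical
open MulAut

namespace Cfsg.Agent.Omega.NO3S.SOne.Par

universe u

variable {G : Type u} [Group G] [Finite G]

/-- conjugation of a pair. -/
def cp (g : G) (θ : Subgroup G × G) : Subgroup G × G := (conj g • θ.1, g * θ.2 * g⁻¹)

theorem cp_mul (g h : G) (θ : Subgroup G × G) : cp (g * h) θ = cp g (cp h θ) := by
  unfold cp
  refine Prod.ext ?_ ?_
  · simp only [map_mul, mul_smul]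
  · simp only [mul_inv_rev, mul_assoc]

theorem cp_one (θ : Subgroup G × G) : cp 1 θ = θ := by
  unfold cp
  refine Prod.ext ?_ ?_
  · simp
  · simp

theorem cp_inj (g : G) : Function.Injective (cp g) := by
  intro a b h
  have h2 := congrArg (cp g⁻¹) h
  rwa [← cp_mul, ← cp_mul, inv_mul_cancel, cp_one, cp_one] at h2

/-- the group generated by all `W' ≤ S` with centre `r`. -/
def gen (𝒲 : Set (Subgroup G × G)) (S : Subgroup G) (r : G) : Subgroup G :=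
  sSup {W | (W, r) ∈ 𝒲 ∧ W ≤ S}

theorem gen_le (𝒲 : Set (Subgroup G × G)) (S : Subgroup G) (r : G) : gen 𝒲 S r ≤ S :=
  sSup_le fun _ h => h.2

theorem le_gen {𝒲 : Set (Subgroup G × G)} {S W : Subgroup G} {r : G} (h : (W, r) ∈ 𝒲) (hS : W ≤ S) :
    W ≤ gen 𝒲 S r := le_sSup ⟨h, hS⟩

theorem conj_gen_le {𝒲 : Set (Subgroup G × G)} {S : Subgroup G} {r : G} {K : Subgroup G} {g : G}
    (h : ∀ W, (W, r) ∈ 𝒲 → W ≤ S → conj g • W ≤ K) : conj g • gen 𝒲 S r ≤ K := by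
  rw [Subgroup.pointwise_smul_subset_iff]
  refine sSup_le fun W hW => ?_
  rw [← Subgroup.pointwise_smul_subset_iff]
  exact h W hW.1 hW.2

/-- the commutative group `V`. -/
abbrev cgr (V : Subgroup G) (hVc : ∀ x ∈ V, ∀ y ∈ V, x * y = y * x) : CommGroup V :=
  { (inferInstance : Group V) with mul_comm := fun a b => Subtype.ext (hVc a a.2 b b.2) }

/-- the product of the centres over a finite set of pairs (in the commutative group `V`). -/
noncomputable def pr (V : Subgroup G) (hVc : ∀ x ∈ V, ∀ y ∈ V, x * y = y * x)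
    (T : Finset (Subgroup G × G)) : V :=
  let _ := cgr V hVc
  ∏ θ ∈ T, if h : θ.2 ∈ V then (⟨θ.2, h⟩ : V) else 1

/-- conjugation by `g ∈ N(V)` on `V`. -/
def cj {V : Subgroup G} (g : G) (hg : g ∈ Subgroup.normalizer (V : Set G)) : V →* V where
  toFun v := ⟨g * v * g⁻¹, (Subgroup.mem_normalizer_iff.1 hg v).1 v.2⟩
  map_one' := by ext; simp
  map_mul' a b := by ext; simp [mul_assoc]

theorem cj_pr {V : Subgroup G} (hVc : ∀ x ∈ V, ∀ y ∈ V, x * y = y * x) {g : G}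
    (hg : g ∈ Subgroup.normalizer (V : Set G))
    {T : Finset (Subgroup G × G)} (hT : ∀ θ ∈ T, cp g θ ∈ T) : cj g hg (pr V hVc T) = pr V hVc T := by
  let _ := cgr V hVc
  unfold pr
  rw [map_prod]
  have himg : T.image (cp g) = T := by
    apply Finset.eq_of_subset_of_card_le
    · intro θ hθ
      obtain ⟨η, hη, rfl⟩ := Finset.mem_image.1 hθ
      exact hT η hη
    · rw [Finset.card_image_of_injective _ (cp_inj g)]
  conv_rhs => rw [← himg]
  rw [Finset.prod_image (fun a _ b _ h => cp_inj g h)]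
  refine Finset.prod_congr rfl fun θ _ => ?_
  have hiff : (cp g θ).2 ∈ V ↔ θ.2 ∈ V := (Subgroup.mem_normalizer_iff.1 hg θ.2).symm
  by_cases h : θ.2 ∈ V
  · rw [dif_pos h, dif_pos (hiff.2 h)]
    rfl
  · rw [dif_neg h, dif_neg (fun h' => h (hiff.1 h')), map_one]

/-- **LEMMA PAR.** -/
theorem par {S P P₁ Q₁ V : Subgroup G} (hVc : ∀ x ∈ V, ∀ y ∈ V, x * y = y * x)
    (hPV : P ≤ Subgroup.normalizer (V : Set G)) (hP₁V : P₁ ≤ Subgroup.normalizer (V : Set G))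
    (hSP : S ≤ P) (hQn : ∀ g ∈ P₁, conj g • Q₁ ≤ Q₁) (hQS : Q₁ ≤ S)
    (hCP : ∀ v ∈ V, (∀ p ∈ P, p * v * p⁻¹ = v) → v = 1)
    (𝒲 : Set (Subgroup G × G)) (hV : ∀ w ∈ 𝒲, w.2 ∈ V)
    (hconj : ∀ w ∈ 𝒲, ∀ g ∈ P ⊔ P₁, cp g w ∈ 𝒲)
    (h1 : ∀ w ∈ 𝒲, w.1 ≤ S → ∀ p ∈ P, conj p • w.1 ≤ S)
    {W₁ : Subgroup G} {r₁ : G} (hw : (W₁, r₁) ∈ 𝒲) (hW₁S : W₁ ≤ S) (hW₁Q : ¬ W₁ ≤ Q₁)
    (h2 : ∀ w ∈ 𝒲, w.1 ≤ S → ¬ w.1 ≤ Q₁ → ∃ s ∈ S, w.2 = s * r₁ * s⁻¹)
    {g₀ : G} (hg₀ : g₀ ∈ P₁) (hmv : g₀ * r₁ * g₀⁻¹ ≠ r₁)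
    (hfx : ∀ s ∈ S, s * r₁ * s⁻¹ ≠ r₁ → g₀ * (s * r₁ * s⁻¹) * g₀⁻¹ = s * r₁ * s⁻¹) : False := by
  let _ := cgr V hVc
  set D₁ : Subgroup G := gen 𝒲 S r₁ with hD₁
  set Y : Subgroup G := P ⊔ P₁ with hY
  have hPY : P ≤ Y := le_sup_left
  have hP₁Y : P₁ ≤ Y := le_sup_right
  -- the orbit
  let Θ : Set (Subgroup G × G) := {θ | (∃ y ∈ Y, θ = cp y (D₁, r₁)) ∧ θ.1 ≤ S}
  have hfin : Θ.Finite := Set.toFinite _
  let T : Finset (Subgroup G × G) := hfin.toFinset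
  have hT : ∀ θ, θ ∈ T ↔ (∃ y ∈ Y, θ = cp y (D₁, r₁)) ∧ θ.1 ≤ S := fun θ => hfin.mem_toFinset
  -- generators of a member
  have hgen : ∀ y ∈ Y, ∀ K : Subgroup G, ∀ g ∈ Y, (∀ W r, (W, r) ∈ 𝒲 → r = y * r₁ * y⁻¹ →
      W ≤ conj y • D₁ → conj g • W ≤ K) → conj g • (conj y • D₁) ≤ K := by
    intro y hy K g hg H
    rw [← mul_smul, ← map_mul]
    refine conj_gen_le fun W hW hWS => ?_
    rw [map_mul, mul_smul]
    refine H (conj y • W) (y * r₁ * y⁻¹) (hconj _ hW y hy) rfl ?_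
    exact Subgroup.pointwise_smul_le_pointwise_smul_iff.2 (le_gen hW hWS)
  -- `P` permutes `T`
  have hPT : ∀ p ∈ P, ∀ θ ∈ T, cp p θ ∈ T := by
    intro p hp θ hθ
    obtain ⟨⟨y, hy, rfl⟩, hS⟩ := (hT _).1 hθ
    refine (hT _).2 ⟨⟨p * y, Y.mul_mem (hPY hp) hy, (cp_mul _ _ _).symm⟩, ?_⟩
    exact hgen y hy S p (hPY hp) fun W r hW _ hle => h1 _ hW (hle.trans hS) p hp
  -- `P₁` permutes the members in `Q₁`
  let T₁ : Finset (Subgroup G × G) := T.filter fun θ => θ.1 ≤ Q₁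
  let T₂ : Finset (Subgroup G × G) := T.filter fun θ => ¬ θ.1 ≤ Q₁
  have hP₁T : ∀ g ∈ P₁, ∀ θ ∈ T₁, cp g θ ∈ T₁ := by
    intro g hg θ hθ
    obtain ⟨hθT, hθQ⟩ := Finset.mem_filter.1 hθ
    obtain ⟨⟨y, hy, rfl⟩, hS⟩ := (hT _).1 hθT
    have hle : conj g • (conj y • D₁) ≤ Q₁ :=
      (Subgroup.pointwise_smul_le_pointwise_smul_iff.2 hθQ).trans (hQn g hg)
    exact Finset.mem_filter.2 ⟨(hT _).2 ⟨⟨g * y, Y.mul_mem (hP₁Y hg) hy, (cp_mul _ _ _).symm⟩, hle.trans hQS⟩, hle⟩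
  -- the products
  have hprT : pr V hVc T = 1 := by
    have := hCP (pr V hVc T : V) (pr V hVc T).2 fun p hp => by
      have h := cj_pr hVc (hPV hp) (hPT p hp)
      exact congrArg Subtype.val h
    exact Subtype.ext this
  have hsplit : pr V hVc T = pr V hVc T₁ * pr V hVc T₂ := by
    unfold pr
    exact (Finset.prod_filter_mul_prod_filter_not T (fun θ => θ.1 ≤ Q₁) _).symm
  have hfix₁ : cj g₀ (hP₁V hg₀) (pr V hVc T₁) = pr V hVc T₁ := cj_pr hVc _ (hP₁T g₀ hg₀)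
  have hfix₂ : cj g₀ (hP₁V hg₀) (pr V hVc T₂) = pr V hVc T₂ := by
    have h : pr V hVc T₂ = (pr V hVc T₁)⁻¹ := by
      rw [eq_inv_iff_mul_eq_one, mul_comm, ← hsplit, hprT]
    rw [h, map_inv, hfix₁]
  -- members of `T₂`
  have hT₂ : ∀ θ ∈ T₂, ∃ s ∈ S, θ = cp s (D₁, r₁) := by
    intro θ hθ
    obtain ⟨hθT, hθQ⟩ := Finset.mem_filter.1 hθ
    obtain ⟨⟨y, hy, rfl⟩, hS⟩ := (hT _).1 hθT
    have hex : ∃ s ∈ S, y * r₁ * y⁻¹ = s * r₁ * s⁻¹ := by
      by_contra hne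
      apply hθQ
      have := hgen y hy Q₁ 1 Y.one_mem fun W r hW hr hle => ?_
      · rwa [map_one, one_smul] at this
      · rw [map_one, one_smul]
        by_contra hWQ
        obtain ⟨s, hs, h⟩ := h2 _ hW (hle.trans hS) hWQ
        exact hne ⟨s, hs, hr.symm.trans h⟩
    obtain ⟨s, hs, hr⟩ := hex
    refine ⟨s, hs, Prod.ext ?_ hr⟩
    have hsY : s ∈ Y := hPY (hSP hs)
    have hle : conj s⁻¹ • (conj y • D₁) ≤ D₁ := by
      refine hgen y hy D₁ s⁻¹ (Y.inv_mem hsY) fun W r hW hr' hle => ?_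
      have h3 : (conj s⁻¹ • W, r₁) ∈ 𝒲 := by
        have h4 := hconj _ hW s⁻¹ (Y.inv_mem hsY)
        have h5 : cp s⁻¹ (W, r) = (conj s⁻¹ • W, r₁) := by
          refine Prod.ext rfl ?_
          change s⁻¹ * r * s⁻¹⁻¹ = r₁
          rw [hr', hr]
          group
        rwa [h5] at h4
      refine le_gen h3 ?_
      rw [Subgroup.pointwise_smul_subset_iff, ← map_inv, inv_inv]
      have h6 : conj s • S = S := by
        ext x
        rw [Subgroup.mem_pointwise_smul_iff_inv_smul_mem, ← map_inv, MulAut.smul_def, conj_apply, inv_inv]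
        constructor
        · intro hx
          have := S.mul_mem (S.mul_mem hs hx) (S.inv_mem hs)
          simpa [mul_assoc] using this
        · intro hx
          exact S.mul_mem (S.mul_mem (S.inv_mem hs) hx) hs
      rw [h6]
      exact hle.trans hS
    have hcard : Nat.card (conj s⁻¹ • (conj y • D₁) : Subgroup G) = Nat.card D₁ := by
      rw [← mul_smul, ← map_mul]
      exact Nat.card_congr (Subgroup.equivSMul (conj (s⁻¹ * y)) D₁).toEquiv.symm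
    have heq : conj s⁻¹ • (conj y • D₁) = D₁ := Subgroup.eq_of_le_of_card_ge hle hcard.ge
    change conj y • D₁ = conj s • D₁
    conv_rhs => rw [← heq]
    rw [smul_smul (conj s), ← map_mul, mul_inv_cancel, map_one, one_smul]
  have hmem : ((D₁, r₁) : Subgroup G × G) ∈ T₂ := by
    refine Finset.mem_filter.2 ⟨(hT _).2 ⟨⟨1, Y.one_mem, (cp_one _).symm⟩, gen_le _ _ _⟩, fun h => ?_⟩
    exact hW₁Q ((le_gen hw hW₁S).trans h)
  have huniq : ∀ θ ∈ T₂, θ.2 = r₁ → θ = (D₁, r₁) := by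
    intro θ hθ hr
    obtain ⟨s, hs, rfl⟩ := hT₂ θ hθ
    refine Prod.ext ?_ hr
    have hle : conj s • D₁ ≤ D₁ := by
      refine conj_gen_le fun W hW hWS => ?_
      have h3 : (conj s • W, r₁) ∈ 𝒲 := by
        have h4 := hconj _ hW s (hPY (hSP hs))
        have h5 : cp s (W, r₁) = (conj s • W, r₁) := Prod.ext rfl hr
        rwa [h5] at h4
      exact le_gen h3 (le_trans (le_trans (Subgroup.pointwise_smul_le_pointwise_smul_iff.2 (le_gen hW hWS)) le_rfl)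
        ((Finset.mem_filter.1 hθ).1 |> (hT _).1 |>.2))
    exact Subgroup.eq_of_le_of_card_ge hle (Nat.card_congr (Subgroup.equivSMul (conj s) D₁).toEquiv).le
  -- the end
  have hpr₂ : pr V hVc T₂ = (⟨r₁, hV _ hw⟩ : V) * pr V hVc (T₂.erase (D₁, r₁)) := by
    unfold pr
    rw [← Finset.mul_prod_erase T₂ _ hmem, dif_pos (hV _ hw)]
  have hfix₃ : cj g₀ (hP₁V hg₀) (pr V hVc (T₂.erase (D₁, r₁))) = pr V hVc (T₂.erase (D₁, r₁)) := by
    unfold pr
    rw [map_prod]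
    refine Finset.prod_congr rfl fun θ hθ => ?_
    obtain ⟨hne, hθ⟩ := Finset.mem_erase.1 hθ
    obtain ⟨s, hs, rfl⟩ := hT₂ θ hθ
    have hne' : s * r₁ * s⁻¹ ≠ r₁ := fun heq => hne (huniq _ hθ heq)
    by_cases h : (cp s (D₁, r₁)).2 ∈ V
    · rw [dif_pos h]
      exact Subtype.ext (hfx s hs hne')
    · rw [dif_neg h, map_one]
  have h6 : cj g₀ (hP₁V hg₀) (⟨r₁, hV _ hw⟩ : V) = ⟨r₁, hV _ hw⟩ := by
    have := hfix₂
    rw [hpr₂, map_mul, hfix₃] at this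
    exact mul_right_cancel this
  exact hmv (congrArg Subtype.val h6)

end Cfsg.Agent.Omega.NO3S.SOne.Par
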