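import Cfsg.Agent.Omega.NO3S.SOne.Main
import Cfsg.Agent.Omega.NO3S.SOne.NTNat
import Cfsg.Agent.Omega.NO3S.SOne.NTGen
import Cfsg.Agent.Omega.NO3S.SOne.PU.Use
import Cfsg.Agent.Omega.FF.GlobEnd

/-!
# GammaFF, (S1) (#21629): `SO`, KEY ⟹ `False`

* `SO.false_of_nat` : `P₁` natural (radical allowed) over a field with at least four elements;
* `SO.concl` : `P₁` has one of the types of the FF theorem;
* **`SO.false_of_four`** : `|[L₁, W]| ≥ 4`;
* **`SO.false_of_pas`** : `P` is passive for all conjugates of `F` under `Y`, `C_Z(P) = 1`.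
-/

set_option autoImplicit false
set_option linter.unusedSectionVars false

namespace Cfsg.Agent.Omega.NO3S.SOne

open Subgroup Cfsg Cfsg.Agent.ZN Cfsg.Agent.Omega.MinPar
open Cfsg.Agent.Omega.FFThm (NatKM SymKM NoOverM ConclM)
open Cfsg.Agent.Omega.FrameFF (cv)
open Cfsg.Agent.Omega.NO3S.Pas (Key)
open scoped Pointwise

universe u

variable {G : Type u} [Group G] [Finite G] {S : Sylow 2 G} {V F B P P₁ : Subgroup G}

/-- a field of characteristic 2 has two or at least four elements -/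
theorem field_or (K : Type) [Field K] [Finite K] [CharP K 2] : (∀ c : K, c = 0 ∨ c = 1) ∨ 4 ≤ Nat.card K := by
  classical
  have : Fintype K := Fintype.ofFinite K
  by_cases h : 4 ≤ Nat.card K
  · exact Or.inr h
  left
  have h3 : Nat.card K = 2 := by
    obtain ⟨e, -, he⟩ := FiniteField.card K 2
    rw [Nat.card_eq_fintype_card, he] at h ⊢
    have he0 : 0 < (e : ℕ) := e.pos
    have he1 : (e : ℕ) < 2 := by
      by_contra hge
      have : 2 ^ 2 ≤ 2 ^ (e : ℕ) := Nat.pow_le_pow_right (by norm_num) (by omega)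
      omega
    have he2 : (e : ℕ) = 1 := by omega
    rw [he2, pow_one]
  rw [Nat.card_eq_two_iff' (0 : K)] at h3
  obtain ⟨y, -, hy⟩ := h3
  intro c
  by_cases hc : c = 0
  · exact Or.inl hc
  · exact Or.inr ((hy c hc).trans (hy 1 one_ne_zero).symm)

namespace SO

variable (so : SO S V F B P P₁)
include so

/-- `P₁` natural over a field with at least four elements -/
theorem false_of_nat (hk : Key V F B) {K : Type} [Field K] [Finite K] [CharP K 2] {k : ℕ}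
    (M : NatKM K (S : Subgroup G) P₁ (zl (S : Subgroup G) P₁) (cv (S : Subgroup G) P₁) k) (h4 : 4 ≤ Nat.card K)
    (no : NoOverM (zl (S : Subgroup G) P₁) P₁)
    (htr : ∀ x ∈ zc (S : Subgroup G), x ≠ 1 → ∀ y ∈ zc (S : Subgroup G), y ≠ 1 →
      ∃ h ∈ P, h ∈ normalizer ((S : Subgroup G) : Set G) ∧ h * x * h⁻¹ = y)
    (hC : zc (S : Subgroup G) ⊓ centralizer (P₁ : Set G) ≠ ⊥) : False :=
  so.false_of_NT hk (NTNat.nt_of so.hc so.hP₁ M h4 no
    (fun _ h1 h2 => NatD.exists_gen M (NatD.AmbD.of so.hc so.hP₁ M) so.hP₁ h1 h2)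
    (fun _ h1 h2 => NatD.RR_inf M (NatD.AmbD.of so.hc so.hP₁ M) h1 h2)) htr hC

/-- the type of `P₁` -/
theorem concl (hk : Key V F B) : NoOverM (zl (S : Subgroup G) P₁) P₁ ∧ ConclM (S : Subgroup G) P₁ :=
  FF.Glob.ffthmM G (S : Subgroup G) P₁ (MinSimple.EmptyTI.syl_of_le so.hP₁.le) so.hP₁.toIsMinPar
    (so.hP₁.isLoc.char2 S so.hc) ⟨NOne.Flat.WW V F, so.WS.trans so.hP₁.le, (so.ka_one hk).off⟩

/-- the interface for `q₀ = 2`, or a field with at least four elements -/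
theorem two_or (hk : Key V F B)
    (htr : ∀ x ∈ zc (S : Subgroup G), x ≠ 1 → ∀ y ∈ zc (S : Subgroup G), y ≠ 1 →
      ∃ h ∈ P, h ∈ normalizer ((S : Subgroup G) : Set G) ∧ h * x * h⁻¹ = y)
    (hC : zc (S : Subgroup G) ⊓ centralizer (P₁ : Set G) ≠ ⊥) : Two (S : Subgroup G) P₁ := by
  obtain ⟨no, hc⟩ := so.concl hk
  rcases hc with ⟨K, _, _, _, k, -, ⟨M⟩⟩ | ⟨k, m, -, hm, ⟨M⟩⟩
  · rcases field_or K with hK | hK
    · exact PU.two_of_nat so.hc so.hP₁ hK M
    · exact absurd (so.false_of_nat hk M hK no htr hC) id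
  · exact PU.two_of_sym so.hc so.hP₁ hm M

/-- **(S1), KEY, `|[L₁, W]| ≥ 4`.** -/
theorem false_of_four (hk : Key V F B)
    (htr : ∀ x ∈ zc (S : Subgroup G), x ≠ 1 → ∀ y ∈ zc (S : Subgroup G), y ≠ 1 →
      ∃ h ∈ P, h ∈ normalizer ((S : Subgroup G) : Set G) ∧ h * x * h⁻¹ = y)
    (hC : zc (S : Subgroup G) ⊓ centralizer (P₁ : Set G) ≠ ⊥)
    (h4 : 4 ≤ Nat.card ↥(⁅zl (S : Subgroup G) P₁, NOne.Flat.WW V F⁆ : Subgroup G)) : False := by
  obtain ⟨r, hr1, hr, -⟩ := (so.two_or hk htr hC).pt _ (so.ka_one hk)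
  have hWN : NOne.Flat.WW V F ≤ normalizer (zl (S : Subgroup G) P₁ : Set G) :=
    so.WS.trans (so.SP₁.trans so.PL)
  have hrL : r ∈ zl (S : Subgroup G) P₁ := by
    have h1 : r ∈ ⁅zl (S : Subgroup G) P₁, NOne.Flat.WW V F⁆ := by rw [hr]; exact mem_zpowers r
    exact le_normalizer_iff_commutator_le_left.1 hWN h1
  have h2 : r ^ 2 = 1 := MinSimple.VModule.zl_sq so.hP₁.le S.isPGroup' (MinSimple.Basic.not_dvd_relIndex S so.hP₁.le)
    (so.hP₁.isLoc.char2 S so.hc) r hrL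
  rw [hr, Nat.card_zpowers] at h4
  have h3 := orderOf_le_of_pow_eq_one (by norm_num) h2
  omega

/-- **(S1), KEY, `P` passive for all conjugates of `F`.** -/
theorem false_of_pas (hk : Key V F B)
    (htr : ∀ x ∈ zc (S : Subgroup G), x ≠ 1 → ∀ y ∈ zc (S : Subgroup G), y ≠ 1 →
      ∃ h ∈ P, h ∈ normalizer ((S : Subgroup G) : Set G) ∧ h * x * h⁻¹ = y)
    (hC : zc (S : Subgroup G) ⊓ centralizer (P₁ : Set G) ≠ ⊥)
    (hCP : zc (S : Subgroup G) ⊓ centralizer (P : Set G) = ⊥)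
    (hpas : ∀ y ∈ P ⊔ P₁, MulAut.conj y • NOne.Flat.WW V F ≤ (S : Subgroup G) →
      MulAut.conj y • NOne.Flat.WW V F ≤ o2 P) : False :=
  so.false_of_two hk (so.two_or hk htr hC) hCP hpas

end SO

end Cfsg.Agent.Omega.NO3S.SOne
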