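import Cfsg.Agent.Omega.NO3S.SOne.PlugRad
import Cfsg.Agent.Omega.NO3S.Level.Gamma

/-!
# GammaFF, the field `rad`: (S1) is impossible
-/

set_option autoImplicit false
set_option linter.unusedSectionVars false

namespace Cfsg.Agent.Omega.NO3S.SOne.GamRadPlug

open Subgroup Cfsg Cfsg.Agent.ZN Cfsg.Agent.Omega.MinPar
open Cfsg.Agent.Omega.NO3S.Level (W0 WSt X0)
open Cfsg.Agent.Omega.NO3S.GFF.S1 (Rad)

universe u

/-- **The field `rad` of the assembly.** -/
theorem gamRad (K : Frame.Cls.{u}) : GamRad K := fun _ _ _ _ S P F w h =>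
  (PlugRad.rad_false (S := S) (P₁ := P) (F := F) { toW0 := w.toW0, rad := h } w).elim

end Cfsg.Agent.Omega.NO3S.SOne.GamRadPlug
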