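import Cfsg.Agent.Omega.NO3S.SOne.KA

/-!
# GammaFF, (S1) (#21629), (ii): good lines

`h ∈ N_P(S)`, `L₂ = L₁^h`, `W₂ = W^h`, `W` centralises `L₂`, `W₂` centralises `L₁`, `g ∈ P₁` generic with `L₂^g ≤ E`:
`Z ∩ R₁^h ≤ C(P₁)`.
-/

set_option autoImplicit false
set_option linter.unusedSectionVars false

namespace Cfsg.Agent.Omega.NO3S.SOne

open Subgroup Cfsg Cfsg.Agent.ZN Cfsg.Agent.Omega.MinPar
open Cfsg.Agent.Omega.NOne.Flat (EE NN conj_eq_of_norm conj_centralizer)
open Cfsg.Agent.Omega.NOne.NearFF (c c_def)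
open Cfsg.Agent.Omega.NoFF.Basic (conj_conj mem_conj conj_le_iff conj_le_centralizer comm_symm)
open Cfsg.Agent.Omega.NO3S.Pas (Key)
open scoped Pointwise

universe u

variable {G : Type u} [Group G] [Finite G] {S : Sylow 2 G} {V F B P P₁ : Subgroup G}

theorem conj_commutator (g : G) (A B : Subgroup G) :
    MulAut.conj g • ⁅A, B⁆ = ⁅MulAut.conj g • A, MulAut.conj g • B⁆ :=
  Subgroup.map_commutator A B (MulAut.conj g).toMonoidHom

/-- `A` is normalised by `K` if `k A k⁻¹ ≤ A` for all `k ∈ K`. -/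
theorem le_normalizer_of {A K : Subgroup G} (h : ∀ k ∈ K, ∀ x ∈ A, k * x * k⁻¹ ∈ A) :
    K ≤ normalizer (A : Set G) := by
  intro k hk
  rw [mem_normalizer_iff]
  intro y
  refine ⟨h k hk y, fun hy => ?_⟩
  have h1 := h k⁻¹ (inv_mem hk) _ hy
  have e : k⁻¹ * (k * y * k⁻¹) * k⁻¹⁻¹ = y := by group
  rwa [e] at h1

/-- **(ii)** -/
theorem SO.good (so : SO S V F B P P₁) (hk : Key V F B) {h g : G} (hh : h ∈ P)
    (hN : h ∈ normalizer ((S : Subgroup G) : Set G)) (hg : Gen (S : Subgroup G) P₁ (NOne.Flat.WW V F) g)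
    (h1 : NOne.Flat.WW V F ≤ centralizer ((MulAut.conj h • zl (S : Subgroup G) P₁ : Subgroup G) : Set G))
    (h2 : MulAut.conj h • NOne.Flat.WW V F ≤ centralizer (zl (S : Subgroup G) P₁ : Set G))
    (hgood : MulAut.conj (g * h) • zl (S : Subgroup G) P₁ ≤ EE V F) :
    zc (S : Subgroup G) ⊓ MulAut.conj h • RR (S : Subgroup G) P₁ (NOne.Flat.WW V F) ≤ centralizer (P₁ : Set G) := by
  set W : Subgroup G := NOne.Flat.WW V F with hW
  set L : Subgroup G := zl (S : Subgroup G) P₁ with hL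
  set d : Subgroup G := MulAut.conj h • L with hd
  have hS : MulAut.conj h • (S : Subgroup G) = S := conj_eq_of_norm hN
  have hhY : h ∈ P ⊔ P₁ := (le_sup_left : P ≤ P ⊔ P₁) hh
  have hgY : g ∈ P ⊔ P₁ := (le_sup_right : P₁ ≤ P ⊔ P₁) hg.mem
  have hLV : L ≤ V := so.L_le_V
  have hdV : d ≤ V := so.line_le_V hhY
  have hPL : P₁ ≤ normalizer (L : Set G) := so.PL
  have hSd : (S : Subgroup G) ≤ normalizer (d : Set G) := by
    refine le_normalizer_of fun s hs x hx => ?_
    have hs' : h⁻¹ * s * h ∈ (S : Subgroup G) := by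
      have h3 : s ∈ MulAut.conj h • (S : Subgroup G) := by rw [hS]; exact hs
      exact mem_conj.1 h3
    rw [hd, mem_conj] at hx ⊢
    have h3 := (mem_normalizer_iff.1 (hPL (so.SP₁ hs')) _).1 hx
    have e : h⁻¹ * (s * x * s⁻¹) * h = h⁻¹ * s * h * (h⁻¹ * x * h) * (h⁻¹ * s * h)⁻¹ := by group
    rw [e]
    exact h3
  have hdL : d ≤ normalizer (L : Set G) :=
    (hdV.trans (so.comm.trans (centralizer_le hLV))).trans (centralizer_le_normalizer _)
  -- `A = L₂ L₁`
  set A : Subgroup G := d ⊔ L with hA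
  have hAV : A ≤ V := sup_le hdV hLV
  have hgI : MulAut.conj g • d ≤ B := by
    rw [hd, conj_conj]
    exact so.line1 g hg.mem h hh hN hgood
  have hAI : MulAut.conj g • A ≤ V ⊓ B := by
    refine le_inf ?_ ?_
    · have h3 := conj_le_iff (g := g).2 hAV
      rwa [so.conj_V hgY] at h3
    · rw [hA, Subgroup.smul_sup]
      refine sup_le hgI ?_
      rw [so.conj_L hg.mem]
      exact so.L_le_I.trans inf_le_right
  have hAW : ∀ x ∈ A, ∀ s ∈ MulAut.conj g⁻¹ • W, c x s ∈ L := by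
    intro x hx s hs
    rw [mem_conj, inv_inv] at hs
    have hx' : g * x * g⁻¹ ∈ V ⊓ B := hAI (NOne.Frame.conj_mem hx)
    have h3 := hk.mem so.toBH so.L_le_I so.mov hx' hs
    have h4 : ⁅L, W⁆ ≤ L := by
      rw [commutator_le]
      intro l hl t ht
      rw [commutatorElement_def, ← c_def]
      exact NOThreeL.Low.Key.c_mem_left hl (hPL (so.SP₁ (so.WS ht)))
    have h5 := (mem_normalizer_iff.1 (hPL (inv_mem hg.mem)) _).1 (h4 h3)
    have e : g⁻¹ * c (g * x * g⁻¹) (g * s * g⁻¹) * g⁻¹⁻¹ = c x s := by rw [c_def, c_def]; group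
    rwa [e] at h5
  have hSA : (S : Subgroup G) ≤ normalizer (A : Set G) := by
    refine le_normalizer_of fun s hs x hx => ?_
    have h3 : MulAut.conj s • A = A := by
      rw [hA, Subgroup.smul_sup, conj_eq_of_norm (hSd hs), conj_eq_of_norm (hPL (so.SP₁ hs))]
    rw [← h3]
    exact NOne.Frame.conj_mem hx
  have hWA : MulAut.conj g⁻¹ • W ≤ normalizer (A : Set G) := by
    refine le_normalizer_of fun s hs x hx => ?_
    have e : s * x * s⁻¹ = x * c x⁻¹ s := by rw [c_def]; group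
    rw [e]
    exact mul_mem hx (le_sup_right (a := d) (hAW x⁻¹ (inv_mem hx) s hs))
  have hPA : P₁ ≤ normalizer (A : Set G) := hg.gen.trans (sup_le hSA hWA)
  -- `X = [A, Q]`
  set X : Subgroup G := closure {y | ∃ u ∈ A, ∃ q ∈ o2 P₁, y = c u q} with hX
  have hQS : o2 P₁ ≤ (S : Subgroup G) := so.hP₁.isLoc.o2_le S
  have hQL : o2 P₁ ≤ centralizer (L : Set G) := by
    rw [← so.o2_eq]
    exact inf_le_right
  have hXc : X ≤ d := by
    rw [hX, closure_le]
    rintro y ⟨u, hu, q, hq, rfl⟩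
    obtain ⟨l, hl, x, hx, rfl⟩ := Cfsg.Agent.Omega.NO3S.Pas.mem_sup_of_norm hdL (by rw [sup_comm]; exact hu)
    have hql : q * l⁻¹ * q⁻¹ = l⁻¹ := by
      have h3 := mem_centralizer_iff.1 (hQL hq) l⁻¹ (inv_mem hl)
      rw [← h3, mul_inv_cancel_right]
    have h4 : q * x⁻¹ * q⁻¹ ∈ d := (mem_normalizer_iff.1 (hSd (hQS hq)) _).1 (inv_mem hx)
    have h3 : x * (q * x⁻¹ * q⁻¹) ∈ d := mul_mem hx h4
    have e1 : c (l * x) q = l * (x * (q * x⁻¹ * q⁻¹)) * (q * l⁻¹ * q⁻¹) := by rw [c_def]; group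
    rw [SetLike.mem_coe, e1, hql, so.V_comm (hLV hl) (hdV h3), mul_inv_cancel_right]
    exact h3
  have hPX : P₁ ≤ normalizer (X : Set G) := by
    refine le_normalizer_of fun t ht x hx => ?_
    induction hx using closure_induction with
    | mem x hx =>
      obtain ⟨u, hu, q, hq, rfl⟩ := hx
      refine subset_closure ⟨t * u * t⁻¹, (mem_normalizer_iff.1 (hPA ht) _).1 hu, t * q * t⁻¹,
        (mem_normalizer_iff.1 (MinSimple.VModule.le_normalizer_o2 P₁ ht) _).1 hq, ?_⟩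
      rw [c_def, c_def]
      group
    | one => rw [mul_one, mul_inv_cancel]; exact one_mem _
    | mul x y _ _ hx hy =>
      have e : t * (x * y) * t⁻¹ = t * x * t⁻¹ * (t * y * t⁻¹) := by group
      rw [e]
      exact mul_mem hx hy
    | inv x _ hx =>
      have e : t * x⁻¹ * t⁻¹ = (t * x * t⁻¹)⁻¹ := by group
      rw [e]
      exact inv_mem hx
  -- `R₁^h ≤ X`
  have hW2 : MulAut.conj h • W ≤ o2 P₁ := by
    rw [← so.o2_eq]
    refine le_inf ?_ h2
    rw [← hS]
    exact conj_le_iff.2 so.WS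
  have hR0 : MulAut.conj h • ⁅L, W⁆ ≤ X := by
    rw [conj_commutator, commutator_le]
    intro x hx w hw
    rw [commutatorElement_def, ← c_def]
    exact subset_closure ⟨x, le_sup_left (b := L) hx, w, hW2 hw, rfl⟩
  have hR : MulAut.conj h • RR (S : Subgroup G) P₁ W ≤ X := by
    rw [conj_le_iff', RR]
    refine iSup_le fun s => ?_
    rw [← conj_le_iff', conj_conj]
    have hs' : h * (s : G) * h⁻¹ ∈ (S : Subgroup G) := by
      have h3 : h * (s : G) * h⁻¹ ∈ MulAut.conj h • (S : Subgroup G) := NOne.Frame.conj_mem s.2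
      rwa [hS] at h3
    have e : h * (s : G) = h * (s : G) * h⁻¹ * h := by group
    rw [e, ← conj_conj]
    refine (conj_le_iff.2 hR0).trans ?_
    rw [conj_eq_of_norm (hPX (so.SP₁ hs'))]
  -- `W^(g⁻¹)` centralises `X`
  have hWX : MulAut.conj g⁻¹ • W ≤ centralizer (X : Set G) := by
    have h3 : W ≤ centralizer (X : Set G) := h1.trans (centralizer_le hXc)
    have h4 := conj_le_centralizer (g := g⁻¹) h3
    rwa [conj_eq_of_norm (hPX (inv_mem hg.mem))] at h4
  rintro z ⟨hz, hzR⟩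
  have hzX : z ∈ X := hR hzR
  rw [mem_centralizer_iff]
  have h5 : P₁ ≤ centralizer ({z} : Set G) := by
    refine hg.gen.trans (sup_le ?_ ?_)
    · intro s hs
      rw [mem_centralizer_singleton_iff]
      exact ((ZN.mem_zc.mp hz).2.1 s hs)
    · intro s hs
      rw [mem_centralizer_singleton_iff]
      exact (mem_centralizer_iff.1 (hWX hs) z hzX).symm
  intro p hp
  exact mem_centralizer_singleton_iff.1 (h5 hp)

end Cfsg.Agent.Omega.NO3S.SOne
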