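import Mathlib

/-!
# GammaFF, (S1) (#21629, helper335): the end for `q₀ ≥ 4` by transitivity of `N_P(S)` on `Z#`

`N` a set of elements normalising `Z` and transitive on `Z#`.

* `le_or_le` : `1 ≠ A₀ ≤ Z`, every `A₀^h ≤ A` or `≤ B` (`h ∈ N`) imply `Z ≤ A` or `Z ≤ B`;
* `comm_conj_eq` : `⁅L₂, W⁆ = Π`, `⁅L₂, W^h⁆ = Π^h` conjugate under `S` imply `⟨Π^S⟩ = ⟨(Π^h)^S⟩`;
* `false_key` : KEY: `Z ∩ R₁ ∩ C₁ = 1`, `Z ∩ R₁ ≰ C₁`, `C₁ ≠ 1`;
* `false_ns` : NS: `C₁^h ≤ C₁` or `≤ C₂`, `C₁, C₂ < Z`.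
-/

set_option autoImplicit false

namespace Cfsg.Agent.Omega.NO3S.SOne.Trans

open Subgroup
open scoped Pointwise

universe u

variable {G : Type u} [Group G]

/-- `⟨A^S⟩`. -/
def Cl (S A : Subgroup G) : Subgroup G := ⨆ s ∈ S, MulAut.conj s • A

theorem Cl_le {S A B : Subgroup G} (h : ∀ s ∈ S, MulAut.conj s • A ≤ B) : Cl S A ≤ B :=
  iSup₂_le h

theorem conj_le_Cl {S A : Subgroup G} {s : G} (hs : s ∈ S) : MulAut.conj s • A ≤ Cl S A :=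
  le_iSup₂ (f := fun s (_ : s ∈ S) => MulAut.conj s • A) s hs

theorem le_Cl {S A : Subgroup G} : A ≤ Cl S A := by
  have h := conj_le_Cl (S := S) (A := A) S.one_mem
  rwa [map_one, one_smul] at h

theorem Cl_mono_conj {S A : Subgroup G} {s : G} (hs : s ∈ S) : Cl S (MulAut.conj s • A) ≤ Cl S A := by
  refine Cl_le fun t ht => ?_
  rw [smul_smul, ← map_mul]
  exact conj_le_Cl (mul_mem ht hs)

/-- `⟨(A^s)^S⟩ = ⟨A^S⟩`. -/
theorem Cl_conj {S A : Subgroup G} {s : G} (hs : s ∈ S) : Cl S (MulAut.conj s • A) = Cl S A := by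
  refine le_antisymm (Cl_mono_conj hs) ?_
  have h := Cl_mono_conj (S := S) (A := MulAut.conj s • A) (inv_mem hs)
  rwa [smul_smul, ← map_mul, inv_mul_cancel, map_one, one_smul] at h

/-- `⟨A^S⟩^h = ⟨(A^h)^S⟩` for `h ∈ N(S)`. -/
theorem conj_Cl {S A : Subgroup G} {h : G} (hh : h ∈ normalizer (S : Set G)) :
    MulAut.conj h • Cl S A = Cl S (MulAut.conj h • A) := by
  have key : ∀ (A : Subgroup G) (h : G), h ∈ normalizer (S : Set G) →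
      Cl S (MulAut.conj h • A) ≤ MulAut.conj h • Cl S A := by
    intro A h hh
    refine Cl_le fun t ht => ?_
    have h1 : h⁻¹ * t * h ∈ S := by
      have := (mem_normalizer_iff'.1 hh (h⁻¹ * t)).2 (by rwa [mul_inv_cancel_left])
      exact this
    have h2 : MulAut.conj t • MulAut.conj h • A = MulAut.conj h • MulAut.conj (h⁻¹ * t * h) • A := by
      rw [smul_smul, smul_smul, ← map_mul, ← map_mul]
      congr 2
      group
    rw [h2]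
    exact smul_mono_right _ (conj_le_Cl h1)
  refine le_antisymm ?_ (key A h hh)
  have h1 := key (MulAut.conj h • A) h⁻¹ (inv_mem hh)
  rw [smul_smul, ← map_mul, inv_mul_cancel, map_one, one_smul] at h1
  have h2 := smul_mono_right (MulAut.conj h) h1
  rwa [smul_smul, ← map_mul, mul_inv_cancel, map_one, one_smul] at h2

/-- (i): if `⁅L₂, W⁆ = Π` and `⁅L₂, W₂⁆ = Π^h` are `S`-conjugate, then `⟨Π^S⟩^h = ⟨Π^S⟩`. -/
theorem conj_Cl_eq {S A : Subgroup G} {h s : G} (hh : h ∈ normalizer (S : Set G)) (hs : s ∈ S)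
    (e : A = MulAut.conj s • MulAut.conj h • A) : MulAut.conj h • Cl S A = Cl S A := by
  rw [conj_Cl hh]
  conv_rhs => rw [e]
  exact (Cl_conj hs).symm

/-- `1 ≠ A₀ ≤ Z`, `N` transitive on `Z#`, every `A₀^h ≤ A` or `≤ B`: then `Z ≤ A` or `Z ≤ B`. -/
theorem le_or_le {Z A₀ A B : Subgroup G} (N : Set G)
    (htr : ∀ x ∈ Z, x ≠ 1 → ∀ y ∈ Z, y ≠ 1 → ∃ h ∈ N, h * x * h⁻¹ = y) (hA₀ : A₀ ≤ Z) (hne : A₀ ≠ ⊥)
    (h : ∀ h ∈ N, MulAut.conj h • A₀ ≤ A ∨ MulAut.conj h • A₀ ≤ B) : Z ≤ A ∨ Z ≤ B := by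
  obtain ⟨⟨a, ha⟩, ha1⟩ := Subgroup.ne_bot_iff_exists_ne_one.1 hne
  have ha1 : a ≠ 1 := fun h => ha1 (Subtype.ext h)
  have hcov : ∀ z ∈ Z, z ∈ A ∨ z ∈ B := by
    intro z hz
    by_cases hz1 : z = 1
    · exact Or.inl (hz1 ▸ one_mem _)
    · obtain ⟨g, hg, e⟩ := htr a (hA₀ ha) ha1 z hz hz1
      have h1 : z ∈ MulAut.conj g • A₀ := by
        rw [← e]
        exact smul_mem_pointwise_smul a (MulAut.conj g) A₀ ha
      rcases h g hg with h2 | h2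
      · exact Or.inl (h2 h1)
      · exact Or.inr (h2 h1)
  by_contra hcon
  push Not at hcon
  obtain ⟨x, hx, hxA⟩ := SetLike.not_le_iff_exists.1 hcon.1
  obtain ⟨y, hy, hyB⟩ := SetLike.not_le_iff_exists.1 hcon.2
  have hxB := (hcov x hx).resolve_left hxA
  have hyA := (hcov y hy).resolve_right hyB
  rcases hcov (x * y) (mul_mem hx hy) with h1 | h1
  · exact hxA ((mul_mem_cancel_right hyA).1 h1)
  · exact hyB ((mul_mem_cancel_left hxB).1 h1)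

/-- **KEY, `q₀ ≥ 4`.** `R = R₁`, `C₁ = C_Z(P₁)`. -/
theorem false_key {Z R C₁ : Subgroup G} (N : Set G)
    (htr : ∀ x ∈ Z, x ≠ 1 → ∀ y ∈ Z, y ≠ 1 → ∃ h ∈ N, h * x * h⁻¹ = y)
    (hNZ : ∀ h ∈ N, MulAut.conj h • Z = Z) (hC : C₁ ≤ Z) (hC1 : C₁ ≠ ⊥) (hne : ¬ Z ⊓ R ≤ C₁)
    (hdis : Z ⊓ R ⊓ C₁ = ⊥)
    (h : ∀ h ∈ N, MulAut.conj h • R = R ∨ Z ⊓ MulAut.conj h • R ≤ C₁) : False := by
  have h0 : Z ⊓ R ≠ ⊥ := fun h0 => hne (h0 ▸ bot_le)
  have h1 := le_or_le N htr (A₀ := Z ⊓ R) (A := R) (B := C₁) inf_le_left h0 (fun g hg => by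
    rcases h g hg with h2 | h2
    · left
      conv_rhs => rw [← h2]
      exact smul_mono_right _ inf_le_right
    · right
      rw [smul_inf, hNZ g hg]
      exact h2)
  rcases h1 with h1 | h1
  · apply hC1
    rw [← hdis, inf_eq_left.2 h1, inf_eq_right.2 hC]
  · exact hne (inf_le_left.trans h1)

/-- **NS.** `Z ≤ R` (from `le_or_le`), every `h` is in case (i); `C₁^h ≤ C₁` or `≤ C₂`. -/
theorem false_ns {Z R C₁ C₂ : Subgroup G} (N : Set G)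
    (htr : ∀ x ∈ Z, x ≠ 1 → ∀ y ∈ Z, y ≠ 1 → ∃ h ∈ N, h * x * h⁻¹ = y)
    (hNZ : ∀ h ∈ N, MulAut.conj h • Z = Z) (hC : C₁ ≤ Z) (hC1 : C₁ ≠ ⊥) (hne : ¬ Z ⊓ R ≤ C₁)
    (hC2 : ¬ Z ≤ C₂)
    (h : ∀ h ∈ N, (MulAut.conj h • R = R ∧ (MulAut.conj h • C₁ ≤ C₁ ∨ MulAut.conj h • C₁ ≤ C₂)) ∨
      Z ⊓ MulAut.conj h • R ≤ C₁) : False := by
  have h0 : Z ⊓ R ≠ ⊥ := fun h0 => hne (h0 ▸ bot_le)
  have hZC : ¬ Z ≤ C₁ := fun h1 => hne (inf_le_left.trans h1)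
  have h1 := le_or_le N htr (A₀ := Z ⊓ R) (A := R) (B := C₁) inf_le_left h0 (fun g hg => by
    rcases h g hg with h2 | h2
    · left
      conv_rhs => rw [← h2.1]
      exact smul_mono_right _ inf_le_right
    · right
      rw [smul_inf, hNZ g hg]
      exact h2)
  have hZR : Z ≤ R := h1.resolve_right hZC
  have h3 := le_or_le N htr (A₀ := C₁) (A := C₁) (B := C₂) hC hC1 (fun g hg => by
    rcases h g hg with h2 | h2
    · exact h2.2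
    · exfalso
      apply hZC
      refine le_trans (le_inf le_rfl ?_) h2
      rw [← hNZ g hg]
      exact smul_mono_right _ hZR)
  rcases h3 with h3 | h3
  · exact hZC h3
  · exact hC2 h3

end Cfsg.Agent.Omega.NO3S.SOne.Trans
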