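import Cfsg.Agent.Omega.NO3S.Pas.FrT
import Cfsg.Agent.Omega.NO3S.GFF.S1.Four
import Cfsg.Agent.Omega.NO3S.SOne.Trans
import Cfsg.Agent.Omega.NO3S.SOne.Frame

/-!
# GammaFF, (S1) (#21629, helper335): the frame

`P ∈ P**`, `P₁` active, the types `TT S P P₁ = {P} ∪ {P₁^v : v ∈ N_P(S)}`, the geometry of `Y = ⟨P, P₁⟩`.

* `Fnt S P P₁ V F n` : `FrT` for `TT`, `W_F ≤ S`, `n ≥ 1`; `Fnt.conj` : the same for `F^y`, `y ∈ Y`, `W_F^y ≤ S`;
* `BF`, `IF` : the groups `B`, `I`; `BF_conj`, `IF_conj`; `Fnt.line_le_I`, `Fnt.zl_le_I`;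
* `Fnt.not_le_E` / `exists_fnt` : from `Rad`: a front with a bad line at distance `n`.
-/

set_option autoImplicit false
set_option linter.unusedSectionVars false

namespace Cfsg.Agent.Omega.NO3S.SOne

open Subgroup Cfsg Cfsg.Agent.ZN Cfsg.Agent.Omega.MinPar
open Cfsg.Agent.Omega.NoFF.Basic (conj_conj mem_conj conj_le_iff conj_le_centralizer comm_symm comm_mono
  V_le Gal conj_self)
open Cfsg.Agent.Omega.NOne.Flat (EE NN BadX Cos conj_eq_of_norm conj_centralizer WW_conj EE_conj NN_conj conj_eq_of_cent)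
open Cfsg.Agent.Omega.NOne.NearFF (c c_def)
open Cfsg.Agent.Omega.NO3S.Pas (ChT GdT BBT FrT BLT bhT WFr)
open Cfsg.Agent.Omega.NOThreeL.Low.Key (BH)
open Cfsg.Agent.Omega.NO3S.Level (W0 WSt X0 M0 K0 M0_norm S_le_M0 par_le X0_comm X0_sq)
open Cfsg.Agent.Omega.NO3S.GFF.S1 (Rad)
open scoped Pointwise

universe u

variable {G : Type u} [Group G]

/-- The types `P`, `P₁^v`, `v ∈ N_P(S)`. -/
def TT (S P P₁ : Subgroup G) : Set (Subgroup G) :=
  {R | R = P ∨ ∃ v ∈ P ⊓ normalizer (S : Set G), R = MulAut.conj v • P₁}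

theorem P_mem_TT {S P P₁ : Subgroup G} : P ∈ TT S P P₁ := Or.inl rfl

theorem conj_mem_TT {S P P₁ : Subgroup G} {v : G} (hv : v ∈ P ⊓ normalizer (S : Set G)) :
    MulAut.conj v • P₁ ∈ TT S P P₁ := Or.inr ⟨v, hv, rfl⟩

theorem P₁_mem_TT {S P P₁ : Subgroup G} : P₁ ∈ TT S P P₁ := by
  have h := conj_mem_TT (P₁ := P₁) (one_mem (P ⊓ normalizer (S : Set G)))
  rwa [map_one, one_smul] at h

theorem TT_le {S P P₁ : Subgroup G} : ∀ R ∈ TT S P P₁, R ≤ P ⊔ P₁ := by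
  rintro R (rfl | ⟨v, hv, rfl⟩)
  · exact le_sup_left
  · have h1 : MulAut.conj v • (P ⊔ P₁) = P ⊔ P₁ := conj_self ((le_sup_left : P ≤ P ⊔ P₁) hv.1)
    rw [← h1]
    exact conj_le_iff.2 le_sup_right

theorem le_sSup_TT {S P P₁ : Subgroup G} : P ⊔ P₁ ≤ sSup (TT S P P₁) :=
  sup_le (le_sSup P_mem_TT) (le_sSup P₁_mem_TT)

/-- `N(S)` acts on `P*(S)`. -/
theorem parS_conj {S R : Subgroup G} (hR : IsParS S R) {v : G} (hv : v ∈ normalizer (S : Set G)) :
    IsParS S (MulAut.conj v • R) := by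
  have h5 := IsParS.map (MulAut.conj v) hR
  have h6 : S.map (MulAut.conj v).toMonoidHom = S := conj_eq_of_norm hv
  rw [h6] at h5
  exact h5

/-! ### conjugation of the front -/

section conj

variable {𝒯 : Set (Subgroup G)} {M S V F : Subgroup G} {n : ℕ} {y : G}

theorem cj_inv_cj (y : G) (A : Subgroup G) : MulAut.conj y⁻¹ • MulAut.conj y • A = A := by
  rw [conj_conj, inv_mul_cancel, map_one, one_smul]

theorem cj_cj_inv (y : G) (A : Subgroup G) : MulAut.conj y • MulAut.conj y⁻¹ • A = A := by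
  rw [conj_conj, mul_inv_cancel, map_one, one_smul]

theorem chT_conj {A : Subgroup G} {j : ℕ} {x : G} (hy : y ∈ M) (h : ChT 𝒯 M S A j x) :
    ChT 𝒯 M S (MulAut.conj y • A) j (y * x) := by
  obtain ⟨a, ha, haW, hax⟩ := h
  refine ⟨y * a, mul_mem hy ha, ?_, hax.mul_left y⟩
  rw [← conj_conj]
  exact conj_le_iff.2 haW

theorem chT_conj_iff {A : Subgroup G} {j : ℕ} {x : G} (hy : y ∈ M) :
    ChT 𝒯 M S (MulAut.conj y • A) j (y * x) ↔ ChT 𝒯 M S A j x := by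
  refine ⟨fun h => ?_, chT_conj hy⟩
  have h1 := chT_conj (inv_mem hy) h
  rwa [cj_inv_cj, inv_mul_cancel_left] at h1

/-- `B` -/
abbrev BF (𝒯 : Set (Subgroup G)) (M S V : Subgroup G) (n : ℕ) (F : Subgroup G) : Subgroup G :=
  BLT 𝒯 M S V F n

/-- `I = V ∩ B` -/
abbrev IF (𝒯 : Set (Subgroup G)) (M S V : Subgroup G) (n : ℕ) (F : Subgroup G) : Subgroup G :=
  V ⊓ BLT 𝒯 M S V F n

theorem BBT_conj_le (hM : M ≤ normalizer (V : Set G)) (hy : y ∈ M) :
    MulAut.conj y • BBT 𝒯 M S V F n ≤ BBT 𝒯 M S V (MulAut.conj y • F) n := by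
  have hyV := hM hy
  rw [← conj_le_iff (g := y⁻¹), cj_inv_cj]
  refine sSup_le ?_
  rintro _ ⟨l, ⟨j, hj, g, hg, R, hR, rfl, hl⟩, x, hx, rfl⟩
  rw [← conj_le_iff (g := y), cj_cj_inv]
  refine le_sSup ⟨MulAut.conj y • MulAut.conj g • zl S R, ⟨j, hj, y * g, ?_, R, hR, ?_, ?_⟩, y * x * y⁻¹, ?_, ?_⟩
  · rw [← WW_conj hyV]
    exact chT_conj hy hg
  · rw [conj_conj]
  · rw [← EE_conj hyV]
    exact conj_le_iff.2 hl
  · rw [← conj_centralizer, mem_conj]
    have e : y⁻¹ * (y * x * y⁻¹) * y = x := by group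
    rwa [e]
  · rw [conj_conj, conj_conj, conj_conj, conj_conj]
    congr 1
    group

theorem BBT_conj (hM : M ≤ normalizer (V : Set G)) (hy : y ∈ M) :
    BBT 𝒯 M S V (MulAut.conj y • F) n = MulAut.conj y • BBT 𝒯 M S V F n := by
  refine le_antisymm ?_ (BBT_conj_le hM hy)
  have h1 := BBT_conj_le (𝒯 := 𝒯) (S := S) (F := MulAut.conj y • F) (n := n) hM (inv_mem hy)
  rw [cj_inv_cj] at h1
  have h2 := conj_le_iff (g := y).2 h1
  rwa [cj_cj_inv] at h2

theorem BF_conj (hM : M ≤ normalizer (V : Set G)) (hy : y ∈ M) :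
    BF 𝒯 M S V n (MulAut.conj y • F) = MulAut.conj y • BF 𝒯 M S V n F := by
  rw [BF, BLT, BBT_conj hM hy, ← Subgroup.smul_sup]

theorem IF_conj (hM : M ≤ normalizer (V : Set G)) (hy : y ∈ M) :
    IF 𝒯 M S V n (MulAut.conj y • F) = MulAut.conj y • IF 𝒯 M S V n F := by
  have h1 := BF_conj (𝒯 := 𝒯) (S := S) (F := F) (n := n) hM hy
  rw [BF] at h1
  rw [IF, IF, h1, Subgroup.smul_inf, conj_eq_of_norm (hM hy)]

theorem frT_conj [Finite G] {S : Sylow 2 G} (h : FrT 𝒯 S M V F n) (hy : y ∈ M)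
    (hW : NOne.Flat.WW V (MulAut.conj y • F) ≤ (S : Subgroup G)) (hne : 𝒯.Nonempty) : FrT 𝒯 S M V (MulAut.conj y • F) n := by
  have hyV := h.MV hy
  refine { hc := h.hc, noff := h.noff, hyp := h.hyp.conj hyV, TT := h.TT, PM := h.PM, MV := h.MV, ZV := h.ZV
           least := ?_, one := ?_ }
  · intro j hj g hg R hR
    rw [← WW_conj hyV] at hg
    have h1 : ChT 𝒯 M (S : Subgroup G) (NOne.Flat.WW V F) j (y⁻¹ * g) := by
      rw [← chT_conj_iff hy, mul_inv_cancel_left]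
      exact hg
    have h2 := conj_le_iff (g := y).2 (h.least j hj _ h1 R hR)
    rwa [conj_conj, mul_inv_cancel_left, EE_conj hyV] at h2
  · refine ChT.mono (Nat.zero_le n) hne ?_
    exact ⟨1, one_mem _, by rw [map_one, one_smul]; exact hW, Gal.zero _⟩

end conj

/-! ### the front of (S1) -/

variable [Finite G] {S : Sylow 2 G} {P P₁ V F : Subgroup G} {n : ℕ}

/-- The front of (S1). -/
structure Fnt (S : Sylow 2 G) (P P₁ V F : Subgroup G) (n : ℕ) : Prop where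
  fr : FrT (TT (S : Subgroup G) P P₁) S (P ⊔ P₁) V F n
  WS : NOne.Flat.WW V F ≤ (S : Subgroup G)
  one_le : 1 ≤ n

namespace Fnt

variable (h : Fnt S P P₁ V F n)
include h

theorem hyp : NOne.Flat.Hyp V F := h.fr.hyp

theorem bh : BH V F (BF (TT (S : Subgroup G) P P₁) (P ⊔ P₁) (S : Subgroup G) V n F) := bhT h.fr

theorem par₁ : IsParS (S : Subgroup G) P₁ := h.fr.TT _ P₁_mem_TT

theorem par : IsParS (S : Subgroup G) P := h.fr.TT _ P_mem_TT

theorem norm {y : G} (hy : y ∈ P ⊔ P₁) : y ∈ normalizer (V : Set G) := h.fr.MV hy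

/-- `S ≤ Y` -/
theorem S_le : (S : Subgroup G) ≤ P ⊔ P₁ := h.par.le.trans le_sup_left

theorem conj {y : G} (hy : y ∈ P ⊔ P₁) (hW : MulAut.conj y • NOne.Flat.WW V F ≤ (S : Subgroup G)) :
    Fnt S P P₁ V (MulAut.conj y • F) n where
  fr := frT_conj h.fr hy (by rwa [← WW_conj (h.norm hy)]) ⟨P, P_mem_TT⟩
  WS := by rwa [← WW_conj (h.norm hy)]
  one_le := h.one_le

/-- the chambers of `Δ` -/
theorem ch {g : G} (hg : g ∈ P ⊔ P₁) (hW : NOne.Flat.WW V F ≤ MulAut.conj g • (S : Subgroup G)) :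
    ChT (TT (S : Subgroup G) P P₁) (P ⊔ P₁) (S : Subgroup G) (NOne.Flat.WW V F) 0 g := ⟨g, hg, hW, Gal.zero _⟩

theorem ch_one : ChT (TT (S : Subgroup G) P P₁) (P ⊔ P₁) (S : Subgroup G) (NOne.Flat.WW V F) 0 1 :=
  h.ch (one_mem _) (by rw [map_one, one_smul]; exact h.WS)

/-- lines of the chambers of `Δ` are good -/
theorem good {g : G} (hg : g ∈ P ⊔ P₁) (hW : NOne.Flat.WW V F ≤ MulAut.conj g • (S : Subgroup G)) {R : Subgroup G}
    (hR : R ∈ TT (S : Subgroup G) P P₁) : MulAut.conj g • zl (S : Subgroup G) R ≤ EE V F :=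
  h.fr.least 0 (Nat.lt_of_lt_of_le Nat.zero_lt_one h.one_le) g (h.ch hg hW) R hR

/-- good lines at distance `≤ n` lie in `B` -/
theorem line_le_B {j : ℕ} (hj : j ≤ n) {g : G}
    (hg : ChT (TT (S : Subgroup G) P P₁) (P ⊔ P₁) (S : Subgroup G) (NOne.Flat.WW V F) j g) {R : Subgroup G}
    (hR : R ∈ TT (S : Subgroup G) P P₁) (hE : MulAut.conj g • zl (S : Subgroup G) R ≤ EE V F) :
    MulAut.conj g • zl (S : Subgroup G) R ≤ BF (TT (S : Subgroup G) P P₁) (P ⊔ P₁) (S : Subgroup G) V n F :=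
  (FrT.le_BB' (FrT.mem_Gd hj hg hR hE)).trans le_sup_left

/-- good lines at distance `≤ n` lie in `I` -/
theorem line_le_I {j : ℕ} (hj : j ≤ n) {g : G}
    (hg : ChT (TT (S : Subgroup G) P P₁) (P ⊔ P₁) (S : Subgroup G) (NOne.Flat.WW V F) j g) {R : Subgroup G}
    (hR : R ∈ TT (S : Subgroup G) P P₁) (hE : MulAut.conj g • zl (S : Subgroup G) R ≤ EE V F) :
    MulAut.conj g • zl (S : Subgroup G) R ≤ IF (TT (S : Subgroup G) P P₁) (P ⊔ P₁) (S : Subgroup G) V n F :=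
  le_inf (h.fr.line_le_V (h.fr.mem_M hg) hR) (h.line_le_B hj hg hR hE)

/-- the lines of the chambers of `Δ` lie in `I` -/
theorem line_le_I' {g : G} (hg : g ∈ P ⊔ P₁) (hW : NOne.Flat.WW V F ≤ MulAut.conj g • (S : Subgroup G)) {R : Subgroup G}
    (hR : R ∈ TT (S : Subgroup G) P P₁) :
    MulAut.conj g • zl (S : Subgroup G) R ≤ IF (TT (S : Subgroup G) P P₁) (P ⊔ P₁) (S : Subgroup G) V n F :=
  h.line_le_I (Nat.zero_le n) (h.ch hg hW) hR (h.good hg hW hR)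

/-- `V_R ≤ I`, `R ∈ TT` -/
theorem zl_le_I {R : Subgroup G} (hR : R ∈ TT (S : Subgroup G) P P₁) :
    zl (S : Subgroup G) R ≤ IF (TT (S : Subgroup G) P P₁) (P ⊔ P₁) (S : Subgroup G) V n F := by
  have h1 := h.line_le_I' (one_mem _) (by rw [map_one, one_smul]; exact h.WS) hR
  rwa [map_one, one_smul] at h1

/-- `V_R^p` for `R ∈ TT`, `p ∈ R' ∈ TT`: in `I`, if good -/
theorem line_le_I_one {R R' : Subgroup G} (hR : R ∈ TT (S : Subgroup G) P P₁) (hR' : R' ∈ TT (S : Subgroup G) P P₁)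
    {p : G} (hp : p ∈ R') (hE : MulAut.conj p • zl (S : Subgroup G) R ≤ EE V F) :
    MulAut.conj p • zl (S : Subgroup G) R ≤ IF (TT (S : Subgroup G) P P₁) (P ⊔ P₁) (S : Subgroup G) V n F := by
  have h1 := h.ch_one.mul hR' hp
  rw [one_mul] at h1
  exact h.line_le_I h.one_le h1 hR hE

/-- `B ≤ S` -/
theorem B_le_S : BF (TT (S : Subgroup G) P P₁) (P ⊔ P₁) (S : Subgroup G) V n F ≤ (S : Subgroup G) := by
  have h1 := Pas.BL_le_conjT h.fr (Nat.zero_le n) h.ch_one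
  rwa [map_one, one_smul] at h1

end Fnt

/-- `N_P(S)` acts on the types. -/
theorem zl_conj {v : G} (hv : v ∈ normalizer ((S : Subgroup G) : Set G)) (R : Subgroup G) :
    MulAut.conj v • zl (S : Subgroup G) R = zl (S : Subgroup G) (MulAut.conj v • R) := by
  have h1 := zl_map (MulAut.conj v).toMonoidHom (MulAut.conj v).injective (S : Subgroup G) R
  have h2 : (S : Subgroup G).map (MulAut.conj v).toMonoidHom = S := conj_eq_of_norm hv
  rw [h2] at h1
  exact h1.symm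

/-! ### the local form of (S1) -/

/-- **(S1) at one `F`**: `P₁` active with `C_Z(P₁) ≠ 1`, `P ∈ P**` passive. -/
structure Sg (S : Sylow 2 G) (P P₁ F : Subgroup G) : Prop extends WSt S P₁ F where
  hz : zc (S : Subgroup G) ⊓ centralizer (P₁ : Set G) ≠ ⊥
  hP : PSS (S : Subgroup G) P
  hp : NOne.Flat.WW (X0 (S : Subgroup G)) F ≤ o2 P

theorem sg_of_rad (h : Rad S) (w : WSt S P₁ F) (hP : PSS (S : Subgroup G) P) : Sg S P P₁ F :=
  { toWSt := w, hz := h.rad P₁ F w, hP := hP, hp := h.pas hP w.hyp w.WS }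

namespace Sg

variable (h : Sg S P P₁ F)
include h

/-- `|Z| > 2` -/
theorem two : ∃ z ∈ zc (S : Subgroup G), ∃ z' ∈ zc (S : Subgroup G), z ≠ 1 ∧ z' ≠ 1 ∧ z ≠ z' := by
  obtain ⟨z, hz, hz1⟩ := ThmB.Main.exists_ne h.hz
  by_contra hcon
  push Not at hcon
  apply ThmB.Main.not_cent h.par
  intro g hg
  rw [mem_centralizer_iff]
  intro z' hz'
  by_cases h1 : z' = 1
  · rw [h1, one_mul, mul_one]
  · have e := hcon z hz.1 z' hz' hz1 h1
    rw [← e]
    exact (mem_centralizer_iff.1 hz.2 g hg).symm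

theorem not_le : ¬ zl (S : Subgroup G) P₁ ≤ zl (S : Subgroup G) P := by
  intro h1
  apply h.mv
  rw [← IsParS.inf_centralizer S h.ctx.char2 h.par]
  have h2 := h.hp
  rw [← IsParS.inf_centralizer S h.ctx.char2 h.hP.par] at h2
  exact le_inf h.WS ((h2.trans inf_le_right).trans (centralizer_le h1))

theorem not_off : ¬ ∃ A ≤ P ⊔ P₁, FFThm.OffM (zl (S : Subgroup G) (P ⊔ P₁)) A :=
  GFF.S1.not_off (h.toHypC.hypN h.hP.par h.hP.nonLoc) (h.ty P h.hP) h.par (Or.inr h.two) h.not_le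

theorem Y_le : P ⊔ P₁ ≤ normalizer (X0 (S : Subgroup G) : Set G) :=
  (sup_le (par_le h.hP.par) (par_le h.par)).trans (M0_norm _)

theorem not_le_EE : ¬ zl (S : Subgroup G) (P ⊔ P₁) ≤ EE (X0 (S : Subgroup G)) F := by
  intro hE
  refine h.not_off ⟨NOne.Flat.WW (X0 (S : Subgroup G)) F, h.WS.trans (h.par.le.trans le_sup_right), ?_⟩
  have hLV : zl (S : Subgroup G) (P ⊔ P₁) ≤ X0 (S : Subgroup G) := hE.trans inf_le_left
  have h1 := h.hyp.elemM_W
  refine { sq := fun a ha => centralizer_le hLV (h1.sq a ha)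
           comm := fun a ha b hb => centralizer_le hLV (h1.comm a ha b hb)
           ne := fun hc => h.mv ?_
           le := FFThm.relIndex_le_iff.2 (h.hyp.off_of_le_all hE) }
  rw [← IsParS.inf_centralizer S h.ctx.char2 h.par]
  refine le_inf h.WS (hc.trans (centralizer_le ?_))
  exact ZN.zl_le ZN.zc_le_zl (le_sup_right.trans (ZN.le_normalizer_zl _ _))

end Sg

/-- **The front exists.** -/
theorem exists_fnt (h : Sg S P P₁ F) :
    ∃ n, Fnt S P P₁ (X0 (S : Subgroup G)) F n ∧ ∃ g R,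
      ChT (TT (S : Subgroup G) P P₁) (P ⊔ P₁) (S : Subgroup G) (NOne.Flat.WW (X0 (S : Subgroup G)) F) n g ∧
      R ∈ TT (S : Subgroup G) P P₁ ∧ ¬ MulAut.conj g • zl (S : Subgroup G) R ≤ EE (X0 (S : Subgroup G)) F := by
  classical
  have hMV := h.Y_le
  have hTT : ∀ R ∈ TT (S : Subgroup G) P P₁, IsParS (S : Subgroup G) R := by
    rintro R (rfl | ⟨v, hv, rfl⟩)
    · exact h.hP.par
    · exact parS_conj h.par hv.2
  have wf : WFr S (M0 (S : Subgroup G)) (X0 (S : Subgroup G)) F :=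
    { hc := h.ctx.char2, noff := h.noFF, low := h.low, hyp := h.hyp
      PM := fun R hR => par_le hR, MV := M0_norm _, ZV := h.zc_le_X0, WS := h.WS }
  have hYM : P ⊔ P₁ ≤ M0 (S : Subgroup G) := sup_le (par_le h.hP.par) (par_le h.par)
  have hex : ∃ n : ℕ, ∃ g R, ChT (TT (S : Subgroup G) P P₁) (P ⊔ P₁) (S : Subgroup G)
      (NOne.Flat.WW (X0 (S : Subgroup G)) F) n g ∧ R ∈ TT (S : Subgroup G) P P₁ ∧
      ¬ MulAut.conj g • zl (S : Subgroup G) R ≤ EE (X0 (S : Subgroup G)) F := by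
    by_contra hcon
    push Not at hcon
    apply h.not_le_EE
    refine iSup_le fun y => ?_
    obtain ⟨k, hk⟩ := Pas.exists_galT (le_sSup_TT (S := (S : Subgroup G)) y.2)
    have h1 := hcon k y P ⟨1, one_mem _, by rw [map_one, one_smul]; exact h.WS, hk⟩ P_mem_TT
    exact (conj_le_iff.2 (MinSimple.VModule.zc_le_zl (S : Subgroup G) P)).trans h1
  obtain ⟨g, R, hg, hR, hgR⟩ := Nat.find_spec hex
  have hmin := fun j (hj : j < Nat.find hex) => Nat.find_min hex hj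
  set n := Nat.find hex with hn
  have hn1 : 1 ≤ n := by
    by_contra h0
    have h0 : n = 0 := by omega
    rw [h0] at hg
    have hgM := hg.mem TT_le
    exact hgR (wf.good (hYM hgM) hg.zero_le (hTT R hR))
  refine ⟨n, ⟨⟨h.ctx.char2, h.noFF, h.hyp, hTT, TT_le, hMV, h.zc_le_X0, ?_, ?_⟩, h.WS, hn1⟩, g, R, hg, hR, hgR⟩
  · intro j hj x hx Q hQ
    by_contra hcon
    exact hmin j hj ⟨x, Q, hx, hQ, hcon⟩
  · refine ChT.mono (Nat.zero_le n) ⟨P, P_mem_TT⟩ ?_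
    exact ⟨1, one_mem _, by rw [map_one, one_smul]; exact h.WS, Gal.zero _⟩

/-- **The frame `SO` of (S1)** from the front. -/
theorem Fnt.so (h : Fnt S P P₁ V F n) (act : ¬ NOne.Flat.WW V F ≤ o2 P₁) :
    SO S V F (BF (TT (S : Subgroup G) P P₁) (P ⊔ P₁) (S : Subgroup G) V n F) P P₁ :=
  { toBH := h.bh
    hc := h.fr.hc
    hP := h.par
    hP₁ := h.par₁
    PV := le_sup_left.trans h.fr.MV
    P₁V := le_sup_right.trans h.fr.MV
    ZV := h.fr.ZV
    WS := h.WS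
    act := act
    line0 := fun y hy hW => h.line_le_B (Nat.zero_le n) (h.ch hy hW) P₁_mem_TT (h.good hy hW P₁_mem_TT)
    line1 := by
      intro g hg v hv hN hE
      have h1 : MulAut.conj (g * v) • zl (S : Subgroup G) P₁ =
          MulAut.conj g • zl (S : Subgroup G) (MulAut.conj v • P₁) := by
        rw [← zl_conj hN, conj_conj]
      rw [h1] at hE ⊢
      have h2 := h.ch_one.mul P₁_mem_TT hg
      rw [one_mul] at h2
      exact h.line_le_B h.one_le h2 (conj_mem_TT ⟨hv, hN⟩) hE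
    BS := by
      intro g hg
      have h2 := h.ch_one.mul P₁_mem_TT hg
      rw [one_mul] at h2
      exact Pas.BL_le_conjT h.fr h.one_le h2 }

/-- **`SO` for one `F`.** -/
theorem exists_so (h : Sg S P P₁ F) :
    ∃ n, Fnt S P P₁ (X0 (S : Subgroup G)) F n ∧
      SO S (X0 (S : Subgroup G)) F (BF (TT (S : Subgroup G) P P₁) (P ⊔ P₁) (S : Subgroup G) (X0 (S : Subgroup G)) n F)
        P P₁ ∧ ∃ g R,
      ChT (TT (S : Subgroup G) P P₁) (P ⊔ P₁) (S : Subgroup G) (NOne.Flat.WW (X0 (S : Subgroup G)) F) n g ∧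
      R ∈ TT (S : Subgroup G) P P₁ ∧ ¬ MulAut.conj g • zl (S : Subgroup G) R ≤ EE (X0 (S : Subgroup G)) F := by
  obtain ⟨n, hf, hbad⟩ := exists_fnt h
  exact ⟨n, hf, hf.so h.mv, hbad⟩

/-- passivity of `P` for all conjugates, from `Rad` -/
theorem pas_of_rad (h : Rad S) (w : WSt S P₁ F) (hP : PSS (S : Subgroup G) P) :
    ∀ y ∈ P ⊔ P₁, MulAut.conj y • NOne.Flat.WW (X0 (S : Subgroup G)) F ≤ (S : Subgroup G) →
      MulAut.conj y • NOne.Flat.WW (X0 (S : Subgroup G)) F ≤ o2 P := by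
  intro y hy hW
  have h1 := (sg_of_rad h w hP).Y_le hy
  rw [WW_conj h1] at hW ⊢
  exact h.pas hP (w.hyp.conj h1) hW

end Cfsg.Agent.Omega.NO3S.SOne
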