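import Cfsg.Agent.Omega.NO3S.SOne.Frame
import Cfsg.Agent.Omega.Spread.OffAll

/-!
# GammaFF, (S1) (#21629): the KEY groups

* `SO.L_le_V`, `SO.YV`, `SO.SY` : trivialities;
* `offM_of_le` : `W` offends on every `L ≤ E` which it moves; `const_of_key` : with constant commutators, `L ≤ I`;
* `SO.comm_eq` : `⁅L, W⁆ = ⁅L₁, W⁆` for `L ≤ I` moved by `W`;
* `SO.ka` : `W^y ≤ S`, `y ∈ Y = ⟨P, P₁⟩`, `W^y ≰ O₂(P₁)` ⟹ `KA S P₁ (W^y)`.
-/

set_option autoImplicit false
set_option linter.unusedSectionVars false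

namespace Cfsg.Agent.Omega.NO3S.SOne

open Subgroup Cfsg Cfsg.Agent.ZN Cfsg.Agent.Omega.MinPar
open Cfsg.Agent.Omega.NOne.Flat (EE NN conj_eq_of_norm conj_centralizer)
open Cfsg.Agent.Omega.NOne.NearFF (c c_def)
open Cfsg.Agent.Omega.NoFF.Basic (conj_conj mem_conj conj_le_iff conj_le_centralizer comm_symm)
open Cfsg.Agent.Omega.NOThreeL.Low.Key (BH)
open Cfsg.Agent.Omega.FFThm (ElemM OffM NoOverM relIndex_le_iff)
open Cfsg.Agent.Omega.NOThreeL.NF (MinOffM)
open Cfsg.Agent.Omega.NOThreeL.NF.NatR (Const)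
open Cfsg.Agent.Omega.NO3S.Pas (Key)
open scoped Pointwise

universe u

variable {G : Type u} [Group G]

theorem conj_inv_smul (g : G) (A : Subgroup G) : MulAut.conj g⁻¹ • (MulAut.conj g • A) = A := by
  rw [conj_conj, inv_mul_cancel, map_one, one_smul]

theorem conj_smul_inv (g : G) (A : Subgroup G) : MulAut.conj g • (MulAut.conj g⁻¹ • A) = A := by
  rw [conj_conj, mul_inv_cancel, map_one, one_smul]

theorem le_conj_iff {g : G} {A B : Subgroup G} : A ≤ MulAut.conj g • B ↔ MulAut.conj g⁻¹ • A ≤ B := by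
  rw [← conj_le_iff (g := g⁻¹), conj_inv_smul]

theorem conj_le_iff' {g : G} {A B : Subgroup G} : MulAut.conj g • A ≤ B ↔ A ≤ MulAut.conj g⁻¹ • B := by
  rw [le_conj_iff, inv_inv]

/-- `[x, A] = [y, A]`, conjugated -/
theorem const_conj {L A : Subgroup G} (h : Const L A) (g : G) : Const (MulAut.conj g • L) (MulAut.conj g • A) := by
  have key : ∀ x : G, x ∉ centralizer ((MulAut.conj g • A : Subgroup G) : Set G) → g⁻¹ * x * g ∉ centralizer (A : Set G) := by
    intro x hx h1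
    apply hx
    rw [← conj_centralizer, mem_conj]
    exact h1
  intro x hx hxc y hy hyc a ha
  obtain ⟨b, hb, e⟩ := h (g⁻¹ * x * g) (mem_conj.1 hx) (key x hxc) (g⁻¹ * y * g) (mem_conj.1 hy) (key y hyc)
    (g⁻¹ * a * g) (mem_conj.1 ha)
  refine ⟨g * b * g⁻¹, NOne.Frame.conj_mem hb, ?_⟩
  have e1 : a * x * a⁻¹ * x⁻¹ =
      g * (g⁻¹ * a * g * (g⁻¹ * x * g) * (g⁻¹ * a * g)⁻¹ * (g⁻¹ * x * g)⁻¹) * g⁻¹ := by group
  rw [e1, e]
  group

theorem offM_conj {L A : Subgroup G} (h : OffM L A) (g : G) : OffM (MulAut.conj g • L) (MulAut.conj g • A) :=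
  NO3b.Bang.OffM_cj h g

variable [Finite G] {S : Sylow 2 G} {V F B P P₁ : Subgroup G}

/-- `W` offends on every `L ≤ E` which it moves. -/
theorem offM_of_le (h : NOne.Flat.Hyp V F) {L : Subgroup G} (hL : L ≤ EE V F) (hm : ¬ NOne.Flat.WW V F ≤ centralizer (L : Set G)) :
    OffM L (NOne.Flat.WW V F) where
  sq a ha := centralizer_le (hL.trans inf_le_left) (h.elemM_W.sq a ha)
  comm a ha b hb := centralizer_le (hL.trans inf_le_left) (h.elemM_W.comm a ha b hb)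
  ne := hm
  le := relIndex_le_iff.2 (h.off_of_le_all hL)

theorem cent_of_F {x : G} (hx : x ∈ F) : x ∈ centralizer (NOne.Flat.WW V F : Set G) := by
  rw [mem_centralizer_iff]
  intro w hw
  exact (NOne.Flat.Hyp.F_comm hx (NOne.Flat.Hyp.W_le_X hw)).symm

/-- constant commutators -/
theorem const_of_key (h : BH V F B) (hk : Key V F B) {L : Subgroup G} (hL : L ≤ V ⊓ B) : Const L (NOne.Flat.WW V F) := by
  intro x hx hxc y hy hyc a ha
  have hxF : x ∉ F := fun h1 => hxc (cent_of_F h1)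
  have hyF : y ∉ F := fun h1 => hyc (cent_of_F h1)
  obtain ⟨b, hb, hbN⟩ := h.exists_not_mem_NN fun h1 => hxF (h1 (hL hx))
  obtain ⟨t, ht, e⟩ := (hk y (hL hy) hyF b hb hbN _).2 ((hk x (hL hx) hxF b hb hbN _).1 ⟨a, ha, rfl⟩)
  refine ⟨t, ht, ?_⟩
  rw [c_def, c_def] at e
  have e1 : a * x * a⁻¹ * x⁻¹ = (x * a * x⁻¹ * a⁻¹)⁻¹ := by group
  have e2 : t * y * t⁻¹ * y⁻¹ = (y * t * y⁻¹ * t⁻¹)⁻¹ := by group
  rw [e1, e2, e]

namespace SO

variable (so : SO S V F B P P₁)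
include so

theorem YV : P ⊔ P₁ ≤ normalizer (V : Set G) := sup_le so.PV so.P₁V

theorem SP : (S : Subgroup G) ≤ P := so.hP.le

theorem SP₁ : (S : Subgroup G) ≤ P₁ := so.hP₁.le

theorem SY : (S : Subgroup G) ≤ P ⊔ P₁ := so.SP.trans le_sup_left

theorem PL : P₁ ≤ normalizer (zl (S : Subgroup G) P₁ : Set G) := MinSimple.VModule.le_normalizer_zl _ _

theorem conj_V {y : G} (hy : y ∈ P ⊔ P₁) : MulAut.conj y • V = V := conj_eq_of_norm (so.YV hy)

theorem conj_L {p : G} (hp : p ∈ P₁) : MulAut.conj p • zl (S : Subgroup G) P₁ = zl (S : Subgroup G) P₁ :=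
  conj_eq_of_norm (so.PL hp)

theorem L_le_V : zl (S : Subgroup G) P₁ ≤ V := MinSimple.VModule.zl_le so.ZV so.P₁V

theorem line_le_V {y : G} (hy : y ∈ P ⊔ P₁) : MulAut.conj y • zl (S : Subgroup G) P₁ ≤ V := by
  rw [← so.conj_V hy]
  exact conj_le_iff.2 so.L_le_V

theorem line_le_I {y : G} (hy : y ∈ P ⊔ P₁) (hW : NOne.Flat.WW V F ≤ MulAut.conj y • (S : Subgroup G)) :
    MulAut.conj y • zl (S : Subgroup G) P₁ ≤ V ⊓ B := le_inf (so.line_le_V hy) (so.line0 y hy hW)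

theorem L_le_I : zl (S : Subgroup G) P₁ ≤ V ⊓ B := by
  have h1 := so.line_le_I (one_mem (P ⊔ P₁)) (by rw [map_one, one_smul]; exact so.WS)
  rwa [map_one, one_smul] at h1

theorem o2_eq : (S : Subgroup G) ⊓ centralizer (zl (S : Subgroup G) P₁ : Set G) = o2 P₁ := so.hP₁.inf_centralizer S so.hc

theorem mov : ¬ NOne.Flat.WW V F ≤ centralizer (zl (S : Subgroup G) P₁ : Set G) := fun h => so.act (by
  rw [← so.o2_eq]; exact le_inf so.WS h)

/-- `⁅L, W⁆ = ⁅L₁, W⁆` for `L ≤ I` moved by `W`. -/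
theorem comm_eq (hk : Key V F B) {L L' : Subgroup G} (hL : L ≤ V ⊓ B) (hL' : L' ≤ V ⊓ B)
    (hm : ¬ NOne.Flat.WW V F ≤ centralizer (L : Set G)) (hm' : ¬ NOne.Flat.WW V F ≤ centralizer (L' : Set G)) :
    ⁅L, NOne.Flat.WW V F⁆ = ⁅L', NOne.Flat.WW V F⁆ := by
  apply le_antisymm
  · rw [commutator_le]
    intro x hx w hw
    rw [commutatorElement_def, ← c_def]
    exact hk.mem so.toBH hL' hm' (hL hx) hw
  · rw [commutator_le]
    intro x hx w hw
    rw [commutatorElement_def, ← c_def]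
    exact hk.mem so.toBH hL hm (hL' hx) hw

/-- **`W^y` acts on `L₁` with constant commutators.** -/
theorem ka (hk : Key V F B) {y : G} (hy : y ∈ P ⊔ P₁) (hS : MulAut.conj y • NOne.Flat.WW V F ≤ (S : Subgroup G))
    (hm : ¬ MulAut.conj y • NOne.Flat.WW V F ≤ o2 P₁) : KA (S : Subgroup G) P₁ (MulAut.conj y • NOne.Flat.WW V F) := by
  have hmc : ¬ MulAut.conj y • NOne.Flat.WW V F ≤ centralizer (zl (S : Subgroup G) P₁ : Set G) := fun h => hm (by
    rw [← so.o2_eq]; exact le_inf hS h)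
  have hy' := inv_mem hy
  have hI := so.line_le_I hy' (by rw [le_conj_iff, inv_inv]; exact hS)
  have hE : MulAut.conj y⁻¹ • zl (S : Subgroup G) P₁ ≤ EE V F := hI.trans so.toBH.I_le_E
  have hmv : ¬ NOne.Flat.WW V F ≤ centralizer ((MulAut.conj y⁻¹ • zl (S : Subgroup G) P₁ : Subgroup G) : Set G) := by
    intro h1
    apply hmc
    have h2 := conj_le_centralizer (g := y) h1
    rwa [conj_smul_inv] at h2
  have h1 := offM_conj (offM_of_le so.toHyp hE hmv) y
  have h2 := const_conj (const_of_key so.toBH hk hI) y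
  rw [conj_smul_inv] at h1 h2
  exact ⟨hS, h1, h2⟩

theorem ka_one (hk : Key V F B) : KA (S : Subgroup G) P₁ (NOne.Flat.WW V F) := by
  have h1 := so.ka hk (one_mem (P ⊔ P₁)) (by rw [map_one, one_smul]; exact so.WS) (by
    rw [map_one, one_smul]; exact so.act)
  rwa [map_one, one_smul] at h1

end SO

/-- The KEY groups are the root groups. -/
theorem NT.min {T H : Subgroup G} {q : ℕ} (nt : NT T H q) {A : Subgroup G} (h : KA T H A) : MinOffM (zl T H) T A :=
  nt.const A h.le h.off h.const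

end Cfsg.Agent.Omega.NO3S.SOne
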