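import Cfsg.Agent.Omega.NO3S.SOne.KeyInst

/-!
# GammaFF, (S1): the KEY from constant commutators: `SOne.key_of_const`, `Fnt.key_of_const` in `KeyInst.lean` (helper894).
-/
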