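import Cfsg.Agent.Omega.NO3S.SOne.KA
import Cfsg.Agent.Omega.NO3S.SOne.Trans
import Cfsg.Agent.Omega.NoFF.LinesPlug

/-!
# GammaFF, (S1) (#21629): (i) and the assembly, KEY case, `q₀ ≥ 4`

`A = W = WW V F`, `ρ = ⁅L₁, W⁆`, `R₁ = RR S P₁ W = ⟨ρ^S⟩`.

* `comm_sup_cent` : `⁅L, A ⊔ C⁆ = ⁅L, A⁆` if `C` centralises `L`;
* `SO.conj_RR` : (i) `h ∈ N_P(S)`, `W` moves `L₁^h` ⟹ `R₁^h = R₁`;
* `SO.conj_RR'` : the same if `W^h` moves `L₁`;
* `SO.RR_le_V`, `SO.RR_ne` : `Z ∩ R₁ ≠ 1`;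
* `SO.false_of` : the end.
-/

set_option autoImplicit false
set_option linter.unusedSectionVars false

namespace Cfsg.Agent.Omega.NO3S.SOne

open Subgroup Cfsg Cfsg.Agent.ZN Cfsg.Agent.Omega.MinPar
open Cfsg.Agent.Omega.NOne.Flat (EE NN conj_eq_of_norm conj_centralizer)
open Cfsg.Agent.Omega.NoFF.Basic (conj_conj mem_conj conj_le_iff conj_le_centralizer comm_symm)
open Cfsg.Agent.Omega.NOThreeL.Low.Key (BH)
open Cfsg.Agent.Omega.FFThm (ElemM OffM NoOverM)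
open Cfsg.Agent.Omega.FrameFF (cv)
open Cfsg.Agent.Omega.NO3S.Pas (Key)
open scoped Pointwise

universe u

variable {G : Type u} [Group G]

theorem mul_of_mem_sup {A B : Subgroup G} (h : A ≤ normalizer (B : Set G)) {x : G} (hx : x ∈ A ⊔ B) :
    ∃ a ∈ A, ∃ b ∈ B, x = a * b := by
  rw [sup_eq_closure] at hx
  refine closure_induction (fun y hy => ?_) ?_ (fun y z _ _ hy hz => ?_) (fun y _ hy => ?_) hx
  · rcases hy with hy | hy
    · exact ⟨y, hy, 1, B.one_mem, (mul_one y).symm⟩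
    · exact ⟨1, A.one_mem, y, hy, (one_mul y).symm⟩
  · exact ⟨1, A.one_mem, 1, B.one_mem, (mul_one 1).symm⟩
  · obtain ⟨a, ha, b, hb, rfl⟩ := hy
    obtain ⟨a', ha', b', hb', rfl⟩ := hz
    refine ⟨a * a', A.mul_mem ha ha', a'⁻¹ * b * a' * b', B.mul_mem ?_ hb', by group⟩
    have := (mem_normalizer_iff.1 (h (A.inv_mem ha')) b).1 hb
    rwa [inv_inv] at this
  · obtain ⟨a, ha, b, hb, rfl⟩ := hy
    exact ⟨a⁻¹, A.inv_mem ha, a * b⁻¹ * a⁻¹, (mem_normalizer_iff.1 (h ha) b⁻¹).1 (B.inv_mem hb), by group⟩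

theorem comm_sup_cent {L A C : Subgroup G} (hC : C ≤ centralizer (L : Set G)) (hA : A ≤ normalizer (C : Set G)) :
    ⁅L, A ⊔ C⁆ = ⁅L, A⁆ := by
  refine le_antisymm ?_ (commutator_mono le_rfl le_sup_left)
  rw [commutator_le]
  intro l hl x hx
  obtain ⟨a, ha, c, hc, rfl⟩ := mul_of_mem_sup hA hx
  have h1 : l * c = c * l := mem_centralizer_iff.1 (hC hc) l hl
  have h3 : c * l⁻¹ * c⁻¹ = l⁻¹ := by
    have h4 : c * l⁻¹ = l⁻¹ * c := by
      rw [eq_inv_mul_iff_mul_eq, ← mul_assoc, h1, mul_inv_cancel_right]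
    rw [h4, mul_inv_cancel_right]
  have h2 : l * (a * c) * l⁻¹ * (a * c)⁻¹ = l * a * l⁻¹ * a⁻¹ := by
    calc l * (a * c) * l⁻¹ * (a * c)⁻¹ = l * a * (c * l⁻¹ * c⁻¹) * a⁻¹ := by group
      _ = l * a * l⁻¹ * a⁻¹ := by rw [h3]
  rw [commutatorElement_def, h2, ← commutatorElement_def]
  exact commutator_mem_commutator hl ha

theorem cj_comm (g : G) (A B : Subgroup G) :
    MulAut.conj g • ⁅A, B⁆ = ⁅MulAut.conj g • A, MulAut.conj g • B⁆ :=
  Subgroup.map_commutator A B (MulAut.conj g).toMonoidHom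

theorem RR_eq_Cl (T H A : Subgroup G) : RR T H A = Trans.Cl T ⁅zl T H, A⁆ := by
  unfold RR Trans.Cl
  exact iSup_subtype

variable [Finite G] {S : Sylow 2 G} {V F B P P₁ : Subgroup G} {q : ℕ}

namespace SO

variable (so : SO S V F B P P₁)
include so

theorem o2_cent : o2 P₁ ≤ centralizer (zl (S : Subgroup G) P₁ : Set G) := by
  rw [← so.o2_eq]
  exact inf_le_right

/-- `[L₁, A]` depends on `A O₂(P₁)` only -/
theorem comm_o2 {A : Subgroup G} (hA : A ≤ (S : Subgroup G)) :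
    ⁅zl (S : Subgroup G) P₁, A ⊔ o2 P₁⁆ = ⁅zl (S : Subgroup G) P₁, A⁆ :=
  comm_sup_cent so.o2_cent (hA.trans (so.SP₁.trans (le_normalizer_o2 P₁)))

/-- **(i)** -/
theorem conj_RR (hk : Key V F B) (nt : NT (S : Subgroup G) P₁ q) {h : G} (hh : h ∈ P)
    (hN : h ∈ normalizer ((S : Subgroup G) : Set G))
    (hm : ¬ NOne.Flat.WW V F ≤ centralizer ((MulAut.conj h • zl (S : Subgroup G) P₁ : Subgroup G) : Set G)) :
    MulAut.conj h • RR (S : Subgroup G) P₁ (NOne.Flat.WW V F) = RR (S : Subgroup G) P₁ (NOne.Flat.WW V F) := by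
  have hY : h ∈ P ⊔ P₁ := (le_sup_left : P ≤ P ⊔ P₁) hh
  have hS : MulAut.conj h • (S : Subgroup G) = S := conj_eq_of_norm hN
  have hS' : MulAut.conj h⁻¹ • (S : Subgroup G) = S := conj_eq_of_norm (inv_mem hN)
  -- `⁅L₁^h, W⁆ = ρ`
  have h1 : ⁅MulAut.conj h • zl (S : Subgroup G) P₁, NOne.Flat.WW V F⁆ =
      ⁅zl (S : Subgroup G) P₁, NOne.Flat.WW V F⁆ :=
    so.comm_eq hk (so.line_le_I hY (by rw [hS]; exact so.WS)) so.L_le_I hm so.mov
  -- `W^(h⁻¹)`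
  have h2 : MulAut.conj h⁻¹ • NOne.Flat.WW V F ≤ (S : Subgroup G) := by
    rw [← hS']
    exact conj_le_iff.2 so.WS
  have h3 : ¬ MulAut.conj h⁻¹ • NOne.Flat.WW V F ≤ o2 P₁ := by
    intro h3
    apply hm
    have h4 := conj_le_centralizer (g := h) (h3.trans so.o2_cent)
    rwa [conj_smul_inv] at h4
  have h4 := so.ka hk (inv_mem hY) h2 h3
  obtain ⟨s, hs, e⟩ := nt.cls _ _ (nt.min (so.ka_one hk)) (nt.min h4)
  have h5 : MulAut.conj s • zl (S : Subgroup G) P₁ = zl (S : Subgroup G) P₁ := so.conj_L (so.SP₁ hs)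
  have h6 : MulAut.conj h⁻¹ • ⁅zl (S : Subgroup G) P₁, NOne.Flat.WW V F⁆ =
      MulAut.conj s • ⁅zl (S : Subgroup G) P₁, NOne.Flat.WW V F⁆ := by
    have h7 : MulAut.conj s • ⁅zl (S : Subgroup G) P₁, NOne.Flat.WW V F⁆ =
        ⁅zl (S : Subgroup G) P₁, MulAut.conj h⁻¹ • NOne.Flat.WW V F⁆ := by
      rw [← so.comm_o2 so.WS, cj_comm, h5, ← e, so.comm_o2 h2]
    rw [h7, ← h1, cj_comm, conj_inv_smul]
  have h7 : MulAut.conj h⁻¹ • RR (S : Subgroup G) P₁ (NOne.Flat.WW V F) =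
      RR (S : Subgroup G) P₁ (NOne.Flat.WW V F) := by
    rw [RR_eq_Cl, Trans.conj_Cl (inv_mem hN), h6, Trans.Cl_conj hs]
  conv_lhs => rw [← h7]
  rw [conj_smul_inv]

/-- **(i)**, the mirror image -/
theorem conj_RR' (hk : Key V F B) (nt : NT (S : Subgroup G) P₁ q) {h : G} (hh : h ∈ P)
    (hN : h ∈ normalizer ((S : Subgroup G) : Set G))
    (hm : ¬ MulAut.conj h • NOne.Flat.WW V F ≤ centralizer (zl (S : Subgroup G) P₁ : Set G)) :
    MulAut.conj h • RR (S : Subgroup G) P₁ (NOne.Flat.WW V F) = RR (S : Subgroup G) P₁ (NOne.Flat.WW V F) := by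
  have hm' : ¬ NOne.Flat.WW V F ≤ centralizer ((MulAut.conj h⁻¹ • zl (S : Subgroup G) P₁ : Subgroup G) : Set G) := by
    intro h1
    have h2 := conj_le_centralizer (g := h) h1
    rw [conj_smul_inv] at h2
    exact hm h2
  have h1 := so.conj_RR hk nt (inv_mem hh) (inv_mem hN) hm'
  conv_lhs => rw [← h1]
  rw [conj_smul_inv]

theorem L_le_S : zl (S : Subgroup G) P₁ ≤ (S : Subgroup G) :=
  so.L_le_I.trans (inf_le_right.trans (by
    have h1 := so.BS 1 (one_mem _)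
    rwa [map_one, one_smul] at h1))

theorem comm_le_L {A : Subgroup G} (hA : A ≤ (S : Subgroup G)) :
    ⁅zl (S : Subgroup G) P₁, A⁆ ≤ zl (S : Subgroup G) P₁ := by
  rw [commutator_le]
  intro l hl a ha
  rw [commutatorElement_def]
  have h1 := (mem_normalizer_iff.1 (so.PL (so.SP₁ (hA ha))) l⁻¹).1 (inv_mem hl)
  have h2 : l * a * l⁻¹ * a⁻¹ = l * (a * l⁻¹ * a⁻¹) := by group
  rw [h2]
  exact mul_mem hl h1

theorem RR_le_L : RR (S : Subgroup G) P₁ (NOne.Flat.WW V F) ≤ zl (S : Subgroup G) P₁ := by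
  unfold RR
  refine iSup_le fun s => ?_
  refine (conj_le_iff.2 (so.comm_le_L so.WS)).trans ?_
  exact (so.conj_L (so.SP₁ s.2)).le

theorem S_norm_RR : (S : Subgroup G) ≤ normalizer (RR (S : Subgroup G) P₁ (NOne.Flat.WW V F) : Set G) := by
  have key : ∀ s ∈ (S : Subgroup G), MulAut.conj s • RR (S : Subgroup G) P₁ (NOne.Flat.WW V F) =
      RR (S : Subgroup G) P₁ (NOne.Flat.WW V F) := by
    intro s hs
    rw [RR_eq_Cl, Trans.conj_Cl (le_normalizer hs), Trans.Cl_conj hs]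
  intro s hs
  rw [mem_normalizer_iff]
  intro x
  have h1 := key s hs
  constructor
  · intro hx
    have h2 := smul_mem_pointwise_smul x (MulAut.conj s) _ hx
    rwa [h1] at h2
  · intro hx
    have h2 : s * x * s⁻¹ ∈ MulAut.conj s • RR (S : Subgroup G) P₁ (NOne.Flat.WW V F) := by rwa [h1]
    rw [mem_conj] at h2
    have e : s⁻¹ * (s * x * s⁻¹) * s = x := by group
    rwa [e] at h2

/-- `Z ∩ R₁ ≠ 1` -/
theorem exists_mem_RR : ∃ z ∈ zc (S : Subgroup G), z ≠ 1 ∧ z ∈ RR (S : Subgroup G) P₁ (NOne.Flat.WW V F) := by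
  have hne : RR (S : Subgroup G) P₁ (NOne.Flat.WW V F) ≠ ⊥ := by
    intro h0
    apply so.mov
    have h1 : ⁅zl (S : Subgroup G) P₁, NOne.Flat.WW V F⁆ ≤ RR (S : Subgroup G) P₁ (NOne.Flat.WW V F) := by
      have h2 := le_iSup (fun s : (S : Subgroup G) => MulAut.conj (s : G) • ⁅zl (S : Subgroup G) P₁, NOne.Flat.WW V F⁆) 1
      rwa [OneMemClass.coe_one, map_one, one_smul] at h2
    rw [h0, le_bot_iff, commutator_eq_bot_iff_le_centralizer] at h1
    exact comm_symm h1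
  obtain ⟨x, hx, hx1, hxS⟩ := NoFF.LinesPlug.exists_fixed S.isPGroup' (so.RR_le_L.trans so.L_le_S) so.S_norm_RR hne
  refine ⟨x, ChoiceBase.mem_zc.2 ⟨so.L_le_S (so.RR_le_L hx), ?_, hxS⟩, hx1, hx⟩
  exact so.toHyp.sq x (so.L_le_V (so.RR_le_L hx))

/-- **The end**, KEY, `q₀ ≥ 4`: `N_P(S)` transitive on `Z#`, (ii) + (iii) for the `h` with `[L₁^h, W] = [L₁, W^h] = 1`. -/
theorem false_of (hk : Key V F B) (nt : NT (S : Subgroup G) P₁ q)
    (htr : ∀ x ∈ zc (S : Subgroup G), x ≠ 1 → ∀ y ∈ zc (S : Subgroup G), y ≠ 1 →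
      ∃ h ∈ P, h ∈ normalizer ((S : Subgroup G) : Set G) ∧ h * x * h⁻¹ = y)
    (hC : zc (S : Subgroup G) ⊓ centralizer (P₁ : Set G) ≠ ⊥)
    (h2 : ∀ h ∈ P, h ∈ normalizer ((S : Subgroup G) : Set G) →
      NOne.Flat.WW V F ≤ centralizer ((MulAut.conj h • zl (S : Subgroup G) P₁ : Subgroup G) : Set G) →
      MulAut.conj h • NOne.Flat.WW V F ≤ centralizer (zl (S : Subgroup G) P₁ : Set G) →
      zc (S : Subgroup G) ⊓ MulAut.conj h • RR (S : Subgroup G) P₁ (NOne.Flat.WW V F) ≤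
        centralizer (P₁ : Set G)) : False := by
  have hdis : RR (S : Subgroup G) P₁ (NOne.Flat.WW V F) ⊓ (zc (S : Subgroup G) ⊓ centralizer (P₁ : Set G)) = ⊥ := by
    rw [eq_bot_iff, ← nt.dis _ (nt.min (so.ka_one hk)) (so.ka_one hk).const]
    refine inf_le_inf_left _ ?_
    exact fun x hx => ⟨MinSimple.VModule.zc_le_zl _ _ hx.1,
      centralizer_le (MinSimple.VModule.oddGen_le P₁) hx.2⟩
  obtain ⟨z, hz, hz1, hzR⟩ := so.exists_mem_RR
  obtain ⟨⟨c, hc⟩, hc1⟩ := Subgroup.ne_bot_iff_exists_ne_one.1 hC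
  have hc1 : c ≠ 1 := fun h => hc1 (Subtype.ext h)
  have hzc1 : z * c ≠ 1 := by
    intro h0
    have h3 : c = z⁻¹ := by rw [← mul_left_cancel_iff (a := z), h0, mul_inv_cancel]
    have h4 : c ∈ (⊥ : Subgroup G) := by
      rw [← hdis]
      have h5 : z⁻¹ ∈ RR (S : Subgroup G) P₁ (NOne.Flat.WW V F) := inv_mem hzR
      rw [← h3] at h5
      exact ⟨h5, hc⟩
    exact hc1 (mem_bot.1 h4)
  obtain ⟨h, hh, hN, e⟩ := htr z hz hz1 (z * c) (mul_mem hz hc.1) hzc1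
  have hmem : z * c ∈ MulAut.conj h • RR (S : Subgroup G) P₁ (NOne.Flat.WW V F) := by
    rw [← e]
    exact smul_mem_pointwise_smul z (MulAut.conj h) _ hzR
  have key : MulAut.conj h • RR (S : Subgroup G) P₁ (NOne.Flat.WW V F) =
      RR (S : Subgroup G) P₁ (NOne.Flat.WW V F) ∨ zc (S : Subgroup G) ⊓
      MulAut.conj h • RR (S : Subgroup G) P₁ (NOne.Flat.WW V F) ≤ centralizer (P₁ : Set G) := by
    by_cases h3 : NOne.Flat.WW V F ≤ centralizer ((MulAut.conj h • zl (S : Subgroup G) P₁ : Subgroup G) : Set G)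
    · by_cases h4 : MulAut.conj h • NOne.Flat.WW V F ≤ centralizer (zl (S : Subgroup G) P₁ : Set G)
      · exact Or.inr (h2 h hh hN h3 h4)
      · exact Or.inl (so.conj_RR' hk nt hh hN h4)
    · exact Or.inl (so.conj_RR hk nt hh hN h3)
  rcases key with h3 | h3
  · rw [h3] at hmem
    have h4 : c ∈ RR (S : Subgroup G) P₁ (NOne.Flat.WW V F) := by
      have h5 := mul_mem (inv_mem hzR) hmem
      rwa [inv_mul_cancel_left] at h5
    have h6 : c ∈ (⊥ : Subgroup G) := by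
      rw [← hdis]
      exact ⟨h4, hc⟩
    exact hc1 (mem_bot.1 h6)
  · have h4 := h3 ⟨mul_mem hz hc.1, hmem⟩
    have h5 : z ∈ centralizer (P₁ : Set G) := by
      have h6 := mul_mem h4 (inv_mem hc.2)
      rwa [mul_inv_cancel_right] at h6
    have h6 : z ∈ (⊥ : Subgroup G) := by
      rw [← hdis]
      exact ⟨hzR, hz, h5⟩
    exact hz1 (mem_bot.1 h6)

end SO

end Cfsg.Agent.Omega.NO3S.SOne
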