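import Cfsg.Agent.Omega.NO3S.SOne.Bad
import Cfsg.Agent.Omega.NO3S.SOne.TransRR

/-!
# GammaFF, (S1) (#21629), the KEY case, `q₀ ≥ 4`

* `SO.false_of_NT` : (S1), KEY, `q₀ ≥ 4`: (i) = `SO.conj_RR`, (ii) = `SO.good`, (iii) = `SO.line_good`, the end = `SO.false_of`.
-/

set_option autoImplicit false
set_option linter.unusedSectionVars false

namespace Cfsg.Agent.Omega.NO3S.SOne

open Subgroup Cfsg Cfsg.Agent.ZN Cfsg.Agent.Omega.MinPar
open Cfsg.Agent.Omega.NO3S.Pas (Key)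
open scoped Pointwise

universe u

variable {G : Type u} [Group G] [Finite G] {S : Sylow 2 G} {V F B P P₁ : Subgroup G}

/-- **(S1), KEY, `q₀ ≥ 4`.** -/
theorem SO.false_of_NT (so : SO S V F B P P₁) (hk : Key V F B) {q : ℕ} (nt : NT (S : Subgroup G) P₁ q)
    (htr : ∀ x ∈ zc (S : Subgroup G), x ≠ 1 → ∀ y ∈ zc (S : Subgroup G), y ≠ 1 →
      ∃ h ∈ P, h ∈ normalizer ((S : Subgroup G) : Set G) ∧ h * x * h⁻¹ = y)
    (hC : zc (S : Subgroup G) ⊓ centralizer (P₁ : Set G) ≠ ⊥) : False := by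
  refine so.false_of hk nt htr hC fun h hh hN h1 h2 => ?_
  obtain ⟨g, hg⟩ := nt.gen _ (nt.min (so.ka_one hk)) (so.ka_one hk).const
  exact so.good hk hh hN hg h1 h2 (so.line_good hk nt hh hN hg h1 h2)

end Cfsg.Agent.Omega.NO3S.SOne
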