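import Cfsg.Agent.Omega.NOThreeL.Low.PmNat
import Cfsg.Agent.Omega.NO3S.Act.OneNat

/-!
# GammaFF, (S1): natural modules with a radical

`M : NatKM F S P V D k`, `D` arbitrary (split or not); `V = zl S P`, `D = cv S P` in the application.

* `AmbD S P V D` : the ambient facts; `uq` : an element of `P` which is trivial on `V / D` and on `D` is trivial on `V`
  (`AmbD.of`);
* `One M A i` : `A ≤ S` acts as the full root group of the `i`-th summand, trivially on `D`;
* `One.of_const`, `One.of_min`, `One.min`, `One.cent_iff`, `One.relIndex`, `One.relIndex'`, `One.cent`;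
* `comm_inf` : constant commutators: `[V, A] ∩ D = 1`;
* `One.comm_same` : `[V, A]` depends only on the summand;
* `exists_one` : conjugates under `S` reach all summands.
-/

set_option autoImplicit false
set_option linter.unusedSectionVars false

namespace Cfsg.Agent.Omega.NO3S.SOne.NatD

open Subgroup Cfsg Cfsg.Agent.ZN Cfsg.Agent.ZN.ChoiceBase Cfsg.Agent.Omega.MinPar
open Cfsg.Agent.Omega.FFThm (ElemM OffM NoOverM ConclM NatKM ActsSL relIndex_le_iff)
open Cfsg.Agent.Omega.FrameFF (cv)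
open Cfsg.Agent.Omega.NatPair (ap ap_mul ap_one ap_inv_ap ap_zero' ap_one' ext2 exists_ap)
open Cfsg.Agent.Omega.NOThreeL.NF (MinOffM)
open Cfsg.Agent.Omega.NOThreeL.NF.NatR (Const ap_up ap_lo)
open Cfsg.Agent.Lib.SL2Mat
open scoped commutatorElement Pointwise

universe u

variable {G : Type u} [Group G]

/-- The ambient facts for a natural module with a radical. -/
structure AmbD (S P V D : Subgroup G) : Prop where
  SP : S ≤ P
  PV : P ≤ normalizer (V : Set G)
  PD : P ≤ normalizer (D : Set G)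
  DV : D ≤ V
  ab : ∀ x ∈ V, ∀ y ∈ V, x * y = y * x
  sq : ∀ x ∈ V, x * x = 1
  uq : ∀ g ∈ P, (∀ v ∈ V, g * v * g⁻¹ * v⁻¹ ∈ D) → (∀ d ∈ D, g * d = d * g) → g ∈ centralizer (V : Set G)

section amb

variable {S P V D : Subgroup G} (hA : AmbD S P V D)
include hA

theorem AmbD.cm {g v : G} (hg : g ∈ P) (hv : v ∈ V) : g * v * g⁻¹ ∈ V := (mem_normalizer_iff.1 (hA.PV hg) v).1 hv

theorem AmbD.cmD {g v : G} (hg : g ∈ P) (hv : v ∈ D) : g * v * g⁻¹ ∈ D := (mem_normalizer_iff.1 (hA.PD hg) v).1 hv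

end amb

variable {F : Type} [Field F] {S P V D : Subgroup G} {k : ℕ}

section basic

variable {M : NatKM F S P V D k}

theorem e_one : M.e 1 = 0 := by
  have h := M.mul 1 (one_mem _) 1 (one_mem _)
  rw [one_mul] at h
  exact left_eq_add.1 h

theorem e_inv {v : G} (hv : v ∈ V) : M.e v⁻¹ = - M.e v := by
  have h := M.mul v hv v⁻¹ (inv_mem hv)
  rw [mul_inv_cancel, e_one] at h
  exact (neg_eq_of_add_eq_zero_right h.symm).symm

theorem e_eq_iff {v w : G} (hv : v ∈ V) (hw : w ∈ V) : M.e v = M.e w ↔ v * w⁻¹ ∈ D := by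
  rw [← M.ker _ (mul_mem hv (inv_mem hw)), M.mul v hv w⁻¹ (inv_mem hw), e_inv hw, ← sub_eq_add_neg, sub_eq_zero]

/-- A vector supported exactly at `i`. -/
theorem exists_pt (M : NatKM F S P V D k) (i : Fin k) (x : Fin 2 → F) :
    ∃ v ∈ V, M.e v i = x ∧ ∀ j, j ≠ i → M.e v j = 0 := by
  classical
  obtain ⟨v, hv, hev⟩ := M.surj (Pi.single i x)
  exact ⟨v, hv, by rw [hev, Pi.single_eq_same], fun j hj => by rw [hev]; exact Pi.single_eq_of_ne hj _⟩

theorem act_cent {g : G} (hDV : D ≤ V) (hg : g ∈ centralizer (V : Set G)) : ActsSL M.e V D g 1 := by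
  refine ⟨fun v hv i => ?_, fun d hd => (mem_centralizer_iff.1 hg d (hDV hd)).symm⟩
  have e1 : g * v * g⁻¹ = v := by
    rw [← mem_centralizer_iff.1 hg v hv, mul_inv_cancel_right]
  rw [e1, Pi.one_apply, ap_one]

variable (hA : AmbD S P V D)
include hA

theorem act_mul {g h : G} {A B : Fin k → Matrix.SpecialLinearGroup (Fin 2) F} (hh : h ∈ P)
    (h1 : ActsSL M.e V D g A) (h2 : ActsSL M.e V D h B) : ActsSL M.e V D (g * h) (A * B) := by
  refine ⟨fun v hv i => ?_, fun d hd => ?_⟩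
  · have e1 : g * h * v * (g * h)⁻¹ = g * (h * v * h⁻¹) * g⁻¹ := by group
    rw [e1, h1.1 _ (hA.cm hh hv), h2.1 v hv, Pi.mul_apply, ap_mul]
  · rw [mul_assoc, h2.2 d hd, ← mul_assoc, h1.2 d hd, mul_assoc]

theorem act_inv {g : G} {A : Fin k → Matrix.SpecialLinearGroup (Fin 2) F} (hg : g ∈ P)
    (h1 : ActsSL M.e V D g A) : ActsSL M.e V D g⁻¹ A⁻¹ := by
  refine ⟨fun v hv i => ?_, fun d hd => ?_⟩
  · have h2 := h1.1 _ (hA.cm (inv_mem hg) hv) i
    have e1 : g * (g⁻¹ * v * g⁻¹⁻¹) * g⁻¹ = v := by group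
    rw [e1] at h2
    rw [h2, Pi.inv_apply, ap_inv_ap]
  · have h2 := h1.2 d hd
    calc g⁻¹ * d = g⁻¹ * (d * g) * g⁻¹ := by group
      _ = d * g⁻¹ := by rw [← h2]; group

/-- **uniqueness**: the action modulo `D` and on `D` determines the action. -/
theorem cent_of_act {g : G} (hg : g ∈ P) (h : ActsSL M.e V D g 1) : g ∈ centralizer (V : Set G) := by
  refine hA.uq g hg (fun v hv => ?_) h.2
  rw [← e_eq_iff (M := M) (hA.cm hg hv) hv]
  funext i
  rw [h.1 v hv i, Pi.one_apply, ap_one]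

theorem cent_of_same {g h : G} {A : Fin k → Matrix.SpecialLinearGroup (Fin 2) F} (hg : g ∈ P) (hh : h ∈ P)
    (h1 : ActsSL M.e V D g A) (h2 : ActsSL M.e V D h A) : h⁻¹ * g ∈ centralizer (V : Set G) := by
  have h3 := act_mul (M := M) hA hg (act_inv hA hh h2) h1
  rw [inv_mul_cancel] at h3
  exact cent_of_act hA (mul_mem (inv_mem hh) hg) h3

theorem conj_eq {g h : G} {A : Fin k → Matrix.SpecialLinearGroup (Fin 2) F} (hg : g ∈ P) (hh : h ∈ P)
    (h1 : ActsSL M.e V D g A) (h2 : ActsSL M.e V D h A) {v : G} (hv : v ∈ V) :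
    g * v * g⁻¹ = h * v * h⁻¹ := by
  have h3 := mem_centralizer_iff.1 (cent_of_same hA hg hh h1 h2) v hv
  have e1 : g = h * (h⁻¹ * g) := by group
  rw [e1]
  have e2 : h * (h⁻¹ * g) * v * (h * (h⁻¹ * g))⁻¹ = h * (h⁻¹ * g * v * (h⁻¹ * g)⁻¹) * h⁻¹ := by group
  rw [e2, ← h3, mul_inv_cancel_right]

end basic

/-! ### `AmbD.of` -/

/-- `[g, v] ∈ D` for `v ∈ V`, `g` centralises `D`. -/
def K0 (P V D : Subgroup G) (hPV : P ≤ normalizer (V : Set G)) : Subgroup G where
  carrier := {g | g ∈ P ∧ (∀ v ∈ V, g * v * g⁻¹ * v⁻¹ ∈ D) ∧ ∀ d ∈ D, g * d = d * g}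
  mul_mem' := by
    rintro g h ⟨hg, hg1, hg2⟩ ⟨hh, hh1, hh2⟩
    refine ⟨mul_mem hg hh, fun v hv => ?_, fun d hd => ?_⟩
    · have h1 : h * v * h⁻¹ ∈ V := (mem_normalizer_iff.1 (hPV hh) v).1 hv
      have h2 := mul_mem (hg1 _ h1) (hh1 v hv)
      have e : g * (h * v * h⁻¹) * g⁻¹ * (h * v * h⁻¹)⁻¹ * (h * v * h⁻¹ * v⁻¹) =
        g * h * v * (g * h)⁻¹ * v⁻¹ := by group
      rwa [e] at h2
    · rw [mul_assoc, hh2 d hd, ← mul_assoc, hg2 d hd, mul_assoc]
  one_mem' := ⟨one_mem _, fun v _ => by simp, fun d _ => by simp⟩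
  inv_mem' := by
    rintro g ⟨hg, hg1, hg2⟩
    refine ⟨inv_mem hg, fun v hv => ?_, fun d hd => ?_⟩
    · have h1 : g⁻¹ * v * g⁻¹⁻¹ ∈ V := (mem_normalizer_iff.1 (hPV (inv_mem hg)) v).1 hv
      have h2 := inv_mem (hg1 _ h1)
      have e : (g * (g⁻¹ * v * g⁻¹⁻¹) * g⁻¹ * (g⁻¹ * v * g⁻¹⁻¹)⁻¹)⁻¹ = g⁻¹ * v * g⁻¹⁻¹ * v⁻¹ := by group
      rwa [e] at h2
    · have h2 := hg2 d hd
      calc g⁻¹ * d = g⁻¹ * (d * g) * g⁻¹ := by group
        _ = d * g⁻¹ := by rw [← h2]; group

theorem le_normalizer_K0 {P V D : Subgroup G} (hPV : P ≤ normalizer (V : Set G))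
    (hPD : P ≤ normalizer (D : Set G)) :
    P ≤ normalizer (K0 P V D hPV : Set G) := by
  have key : ∀ p ∈ P, ∀ g ∈ K0 P V D hPV, p * g * p⁻¹ ∈ K0 P V D hPV := by
    rintro p hp g ⟨hg, hg1, hg2⟩
    refine ⟨mul_mem (mul_mem hp hg) (inv_mem hp), fun v hv => ?_, fun d hd => ?_⟩
    · have h1 : p⁻¹ * v * p⁻¹⁻¹ ∈ V := (mem_normalizer_iff.1 (hPV (inv_mem hp)) v).1 hv
      have h2 := (mem_normalizer_iff.1 (hPD hp) _).1 (hg1 _ h1)
      have e : p * (g * (p⁻¹ * v * p⁻¹⁻¹) * g⁻¹ * (p⁻¹ * v * p⁻¹⁻¹)⁻¹) * p⁻¹ =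
        p * g * p⁻¹ * v * (p * g * p⁻¹)⁻¹ * v⁻¹ := by group
      rwa [e] at h2
    · have h1 : p⁻¹ * d * p⁻¹⁻¹ ∈ D := (mem_normalizer_iff.1 (hPD (inv_mem hp)) d).1 hd
      have h2 := hg2 _ h1
      calc p * g * p⁻¹ * d = p * (g * (p⁻¹ * d * p⁻¹⁻¹)) * p⁻¹ := by group
        _ = p * (p⁻¹ * d * p⁻¹⁻¹ * g) * p⁻¹ := by rw [h2]
        _ = d * (p * g * p⁻¹) := by group
  intro p hp
  refine mem_normalizer_iff.2 fun g => ⟨key p hp g, fun h => ?_⟩
  have h1 := key p⁻¹ (inv_mem hp) _ h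
  have e : p⁻¹ * (p * g * p⁻¹) * p⁻¹⁻¹ = g := by group
  rwa [e] at h1

theorem P_cv (S P : Subgroup G) : P ≤ normalizer (cv S P : Set G) := by
  have key : ∀ g ∈ P, ∀ x ∈ cv S P, g * x * g⁻¹ ∈ cv S P := by
    intro g hg x hx
    refine mem_inf.mpr ⟨(mem_normalizer_iff.1 (le_normalizer_zl S P hg) x).1 (mem_inf.mp hx).1, ?_⟩
    rw [mem_centralizer_iff]
    intro y hy
    have hy' : g⁻¹ * y * g ∈ MinSimple.VModule.oddGen P := by
      have h1 := (mem_normalizer_iff.1 (MinSimple.VModule.le_normalizer_oddGen P (inv_mem hg)) y).1 hy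
      rwa [inv_inv] at h1
    have h1 := mem_centralizer_iff.mp (mem_inf.mp hx).2 _ hy'
    calc y * (g * x * g⁻¹) = g * ((g⁻¹ * y * g) * x) * g⁻¹ := by group
      _ = g * (x * (g⁻¹ * y * g)) * g⁻¹ := by rw [h1]
      _ = g * x * g⁻¹ * y := by group
  intro g hg
  refine mem_normalizer_iff.2 fun x => ⟨key g hg x, fun h => ?_⟩
  have h1 := key g⁻¹ (inv_mem hg) _ h
  have e : g⁻¹ * (g * x * g⁻¹) * g⁻¹⁻¹ = x := by group
  rwa [e] at h1

/-- **the ambient facts** -/
theorem AmbD.of [Finite G] (hG : IsCharacteristicTwoType G) {S : Sylow 2 G} {P : Subgroup G}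
    (hP : IsParS (S : Subgroup G) P)
    (M : NatKM F (S : Subgroup G) P (zl (S : Subgroup G) P) (cv (S : Subgroup G) P) k) :
    AmbD (S : Subgroup G) P (zl (S : Subgroup G) P) (cv (S : Subgroup G) P) := by
  classical
  have hamb : Half.Amb (S : Subgroup G) P (zl (S : Subgroup G) P) := Half.amb_of_loc hG S hP.isLoc
  have hSyl := MinSimple.Basic.not_dvd_relIndex S hP.le
  have hPV : P ≤ normalizer (zl (S : Subgroup G) P : Set G) := le_normalizer_zl _ _
  have hPD : P ≤ normalizer (cv (S : Subgroup G) P : Set G) := P_cv _ _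
  have hDV : cv (S : Subgroup G) P ≤ zl (S : Subgroup G) P := inf_le_left
  have hsq : ∀ x ∈ zl (S : Subgroup G) P, x * x = 1 := fun x hx => by rw [← pow_two]; exact hamb.sq x hx
  refine ⟨hP.le, hPV, hPD, hDV, hamb.comm, hsq, fun g hg hg1 hg2 => ?_⟩
  set V := zl (S : Subgroup G) P with hV
  set D := cv (S : Subgroup G) P with hD
  set K := K0 P V D hPV with hK
  have hgK : g ∈ K := ⟨hg, hg1, hg2⟩
  have hKP : K ≤ P := fun x hx => hx.1
  have hKn : P ≤ normalizer (K : Set G) := le_normalizer_K0 hPV hPD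
  by_cases hk : k = 0
  · -- no summand: `V = D`
    rw [mem_centralizer_iff]
    intro v hv
    refine (hg2 v ((M.ker v hv).1 ?_)).symm
    funext i
    exact absurd i.2 (by omega)
  have hi0 : 0 < k := Nat.pos_of_ne_zero hk
  have i : Fin k := ⟨0, hi0⟩
  rcases hP.toIsMinPar.sup_eq_or_inf_le (p := 2) S.isPGroup' hSyl hKP hKn with h1 | h1
  · exfalso
    -- an element of `P` acting as `lo 1` on the summand `i`
    obtain ⟨p, hp, hac, -⟩ := M.lift (Pi.mulSingle i (lo 1))
    have hp' : p ∈ ((K ⊔ (S : Subgroup G) : Subgroup G) : Set G) := by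
      rw [h1]; exact hp
    rw [sup_comm, coe_mul_of_left_le_normalizer_right _ _ (hP.le.trans hKn)] at hp'
    obtain ⟨s, hs, x, hx, rfl⟩ := hp'
    obtain ⟨σ, hσ⟩ := M.line s hs
    obtain ⟨v, hv, hvi, hvj⟩ := exists_pt M i ![1, 0]
    have hxv : M.e (x * v * x⁻¹) = M.e v :=
      (e_eq_iff (M := M) ((mem_normalizer_iff.1 (hPV hx.1) v).1 hv) hv).2 (hx.2.1 v hv)
    have hxvV : x * v * x⁻¹ ∈ V := (mem_normalizer_iff.1 (hPV hx.1) v).1 hv
    have h2 := hac v hv i
    have e1 : s * x * v * (s * x)⁻¹ = s * (x * v * x⁻¹) * s⁻¹ := by group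
    dsimp only at h2
    rw [e1, Pi.mulSingle_eq_same, hvi, ap_lo] at h2
    have h3 : M.e (s * (x * v * x⁻¹) * s⁻¹) i 1 = 0 := by
      have h4 := (hσ _ hxvV (σ.symm i)).2 (by
        rw [hxv]
        by_cases h5 : σ.symm i = i
        · rw [h5, hvi]; rfl
        · rw [hvj _ h5]; rfl)
      rwa [Equiv.apply_symm_apply] at h4
    rw [h2] at h3
    simp at h3
  · -- `S ∩ K ≤ O₂(P) ≤ C(V)`, `x² ∈ C(V)` for `x ∈ K`
    have hsqK : ∀ x ∈ K, x * x ∈ centralizer (V : Set G) := by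
      rintro x ⟨hx, hx1, hx2⟩
      rw [mem_centralizer_iff]
      intro v hv
      set d := x * v * x⁻¹ * v⁻¹ with hd
      have hdD : d ∈ D := hx1 v hv
      have h2 : x * v * x⁻¹ = d * v := by rw [hd]; group
      have h3 : x * d * x⁻¹ = d := by rw [hx2 d hdD, mul_inv_cancel_right]
      have h4 : x * x * v * (x * x)⁻¹ = v := by
        calc x * x * v * (x * x)⁻¹ = x * (x * v * x⁻¹) * x⁻¹ := by group
          _ = x * (d * v) * x⁻¹ := by rw [h2]
          _ = x * d * x⁻¹ * (x * v * x⁻¹) := by group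
          _ = v := by rw [h3, h2, ← mul_assoc, hsq d (hDV hdD), one_mul]
      exact (mul_inv_eq_iff_eq_mul.1 h4).symm
    have hcP : ∀ p ∈ P, ∀ x, x ∈ centralizer (V : Set G) → p * x * p⁻¹ ∈ centralizer (V : Set G) := by
      intro p hp x hx
      rw [mem_centralizer_iff]
      intro v hv
      have h2 : p⁻¹ * v * p⁻¹⁻¹ ∈ V := (mem_normalizer_iff.1 (hPV (inv_mem hp)) v).1 hv
      have h3 := mem_centralizer_iff.1 hx _ h2
      calc v * (p * x * p⁻¹) = p * (p⁻¹ * v * p⁻¹⁻¹ * x) * p⁻¹ := by group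
        _ = p * (x * (p⁻¹ * v * p⁻¹⁻¹)) * p⁻¹ := by rw [h3]
        _ = p * x * p⁻¹ * v := by group
    have h2core : ∀ x ∈ K, IsPGroup 2 (zpowers x) → x ∈ centralizer (V : Set G) := by
      intro x hx hx2
      have hxP : zpowers x ≤ P := by rw [zpowers_le]; exact hKP hx
      obtain ⟨p, hp, hpx⟩ : ∃ p ∈ P, p * x * p⁻¹ ∈ (S : Subgroup G) := by
        have h2 := S.isPGroup'
        obtain ⟨Q, hQ⟩ := (hx2.comap_of_injective P.subtype P.subtype_injective).exists_le_sylow
        have hSP' : IsPGroup 2 ((S : Subgroup G).subgroupOf P) := h2.comap_of_injective _ P.subtype_injective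
        obtain ⟨g, hg⟩ := MulAction.exists_smul_eq P Q (hSP'.toSylow hSyl)
        refine ⟨g, g.2, ?_⟩
        have h3 : (⟨x, hKP hx⟩ : P) ∈ (Q : Subgroup P) := hQ (by
          rw [mem_comap]; exact mem_zpowers x)
        have h4 : g * ⟨x, hKP hx⟩ * g⁻¹ ∈ ((hSP'.toSylow hSyl : Sylow 2 P) : Subgroup P) := by
          rw [← hg, Sylow.coe_subgroup_smul]
          exact ⟨⟨x, hKP hx⟩, h3, rfl⟩
        exact mem_subgroupOf.1 h4
      have h3 : p * x * p⁻¹ ∈ centralizer (V : Set G) := by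
        have h4 := h1 ⟨hpx, (mem_normalizer_iff.1 (hKn hp) x).1 hx⟩
        exact MinSimple.VModule.o2_le_centralizer_zl hP.le S.isPGroup' hSyl (hP.isLoc.char2 S hG) h4
      have h4 := hcP p⁻¹ (inv_mem hp) _ h3
      have e : p⁻¹ * (p * x * p⁻¹) * p⁻¹⁻¹ = x := by group
      rwa [e] at h4
    -- an odd power of `g` is a 2-element
    obtain ⟨n, hn, a, ha⟩ := NOThreeL.Low.exists_odd_pow g
    have h5 := h2core (g ^ n) (pow_mem hgK n) (NOThreeL.Low.isPGroup_zpowers ha)
    obtain ⟨t, rfl⟩ := hn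
    have h6 : (g * g) ^ t ∈ centralizer (V : Set G) := pow_mem (hsqK g hgK) t
    have e : g = ((g * g) ^ t)⁻¹ * g ^ (2 * t + 1) := by
      rw [← pow_two, ← pow_mul, pow_succ]; group
    rw [e]
    exact mul_mem (inv_mem h6) h5

/-! ### Root groups -/

/-- `A` acts as the full root group of the `i`-th summand, trivially on `D`. -/
structure One (M : NatKM F S P V D k) (A : Subgroup G) (i : Fin k) : Prop where
  le : A ≤ S
  acts : ∀ a ∈ A, ∃ c : F, ActsSL M.e V D a (Pi.mulSingle i (up c))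
  ex : ∀ c : F, ∃ a ∈ A, ActsSL M.e V D a (Pi.mulSingle i (up c))

section root

variable {M : NatKM F S P V D k} {i : Fin k} {A : Subgroup G}

theorem e_at {a v : G} {c : F} (h : ActsSL M.e V D a (Pi.mulSingle i (up c))) (hv : v ∈ V) :
    M.e (a * v * a⁻¹) i = ![M.e v i 0 + c * M.e v i 1, M.e v i 1] := by
  rw [h.1 v hv i, Pi.mulSingle_eq_same, ap_up]

theorem e_ne {a v : G} {c : F} (h : ActsSL M.e V D a (Pi.mulSingle i (up c))) (hv : v ∈ V) {j : Fin k}
    (hj : j ≠ i) : M.e (a * v * a⁻¹) j = M.e v j := by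
  rw [h.1 v hv j, Pi.mulSingle_eq_of_ne hj, ap_one]

theorem mulSingle_zero : (Pi.mulSingle i (up 0) : Fin k → Matrix.SpecialLinearGroup (Fin 2) F) = 1 := by
  rw [up_zero, Pi.mulSingle_one]

theorem mulSingle_mul (c d : F) : (Pi.mulSingle i (up c) : Fin k → Matrix.SpecialLinearGroup (Fin 2) F) *
    Pi.mulSingle i (up d) = Pi.mulSingle i (up (c + d)) := by
  rw [← Pi.mulSingle_mul, up_mul]

variable (hA : AmbD S P V D)
include hA

/-- the commutator with an element of a root group -/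
theorem e_comm {a v : G} (ha : a ∈ P) {c : F} (h : ActsSL M.e V D a (Pi.mulSingle i (up c))) (hv : v ∈ V) :
    M.e (a * v * a⁻¹ * v⁻¹) i = ![c * M.e v i 1, 0] := by
  rw [M.mul _ (hA.cm ha hv) _ (inv_mem hv), e_inv hv, Pi.add_apply, Pi.neg_apply, e_at h hv]
  exact ext2 (by simp) (by simp)

theorem e_comm_ne {a v : G} (ha : a ∈ P) {c : F} (h : ActsSL M.e V D a (Pi.mulSingle i (up c))) (hv : v ∈ V)
    {j : Fin k} (hj : j ≠ i) : M.e (a * v * a⁻¹ * v⁻¹) j = 0 := by
  rw [M.mul _ (hA.cm ha hv) _ (inv_mem hv), e_inv hv, Pi.add_apply, Pi.neg_apply, e_ne h hv hj, add_neg_cancel]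

theorem cent_of_zero {a : G} (ha : a ∈ P) (h : ActsSL M.e V D a (Pi.mulSingle i (up 0))) :
    a ∈ centralizer (V : Set G) := by
  rw [mulSingle_zero] at h
  exact cent_of_act hA ha h

/-- the value of the parameter -/
theorem param {a v : G} {c : F} (h : ActsSL M.e V D a (Pi.mulSingle i (up c))) (hv : v ∈ V)
    (hvi : M.e v i = ![0, 1]) : M.e (a * v * a⁻¹) i 0 = c := by
  rw [e_at h hv, hvi]; simp

theorem param_unique {a : G} {c d : F} (h : ActsSL M.e V D a (Pi.mulSingle i (up c)))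
    (h' : ActsSL M.e V D a (Pi.mulSingle i (up d))) : c = d := by
  obtain ⟨v, hv, hvi, -⟩ := exists_pt M i ![0, 1]
  rw [← param hA h hv hvi, param hA h' hv hvi]

omit hA in
theorem One.zero_of_cent (h : One M A i) {v : G} (hv : v ∈ V) (hc : v ∈ centralizer (A : Set G)) :
    M.e v i 1 = 0 := by
  obtain ⟨a, ha, hac⟩ := h.ex 1
  have h1 : a * v * a⁻¹ = v := by
    rw [mem_centralizer_iff.1 hc a ha]; group
  have h2 := e_at hac hv
  rw [h1] at h2
  have h3 := congrFun h2 0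
  simp only [Matrix.cons_val_zero, one_mul] at h3
  exact left_eq_add.1 h3

/-- `A / C_A(V)` has order `|F|`. -/
theorem One.relIndex (h : One M A i) : (centralizer (V : Set G)).relIndex A = Nat.card F := by
  obtain ⟨v, hv, hvi, hvj⟩ := exists_pt M i ![0, 1]
  let φ : A →* Multiplicative F :=
    { toFun := fun a => Multiplicative.ofAdd (M.e ((a : G) * v * (a : G)⁻¹) i 0)
      map_one' := by
        change Multiplicative.ofAdd (M.e ((1 : G) * v * (1 : G)⁻¹) i 0) = 1
        rw [one_mul, inv_one, mul_one, hvi]; rfl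
      map_mul' := by
        rintro ⟨a, ha⟩ ⟨b, hb⟩
        obtain ⟨c, hc⟩ := h.acts a ha
        obtain ⟨d, hd⟩ := h.acts b hb
        have hab := act_mul (M := M) hA (hA.SP (h.le hb)) hc hd
        rw [mulSingle_mul] at hab
        change Multiplicative.ofAdd (M.e ((a * b) * v * (a * b)⁻¹) i 0) =
          Multiplicative.ofAdd (M.e (a * v * a⁻¹) i 0) * Multiplicative.ofAdd (M.e (b * v * b⁻¹) i 0)
        rw [param hA hab hv hvi, param hA hc hv hvi, param hA hd hv hvi, ofAdd_add] }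
  have hker : (centralizer (V : Set G)).subgroupOf A = φ.ker := by
    ext ⟨a, ha⟩
    rw [mem_subgroupOf, MonoidHom.mem_ker]
    obtain ⟨c, hc⟩ := h.acts a ha
    have hφ : φ ⟨a, ha⟩ = Multiplicative.ofAdd c := by
      change Multiplicative.ofAdd (M.e (a * v * a⁻¹) i 0) = _
      rw [param hA hc hv hvi]
    rw [hφ]
    constructor
    · intro hcen
      have h1 : a * v * a⁻¹ = v := by
        have := mem_centralizer_iff.1 hcen v hv
        change v * a = a * v at this
        rw [← this]; group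
      have h2 := param hA hc hv hvi
      rw [h1, hvi] at h2
      rw [← h2]; rfl
    · intro h0
      have h1 : c = 0 := Multiplicative.ofAdd.injective h0
      rw [h1] at hc
      exact cent_of_zero hA (hA.SP (h.le ha)) hc
  unfold Subgroup.relIndex
  rw [hker, index_ker]
  have hr : φ.range = ⊤ := by
    rw [MonoidHom.range_eq_top]
    intro c
    obtain ⟨a, ha, hac⟩ := h.ex (Multiplicative.toAdd c)
    refine ⟨⟨a, ha⟩, ?_⟩
    change Multiplicative.ofAdd (M.e (a * v * a⁻¹) i 0) = _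
    rw [param hA hac hv hvi]; rfl
  rw [hr, Nat.card_congr (topEquiv (G := Multiplicative F)).toEquiv]
  rfl

/-- the vectors with second coordinate `0` at `i` -/
def hy (M : NatKM F S P V D k) (i : Fin k) : Subgroup G where
  carrier := {v | v ∈ V ∧ M.e v i 1 = 0}
  mul_mem' := by
    rintro a b ⟨ha, ha1⟩ ⟨hb, hb1⟩
    exact ⟨mul_mem ha hb, by rw [M.mul a ha b hb, Pi.add_apply, Pi.add_apply, ha1, hb1, add_zero]⟩
  one_mem' := ⟨one_mem _, by rw [e_one]; rfl⟩
  inv_mem' := by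
    rintro a ⟨ha, ha1⟩
    exact ⟨inv_mem ha, by rw [e_inv ha, Pi.neg_apply, Pi.neg_apply, ha1, neg_zero]⟩

omit hA in
theorem hy_relIndex (M : NatKM F S P V D k) (i : Fin k) : (hy M i).relIndex V = Nat.card F := by
  let ψ : V →* Multiplicative F :=
    { toFun := fun v => Multiplicative.ofAdd (M.e (v : G) i 1)
      map_one' := by
        change Multiplicative.ofAdd (M.e (1 : G) i 1) = 1
        rw [e_one]; rfl
      map_mul' := by
        rintro ⟨v, hv⟩ ⟨w, hw⟩
        change Multiplicative.ofAdd (M.e (v * w) i 1) = _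
        rw [M.mul v hv w hw]; rfl }
  have hker : (hy M i).subgroupOf V = ψ.ker := by
    ext ⟨v, hv⟩
    rw [mem_subgroupOf, MonoidHom.mem_ker]
    constructor
    · intro hc
      change Multiplicative.ofAdd (M.e v i 1) = 1
      rw [hc.2]; rfl
    · intro h0
      exact ⟨hv, Multiplicative.ofAdd.injective h0⟩
  unfold Subgroup.relIndex
  rw [hker, index_ker]
  have hr : ψ.range = ⊤ := by
    rw [MonoidHom.range_eq_top]
    intro c
    obtain ⟨v, hv, hvi, -⟩ := exists_pt M i ![0, Multiplicative.toAdd c]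
    refine ⟨⟨v, hv⟩, ?_⟩
    change Multiplicative.ofAdd (M.e v i 1) = _
    rw [hvi]; rfl
  rw [hr, Nat.card_congr (topEquiv (G := Multiplicative F)).toEquiv]
  rfl

theorem One.cent_le_hy (h : One M A i) : V ⊓ centralizer (A : Set G) ≤ hy M i :=
  fun _ hv => ⟨hv.1, h.zero_of_cent hv.1 hv.2⟩

/-- `C_V(A)` = the vectors with second coordinate `0` at `i`, if `A` is an offender -/
theorem One.inf_eq [Finite G] [Finite F] (h : One M A i) (hoff : OffM V A) :
    V ⊓ centralizer (A : Set G) = hy M i := by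
  have h1 : (centralizer (A : Set G)).relIndex V ≤ Nat.card F := by
    rw [← h.relIndex hA]
    exact relIndex_le_iff.1 hoff.le
  have e1 := NOThreeL.Star.rel_mul_card V (centralizer (A : Set G))
  have e2 := NOThreeL.Star.rel_mul_card V (hy M i)
  rw [inf_eq_right.2 (show hy M i ≤ V from fun v hv => hv.1), hy_relIndex] at e2
  refine Subgroup.eq_of_le_of_card_ge (h.cent_le_hy hA) ?_
  have hF : 0 < Nat.card F := Nat.card_pos
  refine Nat.le_of_mul_le_mul_left (?_ : Nat.card F * _ ≤ Nat.card F * _) hF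
  rw [e2, ← e1]
  exact Nat.mul_le_mul_right _ h1

theorem One.cent_iff [Finite G] [Finite F] (h : One M A i) (hoff : OffM V A) {v : G} (hv : v ∈ V) :
    v ∈ centralizer (A : Set G) ↔ M.e v i 1 = 0 := by
  constructor
  · exact h.zero_of_cent hv
  · intro h0
    have h1 : v ∈ V ⊓ centralizer (A : Set G) := by rw [h.inf_eq hA hoff]; exact ⟨hv, h0⟩
    exact h1.2

theorem One.relIndex' [Finite G] [Finite F] (h : One M A i) (hoff : OffM V A) :
    (centralizer (A : Set G)).relIndex V = Nat.card F := by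
  rw [← hy_relIndex M i, ← h.inf_eq hA hoff, inf_comm, inf_relIndex_right]

/-- `C_A(r) = C_A(V)` for `r ∈ V - C(A)` -/
theorem One.cent [Finite G] [Finite F] (h : One M A i) (hoff : OffM V A) {r : G} (hr : r ∈ V)
    (hrA : r ∉ centralizer (A : Set G)) {a : G} (ha : a ∈ A) (har : a * r = r * a) :
    a ∈ centralizer (V : Set G) := by
  obtain ⟨c, hc⟩ := h.acts a ha
  have h1 := e_comm hA (hA.SP (h.le ha)) hc hr
  rw [har, mul_inv_cancel_right, mul_inv_cancel, e_one] at h1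
  have h2 := congrFun h1 0
  have h3 : c * M.e r i 1 = 0 := h2.symm
  rcases mul_eq_zero.1 h3 with h4 | h4
  · rw [h4] at hc
    exact cent_of_zero hA (hA.SP (h.le ha)) hc
  · exact absurd ((h.cent_iff hA hoff hr).2 h4) hrA

omit hA in
theorem mulSingle_inv (c : F) : (Pi.mulSingle i (up c) : Fin k → Matrix.SpecialLinearGroup (Fin 2) F)⁻¹ =
    Pi.mulSingle i (up (-c)) := by
  rw [← Pi.mulSingle_inv, up_inv]

omit hA in
theorem single_up (i : Fin k) (c : F) : (fun j => up ((Pi.single i c : Fin k → F) j) :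
    Fin k → Matrix.SpecialLinearGroup (Fin 2) F) = Pi.mulSingle i (up c) := by
  funext j
  by_cases hj : j = i
  · subst hj; rw [Pi.single_eq_same, Pi.mulSingle_eq_same]
  · rw [Pi.single_eq_of_ne hj, Pi.mulSingle_eq_of_ne hj, up_zero]

/-- the set of summands of an offender is not empty -/
theorem nonempty_of_off {I : Set (Fin k)} (hAS : A ≤ S) (hoff : OffM V A)
    (h1 : ∀ a ∈ A, ∃ b : Fin k → F, (∀ i, i ∉ I → b i = 0) ∧ ActsSL M.e V D a fun i => up (b i)) :
    I.Nonempty := by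
  rw [Set.nonempty_iff_ne_empty]
  rintro rfl
  refine hoff.ne fun a ha => ?_
  obtain ⟨b, hb, hac⟩ := h1 a ha
  have hb0 : (fun j => up (b j) : Fin k → Matrix.SpecialLinearGroup (Fin 2) F) = 1 := by
    funext j
    rw [hb j (Set.notMem_empty j), up_zero, Pi.one_apply]
  rw [hb0] at hac
  exact cent_of_act (M := M) hA (hA.SP (hAS ha)) hac

/-- an offender whose set of summands is `{i}` -/
theorem One.of_single {I : Set (Fin k)} (hAS : A ≤ S) (hi : i ∈ I) (huniq : ∀ j ∈ I, j = i)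
    (h1 : ∀ a ∈ A, ∃ b : Fin k → F, (∀ i, i ∉ I → b i = 0) ∧ ActsSL M.e V D a fun i => up (b i))
    (h2 : ∀ b : Fin k → F, (∀ i, i ∉ I → b i = 0) → ∃ a ∈ A, ActsSL M.e V D a fun i => up (b i)) :
    One M A i := by
  refine ⟨hAS, fun a ha => ?_, fun c => ?_⟩
  · obtain ⟨b, hb, hac⟩ := h1 a ha
    refine ⟨b i, ?_⟩
    have h3 : b = Pi.single i (b i) := by
      funext j
      by_cases hj : j = i
      · subst hj; rw [Pi.single_eq_same]
      · rw [Pi.single_eq_of_ne hj, hb j fun h4 => hj (huniq j h4)]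
    rw [← single_up, ← h3]
    exact hac
  · obtain ⟨a, ha, hac⟩ := h2 (Pi.single i c) (fun l hl => by
      have : l ≠ i := fun h3 => hl (by rw [h3]; exact hi)
      rw [Pi.single_apply, if_neg this])
    refine ⟨a, ha, ?_⟩
    rw [← single_up]
    exact hac

/-- **An offender with constant commutators is a root group.** -/
theorem One.of_const (M : NatKM F S P V D k) (hAS : A ≤ S) (hoff : OffM V A) (hc : Const V A) :
    ∃ i, One M A i := by
  classical
  obtain ⟨I, h1, h2⟩ := M.offM A hAS hoff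
  obtain ⟨i, hi⟩ := nonempty_of_off (M := M) hA hAS hoff h1
  -- the commutator of an element with `v_j`
  have hel : ∀ j ∈ I, ∃ v ∈ V, M.e v j = ![0, 1] ∧ (∀ l, l ≠ j → M.e v l = 0) ∧
      ∃ a ∈ A, M.e (a * v * a⁻¹ * v⁻¹) j = ![1, 0] := by
    intro j hj
    obtain ⟨v, hv, hvj, hvl⟩ := exists_pt M j ![0, 1]
    obtain ⟨a, ha, hac⟩ := h2 (Pi.single j 1) (fun l hl => by
      have : l ≠ j := fun h3 => hl (by rw [h3]; exact hj)
      rw [Pi.single_apply, if_neg this])
    rw [single_up] at hac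
    refine ⟨v, hv, hvj, hvl, a, ha, ?_⟩
    rw [e_comm hA (hA.SP (hAS ha)) hac hv, hvj]
    exact ext2 (by simp) (by simp)
  have huniq : ∀ j ∈ I, j = i := by
    intro j hj
    by_contra hne
    obtain ⟨v, hv, hvi, hvl, a, ha, hav⟩ := hel i hi
    obtain ⟨w, hw, hwj, hwl, b, hb, hbw⟩ := hel j hj
    have hvc : v ∉ centralizer (A : Set G) := fun h3 => by
      have h4 : a * v * a⁻¹ * v⁻¹ = 1 := by rw [mem_centralizer_iff.1 h3 a ha]; group
      rw [h4, e_one] at hav
      exact one_ne_zero (α := F) (congrFun hav 0).symm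
    have hwc : w ∉ centralizer (A : Set G) := fun h3 => by
      have h4 : b * w * b⁻¹ * w⁻¹ = 1 := by rw [mem_centralizer_iff.1 h3 b hb]; group
      rw [h4, e_one] at hbw
      exact one_ne_zero (α := F) (congrFun hbw 0).symm
    obtain ⟨d, hd, h3⟩ := hc v hv hvc w hw hwc a ha
    obtain ⟨β, -, hdac⟩ := h1 d hd
    have hm := hA.cm (hA.SP (hAS hd)) hw
    have hwi : M.e w i = 0 := hwl i (Ne.symm hne)
    rw [h3, M.mul _ hm _ (inv_mem hw), e_inv hw, Pi.add_apply, Pi.neg_apply, hdac.1 w hw i, hwi, ap_up] at hav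
    have h4 := congrFun hav 0
    simp at h4
  exact ⟨i, One.of_single hA hAS hi huniq h1 h2⟩

/-- **A root group which is an offender is a minimal offender.** -/
theorem One.min [Finite G] [Finite F] (h : One M A i) (hoff : OffM V A) : MinOffM V S A := by
  classical
  refine ⟨h.le, hoff, fun B hBA hB => ?_⟩
  have hBS := hBA.trans h.le
  obtain ⟨I, h1, h2⟩ := M.offM B hBS hB
  obtain ⟨j, hj⟩ := nonempty_of_off (M := M) hA hBS hB h1
  have key : ∀ j ∈ I, j = i := by
    intro j hj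
    by_contra hne
    obtain ⟨v, hv, hvj, -⟩ := exists_pt M j ![0, 1]
    obtain ⟨a, ha, hac⟩ := h2 (Pi.single j 1) (fun l hl => by
      have : l ≠ j := fun h3 => hl (by rw [h3]; exact hj)
      rw [Pi.single_apply, if_neg this])
    rw [single_up] at hac
    obtain ⟨c, hc⟩ := h.acts a (hBA ha)
    have h3 := e_at hac hv
    rw [e_ne hc hv hne, hvj] at h3
    have h4 := congrFun h3 0
    simp at h4
  have hji := key j hj
  subst hji
  have hRB : One M B j := One.of_single hA hBS hj key h1 h2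
  rw [h.relIndex hA, hRB.relIndex hA]

/-- `C_V(A)` for an offender: the vectors with second coordinates `0` in `I` -/
theorem cent_off [Finite G] [Finite F] {I : Set (Fin k)} (hAS : A ≤ S) (hoff : OffM V A)
    (h1 : ∀ a ∈ A, ∃ b : Fin k → F, (∀ i, i ∉ I → b i = 0) ∧ ActsSL M.e V D a fun i => up (b i))
    (h2 : ∀ b : Fin k → F, (∀ i, i ∉ I → b i = 0) → ∃ a ∈ A, ActsSL M.e V D a fun i => up (b i))
    {v : G} (hv : v ∈ V) (hv0 : ∀ i ∈ I, M.e v i 1 = 0) : v ∈ centralizer (A : Set G) := by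
  classical
  obtain ⟨u, hu, hue⟩ := M.surj (fun _ => ![0, 1])
  have hval : ∀ a (b : Fin k → F), (ActsSL M.e V D a fun i => up (b i)) → ∀ i,
      M.e (a * u * a⁻¹) i 0 = b i := by
    intro a b hb i
    rw [hb.1 u hu i, hue, ap_up]; simp
  -- the parameters of the elements of `A`
  let φ : A →* Multiplicative (I → F) :=
    { toFun := fun a => Multiplicative.ofAdd fun i : I => M.e ((a : G) * u * (a : G)⁻¹) i 0
      map_one' := by
        change Multiplicative.ofAdd (fun i : I => M.e ((1 : G) * u * (1 : G)⁻¹) i 0) = 1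
        rw [one_mul, inv_one, mul_one, hue]; rfl
      map_mul' := by
        rintro ⟨a, ha⟩ ⟨b, hb⟩
        obtain ⟨c, -, hc⟩ := h1 a ha
        obtain ⟨d, -, hd⟩ := h1 b hb
        have hab := act_mul (M := M) hA (hA.SP (hAS hb)) hc hd
        have e1 : ((fun i => up (c i)) * fun i => up (d i) : Fin k → Matrix.SpecialLinearGroup (Fin 2) F) =
            fun i => up (c i + d i) := by
          funext i
          rw [Pi.mul_apply, up_mul]
        rw [e1] at hab
        change Multiplicative.ofAdd (fun i : I => M.e ((a * b) * u * (a * b)⁻¹) i 0) =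
          Multiplicative.ofAdd (fun i : I => M.e (a * u * a⁻¹) i 0) *
            Multiplicative.ofAdd (fun i : I => M.e (b * u * b⁻¹) i 0)
        rw [← ofAdd_add]
        congr 1
        funext i
        rw [Pi.add_apply, hval _ (fun i => c i + d i) hab, hval a c hc, hval b d hd] }
  have hker : (centralizer (V : Set G)).subgroupOf A = φ.ker := by
    ext ⟨a, ha⟩
    rw [mem_subgroupOf, MonoidHom.mem_ker]
    obtain ⟨c, hc0, hc⟩ := h1 a ha
    constructor
    · intro hcen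
      change Multiplicative.ofAdd (fun i : I => M.e (a * u * a⁻¹) i 0) = 1
      have h3 : a * u * a⁻¹ = u := by
        have := mem_centralizer_iff.1 hcen u hu
        change u * a = a * u at this
        rw [← this]; group
      rw [h3, hue]; rfl
    · intro h0
      have h3 : ∀ i, c i = 0 := by
        intro i
        by_cases hi : i ∈ I
        · have h4 := congrFun (Multiplicative.ofAdd.injective h0 :
            (fun i : I => M.e (a * u * a⁻¹) i 0) = 0) ⟨i, hi⟩
          rw [← hval a c hc i]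
          exact h4
        · exact hc0 i hi
      have h5 : (fun j => up (c j) : Fin k → Matrix.SpecialLinearGroup (Fin 2) F) = 1 := by
        funext j
        rw [h3 j, up_zero, Pi.one_apply]
      rw [h5] at hc
      exact cent_of_act (M := M) hA (hA.SP (hAS ha)) hc
  have hcA : (centralizer (V : Set G)).relIndex A ≤ Nat.card (I → F) := by
    unfold Subgroup.relIndex
    rw [hker, index_ker]
    exact Subgroup.card_le_card_group φ.range
  -- the second coordinates
  let ψ : V →* Multiplicative (I → F) :=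
    { toFun := fun v => Multiplicative.ofAdd fun i : I => M.e (v : G) i 1
      map_one' := by
        change Multiplicative.ofAdd (fun i : I => M.e (1 : G) i 1) = 1
        rw [e_one]; rfl
      map_mul' := by
        rintro ⟨v, hv⟩ ⟨w, hw⟩
        change Multiplicative.ofAdd (fun i : I => M.e (v * w) i 1) = _
        rw [M.mul v hv w hw]; rfl }
  have hr : ψ.range = ⊤ := by
    rw [MonoidHom.range_eq_top]
    intro c
    obtain ⟨w, hw, hwe⟩ := M.surj fun i => if hi : i ∈ I then ![0, Multiplicative.toAdd c ⟨i, hi⟩] else 0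
    refine ⟨⟨w, hw⟩, ?_⟩
    change Multiplicative.ofAdd (fun i : I => M.e w i 1) = _
    have h3 : (fun i : I => M.e w i 1) = Multiplicative.toAdd c := by
      funext i
      rw [hwe]
      simp
    rw [h3]; rfl
  have hci : ψ.ker.index = Nat.card (I → F) := by
    rw [index_ker, hr, Nat.card_congr (topEquiv (G := Multiplicative (I → F))).toEquiv]
    rfl
  -- `C_V(A) ≤ ker ψ`
  have hle : (centralizer (A : Set G)).subgroupOf V ≤ ψ.ker := by
    rintro ⟨w, hw⟩ hwc
    rw [mem_subgroupOf] at hwc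
    rw [MonoidHom.mem_ker]
    change Multiplicative.ofAdd (fun i : I => M.e w i 1) = 1
    have h3 : (fun i : I => M.e w i 1) = 0 := by
      funext ⟨i, hi⟩
      obtain ⟨a, ha, hac⟩ := h2 (Pi.single i 1) (fun l hl => by
        have : l ≠ i := fun h3 => hl (by rw [h3]; exact hi)
        rw [Pi.single_apply, if_neg this])
      rw [single_up] at hac
      have h4 : a * w * a⁻¹ = w := by
        have h5 : a * w = w * a := mem_centralizer_iff.1 hwc a ha
        rw [h5]; group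
      have h5 := e_at hac hw
      rw [h4] at h5
      have h6 := congrFun h5 0
      simp only [Matrix.cons_val_zero, one_mul] at h6
      exact left_eq_add.1 h6
    rw [h3]; rfl
  have hidx : ((centralizer (A : Set G)).subgroupOf V).index ≤ ψ.ker.index := by
    rw [hci]
    exact (relIndex_le_iff.1 hoff.le).trans hcA
  have heq : (centralizer (A : Set G)).subgroupOf V = ψ.ker := by
    have h3 := Subgroup.relIndex_mul_index hle
    have h4 : 0 < ψ.ker.index := Nat.pos_of_ne_zero index_ne_zero_of_finite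
    have h5 : ((centralizer (A : Set G)).subgroupOf V).relIndex ψ.ker = 1 := by
      have h6 : ((centralizer (A : Set G)).subgroupOf V).relIndex ψ.ker * ψ.ker.index ≤ 1 * ψ.ker.index := by
        rw [h3, one_mul]; exact hidx
      have h7 := Nat.le_of_mul_le_mul_right h6 h4
      have h8 : ((centralizer (A : Set G)).subgroupOf V).relIndex ψ.ker ≠ 0 := by
        intro h9
        rw [h9, zero_mul] at h3
        exact index_ne_zero_of_finite h3.symm
      omega
    exact le_antisymm hle (relIndex_eq_one.1 h5)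
  have hv' : (⟨v, hv⟩ : V) ∈ ψ.ker := by
    rw [MonoidHom.mem_ker]
    change Multiplicative.ofAdd (fun i : I => M.e v i 1) = 1
    have h3 : (fun i : I => M.e v i 1) = 0 := by
      funext ⟨i, hi⟩
      exact hv0 i hi
    rw [h3]; rfl
  rw [← heq] at hv'
  exact mem_subgroupOf.1 hv'

/-- the elements of an offender which act on one summand only centralise the vectors with second coordinate `0` there -/
theorem cent_single [Finite G] [Finite F] {I : Set (Fin k)} (hAS : A ≤ S) (hoff : OffM V A)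
    (h1 : ∀ a ∈ A, ∃ b : Fin k → F, (∀ i, i ∉ I → b i = 0) ∧ ActsSL M.e V D a fun i => up (b i))
    (h2 : ∀ b : Fin k → F, (∀ i, i ∉ I → b i = 0) → ∃ a ∈ A, ActsSL M.e V D a fun i => up (b i))
    {a : G} (ha : a ∈ A) {c : F} (hac : ActsSL M.e V D a (Pi.mulSingle i (up c))) {v : G} (hv : v ∈ V)
    (hv0 : M.e v i 1 = 0) : a * v * a⁻¹ = v := by
  classical
  have hex : ∀ j, ∃ B : Matrix.SpecialLinearGroup (Fin 2) F, (j = i → B = 1) ∧ ap B (M.e v j) 1 = 0 := by
    intro j
    by_cases hj : j = i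
    · subst hj
      exact ⟨1, fun _ => rfl, by rw [ap_one]; exact hv0⟩
    · by_cases h0 : M.e v j = 0
      · refine ⟨1, fun h3 => absurd h3 hj, ?_⟩
        rw [ap_one, h0]; rfl
      · obtain ⟨B, hB⟩ := exists_ap (x := M.e v j) (y := ![1, 0]) h0 (by
          intro h; exact one_ne_zero (congrFun h 0))
        exact ⟨B, fun h3 => absurd h3 hj, by rw [hB]; rfl⟩
  choose B hB1 hB2 using hex
  obtain ⟨g, hg, hgB⟩ := M.lift B
  have haP := hA.SP (hAS ha)
  have h3 : g * v * g⁻¹ ∈ centralizer (A : Set G) :=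
    cent_off (M := M) hA hAS hoff h1 h2 (hA.cm hg hv) fun j _ => by rw [hgB.1 v hv j]; exact hB2 j
  have h4 := act_mul (M := M) hA (inv_mem hg) (act_mul hA haP hgB hac) (act_inv hA hg hgB)
  have h5 : B * Pi.mulSingle i (up c) * B⁻¹ = Pi.mulSingle i (up c) := by
    funext j
    rw [Pi.mul_apply, Pi.mul_apply, Pi.inv_apply]
    by_cases hj : j = i
    · rw [hB1 j hj, one_mul, inv_one, mul_one]
    · rw [Pi.mulSingle_eq_of_ne hj, mul_one, mul_inv_cancel]
  rw [h5] at h4
  have h6 := conj_eq hA (mul_mem (mul_mem hg haP) (inv_mem hg)) haP h4 hac (hA.cm hg hv)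
  have h7 : a * (g * v * g⁻¹) * a⁻¹ = g * v * g⁻¹ := by
    rw [mem_centralizer_iff.1 h3 a ha]; group
  rw [h7] at h6
  have e1 : g * a * g⁻¹ * (g * v * g⁻¹) * (g * a * g⁻¹)⁻¹ = g * (a * v * a⁻¹) * g⁻¹ := by group
  rw [e1] at h6
  exact mul_left_cancel (mul_right_cancel h6)

/-- **A minimal offender is a root group.** -/
theorem One.of_min [Finite G] [Finite F] (M : NatKM F S P V D k) (h : MinOffM V S A) : ∃ i, One M A i := by
  classical
  obtain ⟨I, h1, h2⟩ := M.offM A h.le h.off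
  obtain ⟨i, hi⟩ := nonempty_of_off (M := M) hA h.le h.off h1
  let B : Subgroup G :=
    { carrier := {a | a ∈ A ∧ ∃ c : F, ActsSL M.e V D a (Pi.mulSingle i (up c))}
      mul_mem' := by
        rintro a b ⟨ha, c, hc⟩ ⟨hb, d, hd⟩
        refine ⟨mul_mem ha hb, c + d, ?_⟩
        rw [← mulSingle_mul]
        exact act_mul hA (hA.SP (h.le hb)) hc hd
      one_mem' := ⟨one_mem _, 0, by rw [mulSingle_zero]; exact act_cent hA.DV (one_mem _)⟩
      inv_mem' := by
        rintro a ⟨ha, c, hc⟩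
        refine ⟨inv_mem ha, -c, ?_⟩
        rw [← mulSingle_inv]
        exact act_inv hA (hA.SP (h.le ha)) hc }
  have hBA : B ≤ A := fun a ha => ha.1
  have hB : One M B i := by
    refine ⟨hBA.trans h.le, fun a ha => ha.2, fun c => ?_⟩
    have hs : ∀ j, j ∉ I → (Pi.single i c : Fin k → F) j = 0 := by
      intro j hj
      have h3 : j ≠ i := fun h3 => hj (by rw [h3]; exact hi)
      rw [Pi.single_apply, if_neg h3]
    obtain ⟨a, ha, hac⟩ := h2 (Pi.single i c) hs
    rw [single_up] at hac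
    exact ⟨a, ⟨ha, c, hac⟩, hac⟩
  have hBc : V ⊓ centralizer (B : Set G) = hy M i := by
    refine le_antisymm (hB.cent_le_hy hA) fun v hv => ⟨hv.1, mem_centralizer_iff.2 ?_⟩
    rintro a ⟨ha, c, hac⟩
    exact mul_inv_eq_iff_eq_mul.1 (cent_single (M := M) hA h.le h.off h1 h2 ha hac hv.1 hv.2)
  have hBoff : OffM V B := by
    refine ⟨⟨fun a ha => h.off.sq a (hBA ha), fun a ha b hb => h.off.comm a (hBA ha) b (hBA hb)⟩, ?_, ?_⟩
    · intro h0
      obtain ⟨v, hv, hvi, -⟩ := exists_pt M i ![0, 1]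
      have h3 := hB.zero_of_cent hv (le_centralizer_iff.1 h0 hv)
      rw [hvi] at h3
      exact one_ne_zero (α := F) h3
    · refine relIndex_le_iff.2 ?_
      rw [hB.relIndex hA, ← hy_relIndex M i, ← hBc, inf_comm, inf_relIndex_right]
  have hm := h.min B hBA hBoff
  have hAB : A ⊓ centralizer (V : Set G) = B ⊓ centralizer (V : Set G) := by
    refine le_antisymm (fun a ha => ⟨⟨ha.1, 0, ?_⟩, ha.2⟩) (inf_le_inf_right _ hBA)
    rw [mulSingle_zero]; exact act_cent hA.DV ha.2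
  have e1 := NOThreeL.Star.rel_mul_card A (centralizer (V : Set G))
  have e2 := NOThreeL.Star.rel_mul_card B (centralizer (V : Set G))
  rw [← hAB] at e2
  have h3 : Nat.card A ≤ Nat.card B := by
    rw [← e1, ← e2]
    exact Nat.mul_le_mul_right _ hm
  have h4 : B = A := Subgroup.eq_of_le_of_card_ge hBA h3
  exact ⟨i, h4 ▸ hB⟩

/-! ### same summand -/

theorem One.exists_same {A' : Subgroup G} (h : One M A i) (h' : One M A' i) {a : G} (ha : a ∈ A) :
    ∃ b ∈ A', b⁻¹ * a ∈ centralizer (V : Set G) := by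
  obtain ⟨c, hc⟩ := h.acts a ha
  obtain ⟨b, hb, hbc⟩ := h'.ex c
  exact ⟨b, hb, cent_of_same hA (hA.SP (h.le ha)) (hA.SP (h'.le hb)) hc hbc⟩

theorem One.comm_le {A' : Subgroup G} (h : One M A i) (h' : One M A' i) : ⁅V, A⁆ ≤ ⁅V, A'⁆ := by
  refine commutator_le.2 fun v hv a ha => ?_
  obtain ⟨b, hb, hba⟩ := h.exists_same hA h' ha
  have h3 := mem_centralizer_iff.1 hba v hv
  have e : ⁅v, a⁆ = ⁅v, b⁆ := by
    rw [commutatorElement_def, commutatorElement_def]
    have e1 : a = b * (b⁻¹ * a) := by group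
    calc v * a * v⁻¹ * a⁻¹ = v * (b * (b⁻¹ * a)) * v⁻¹ * a⁻¹ := by rw [← e1]
      _ = v * b * (b⁻¹ * a * v⁻¹) * a⁻¹ := by group
      _ = v * b * (v⁻¹ * (b⁻¹ * a)) * a⁻¹ := by
        have h4 : b⁻¹ * a * v⁻¹ = v⁻¹ * (b⁻¹ * a) := by
          rw [mul_inv_eq_iff_eq_mul, mul_assoc v⁻¹, ← h3, inv_mul_cancel_left]
        rw [h4]
      _ = v * b * v⁻¹ * b⁻¹ := by group
  rw [e]
  exact commutator_mem_commutator hv hb

/-- **`[V, A]` depends only on the summand.** -/
theorem One.comm_same {A' : Subgroup G} (h : One M A i) (h' : One M A' i) : ⁅V, A⁆ = ⁅V, A'⁆ :=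
  le_antisymm (h.comm_le hA h') (h'.comm_le hA h)

theorem One.sup_le {A' : Subgroup G} (h : One M A i) (h' : One M A' i) :
    A ≤ A' ⊔ (S ⊓ centralizer (V : Set G)) := by
  intro a ha
  obtain ⟨b, hb, hba⟩ := h.exists_same hA h' ha
  have e1 : a = b * (b⁻¹ * a) := by group
  rw [e1]
  exact mul_mem ((le_sup_left : A' ≤ _) hb)
    ((le_sup_right : S ⊓ centralizer (V : Set G) ≤ _) (mem_inf.2 ⟨mul_mem (inv_mem (h'.le hb)) (h.le ha), hba⟩))

/-- **`A C_S(V)` depends only on the summand.** -/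
theorem One.sup_same {A' : Subgroup G} (h : One M A i) (h' : One M A' i) :
    A ⊔ (S ⊓ centralizer (V : Set G)) = A' ⊔ (S ⊓ centralizer (V : Set G)) :=
  le_antisymm (_root_.sup_le (h.sup_le hA h') le_sup_right) (_root_.sup_le (h'.sup_le hA h) le_sup_right)

/-! ### all summands -/

/-- **conjugates under `S` are root groups of all summands** -/
theorem exists_one [Finite G] [Finite F] (M : NatKM F S P V D k) (h : MinOffM V S A) (j : Fin k) :
    ∃ t ∈ S, One M (MulAut.conj t • A) j := by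
  obtain ⟨i, hi⟩ := One.of_min hA M h
  obtain ⟨t, ht, htr⟩ := M.trans i j
  have h1 : MinOffM V S (cj t A) := NOThreeL.NF.NatR.minOffM_cj (hA.SP.trans hA.PV) h ht
  obtain ⟨j', hj'⟩ := One.of_min hA M h1
  have htP := hA.SP ht
  refine ⟨t, ht, ?_⟩
  have hjj : j = j' := by
    by_contra hne
    obtain ⟨v, hv, hvi, -⟩ := exists_pt M i ![0, 1]
    obtain ⟨a, ha, hac⟩ := hi.ex 1
    have haP := hA.SP (hi.le ha)
    have h2 := e_comm hA haP hac hv
    have hw : a * v * a⁻¹ * v⁻¹ ∈ V := mul_mem (hA.cm haP hv) (inv_mem hv)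
    have h3 : M.e (a * v * a⁻¹ * v⁻¹) i ≠ 0 := by
      rw [h2, hvi]
      intro h4
      have h5 := congrFun h4 0
      simp at h5
    have h4 : M.e (t * (a * v * a⁻¹ * v⁻¹) * t⁻¹) j ≠ 0 := fun h5 => h3 ((htr _ hw).1 h5)
    obtain ⟨c, hc⟩ := hj'.acts (t * a * t⁻¹) (mem_cj.2 (by
      have e : t⁻¹ * (t * a * t⁻¹) * t = a := by group
      rw [e]; exact ha))
    have h5 := e_comm_ne hA (mul_mem (mul_mem htP haP) (inv_mem htP)) hc (hA.cm htP hv) hne
    have e : t * a * t⁻¹ * (t * v * t⁻¹) * (t * a * t⁻¹)⁻¹ * (t * v * t⁻¹)⁻¹ = t * (a * v * a⁻¹ * v⁻¹) * t⁻¹ := by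
      group
    rw [e] at h5
    exact h4 h5
  rw [hjj]
  exact hj'

/-! ### constant commutators -/

/-- with constant commutators `[V, A] = {[r, b] | b ∈ A}` for every `r ∈ V - C(A)` -/
theorem mem_comm [Finite G] [Finite F] (h : One M A i) (hoff : OffM V A) (hc : Const V A) {r : G} (hr : r ∈ V)
    (hrA : r ∉ centralizer (A : Set G)) {x : G} (hx : x ∈ (⁅V, A⁆ : Subgroup G)) :
    ∃ b ∈ A, x = b * r * b⁻¹ * r⁻¹ := by
  have hcm : ∀ b ∈ A, ∀ v ∈ V, b * v * b⁻¹ * v⁻¹ ∈ V ⊓ centralizer (A : Set G) := by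
    intro b hb v hv
    obtain ⟨c, hbc⟩ := h.acts b hb
    rw [h.inf_eq hA hoff]
    refine ⟨mul_mem (hA.cm (hA.SP (h.le hb)) hv) (inv_mem hv), ?_⟩
    rw [e_comm hA (hA.SP (h.le hb)) hbc hv]
    rfl
  let R : Subgroup G :=
    { carrier := {x | ∃ b ∈ A, x = b * r * b⁻¹ * r⁻¹}
      mul_mem' := by
        rintro _ _ ⟨b, hb, rfl⟩ ⟨b', hb', rfl⟩
        refine ⟨b * b', mul_mem hb hb', ?_⟩
        have h1 := hcm b' hb' r hr
        have h2 : b * (b' * r * b'⁻¹ * r⁻¹) * b⁻¹ = b' * r * b'⁻¹ * r⁻¹ := by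
          rw [mem_centralizer_iff.1 h1.2 b hb, mul_inv_cancel_right]
        have h3 := hA.ab _ (hcm b hb r hr).1 _ h1.1
        calc b * r * b⁻¹ * r⁻¹ * (b' * r * b'⁻¹ * r⁻¹) = b' * r * b'⁻¹ * r⁻¹ * (b * r * b⁻¹ * r⁻¹) := h3
          _ = b * (b' * r * b'⁻¹ * r⁻¹) * b⁻¹ * (b * r * b⁻¹ * r⁻¹) := by rw [h2]
          _ = b * b' * r * (b * b')⁻¹ * r⁻¹ := by group
      one_mem' := ⟨1, one_mem _, by group⟩
      inv_mem' := by
        rintro _ ⟨b, hb, rfl⟩
        refine ⟨b⁻¹, inv_mem hb, ?_⟩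
        have h1 := hcm b⁻¹ (inv_mem hb) r hr
        have h2 : b * (b⁻¹ * r * b⁻¹⁻¹ * r⁻¹) * b⁻¹ = b⁻¹ * r * b⁻¹⁻¹ * r⁻¹ := by
          rw [mem_centralizer_iff.1 h1.2 b hb, mul_inv_cancel_right]
        rw [← h2]
        group }
  have hle : (⁅V, A⁆ : Subgroup G) ≤ R := by
    refine commutator_le.2 fun v hv a ha => ?_
    have h1 : ⁅v, a⁆ = (a * v * a⁻¹ * v⁻¹)⁻¹ := by rw [commutatorElement_def]; group
    rw [h1]
    refine inv_mem ?_
    by_cases hvA : v ∈ centralizer (A : Set G)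
    · have h2 : a * v * a⁻¹ * v⁻¹ = 1 := by rw [mem_centralizer_iff.1 hvA a ha]; group
      rw [h2]; exact one_mem _
    · obtain ⟨b, hb, h2⟩ := hc v hv hvA r hr hrA a ha
      exact ⟨b, hb, h2⟩
  exact hle hx

theorem exists_not_cent (hoff : OffM V A) : ∃ r ∈ V, r ∉ centralizer (A : Set G) := by
  by_contra hcon
  push Not at hcon
  exact hoff.ne (le_centralizer_iff.1 hcon)

/-- **constant commutators: `[V, A] ∩ D = 1`** -/
theorem comm_inf [Finite G] [Finite F] (h : One M A i) (hoff : OffM V A) (hc : Const V A) :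
    (⁅V, A⁆ : Subgroup G) ⊓ D = ⊥ := by
  obtain ⟨r, hr, hrA⟩ := exists_not_cent hA hoff
  refine eq_bot_iff.2 fun x hx => mem_bot.2 ?_
  obtain ⟨b, hb, rfl⟩ := mem_comm (M := M) hA h hoff hc hr hrA hx.1
  obtain ⟨c, hbc⟩ := h.acts b hb
  have hbP := hA.SP (h.le hb)
  have h1 := e_comm hA hbP hbc hr
  rw [(M.ker _ (mul_mem (hA.cm hbP hr) (inv_mem hr))).2 hx.2] at h1
  have h2 : c * M.e r i 1 = 0 := (congrFun h1 0).symm
  rcases mul_eq_zero.1 h2 with h3 | h3
  · rw [h3] at hbc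
    have h4 := mem_centralizer_iff.1 (cent_of_zero (M := M) hA hbP hbc) r hr
    rw [← h4]; group
  · exact absurd ((h.cent_iff hA hoff hr).2 h3) hrA

/-- the coordinates of `[V, A]` -/
theorem comm_e (h : One M A i) {x : G} (hx : x ∈ (⁅V, A⁆ : Subgroup G)) :
    x ∈ V ∧ M.e x i 1 = 0 ∧ ∀ j, j ≠ i → M.e x j = 0 := by
  let R : Subgroup G :=
    { carrier := {x | x ∈ V ∧ M.e x i 1 = 0 ∧ ∀ j, j ≠ i → M.e x j = 0}
      mul_mem' := by
        rintro a b ⟨ha, ha1, ha2⟩ ⟨hb, hb1, hb2⟩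
        refine ⟨mul_mem ha hb, ?_, fun j hj => ?_⟩
        · rw [M.mul a ha b hb, Pi.add_apply, Pi.add_apply, ha1, hb1, add_zero]
        · rw [M.mul a ha b hb, Pi.add_apply, ha2 j hj, hb2 j hj, add_zero]
      one_mem' := ⟨one_mem _, by rw [e_one]; rfl, fun j _ => by rw [e_one]; rfl⟩
      inv_mem' := by
        rintro a ⟨ha, ha1, ha2⟩
        refine ⟨inv_mem ha, ?_, fun j hj => ?_⟩
        · rw [e_inv ha, Pi.neg_apply, Pi.neg_apply, ha1, neg_zero]
        · rw [e_inv ha, Pi.neg_apply, ha2 j hj, neg_zero] }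
  have hle : (⁅V, A⁆ : Subgroup G) ≤ R := by
    refine commutator_le.2 fun v hv a ha => ?_
    have h1 : ⁅v, a⁆ = (a * v * a⁻¹ * v⁻¹)⁻¹ := by rw [commutatorElement_def]; group
    rw [h1]
    refine inv_mem ?_
    obtain ⟨c, hac⟩ := h.acts a ha
    have haP := hA.SP (h.le ha)
    refine ⟨mul_mem (hA.cm haP hv) (inv_mem hv), ?_, fun j hj => e_comm_ne hA haP hac hv hj⟩
    rw [e_comm hA haP hac hv]
    rfl
  exact hle hx

end root

end Cfsg.Agent.Omega.NO3S.SOne.NatD
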