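import Cfsg.Agent.Omega.NO3S.SOne.Frame

/-!
# GammaFF, (S1): natural modules with radical

`M : NatKM F S P V D k` with `D` arbitrary, split or not.  `AmbD M` : the ambient facts, `uq` : an element of `P` which is
trivial on `V / D` and on `D` centralises `V`.

* `AmbD.blk` : `g` acting as `A ∈ SL₂(F)^k` centralises the vectors supported where `A = 1`;
* `RtD M i A` : `A` acts as the full root group of the `i`-th factor; `C_V(A) = {v | e v i 1 = 0}` if `A` is an offender;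
* `RtD.of` : a minimal offender is a root group; `RtD.of_const` : so is an offender with constant commutators.
-/

set_option autoImplicit false
set_option linter.unusedSectionVars false
set_option linter.style.haveILetI false

namespace Cfsg.Agent.Omega.NO3S.SOne.NTD

open Subgroup Cfsg Cfsg.Agent.ZN Cfsg.Agent.ZN.ChoiceBase
open Cfsg.Agent.Omega.NOThreeL Cfsg.Agent.Omega.NOThreeL.NF
open Cfsg.Agent.Omega.FFThm (ElemM OffM NoOverM ConclM NatKM ActsSL relIndex_le_iff)
open Cfsg.Agent.Omega.NatPair (ap ap_mul ap_one ap_inv_ap ap_zero' ap_one' ext2 exists_ap)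
open Cfsg.Agent.Omega.NOThreeL.NF.NatR (ap_up ap_lo mulSingle_mul mulSingle_inv mulSingle_zero Const)
open Cfsg.Agent.Lib.SL2Mat
open scoped commutatorElement

universe u

variable {G : Type u} [Group G] {F : Type} [Field F] {S P V D : Subgroup G} {k : ℕ}

/-- `g` acts on `V / D` as `A ∈ SL₂(F)^k` and trivially on `D`. -/
abbrev Ac (M : NatKM F S P V D k) (g : G) (A : Fin k → Matrix.SpecialLinearGroup (Fin 2) F) : Prop :=
  ActsSL M.e V D g A

/-- The ambient facts. -/
structure AmbD (M : NatKM F S P V D k) : Prop where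
  SP : S ≤ P
  PV : P ≤ normalizer (V : Set G)
  comm : ∀ v ∈ V, ∀ w ∈ V, v * w = w * v
  DV : D ≤ V
  uq : ∀ g ∈ P, (∀ v ∈ V, M.e (g * v * g⁻¹) = M.e v) → (∀ d ∈ D, g * d = d * g) → g ∈ centralizer (V : Set G)

section basic

variable {M : NatKM F S P V D k}

theorem e_one : M.e 1 = 0 := by
  have h := M.mul 1 (one_mem _) 1 (one_mem _)
  rw [one_mul] at h
  exact left_eq_add.1 h

theorem e_inv {v : G} (hv : v ∈ V) : M.e v⁻¹ = - M.e v := by
  have h := M.mul v hv v⁻¹ (inv_mem hv)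
  rw [mul_inv_cancel, e_one] at h
  exact (neg_eq_of_add_eq_zero_right h.symm).symm

theorem mem_D {v w : G} (hv : v ∈ V) (hw : w ∈ V) (h : M.e v = M.e w) : v * w⁻¹ ∈ D := by
  have h1 := M.mul v hv w⁻¹ (inv_mem hw)
  rw [e_inv hw, h, add_neg_cancel] at h1
  exact (M.ker _ (mul_mem hv (inv_mem hw))).1 h1

theorem exists_pt (i : Fin k) (x : Fin 2 → F) : ∃ v ∈ V, M.e v i = x ∧ ∀ j, j ≠ i → M.e v j = 0 := by
  classical
  obtain ⟨v, hv, hev⟩ := M.surj (Pi.single i x)
  exact ⟨v, hv, by rw [hev, Pi.single_eq_same], fun j hj => by rw [hev]; exact Pi.single_eq_of_ne hj _⟩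

variable (h : AmbD M)
include h

theorem AmbD.cm {g v : G} (hg : g ∈ P) (hv : v ∈ V) : g * v * g⁻¹ ∈ V := (mem_normalizer_iff.1 (h.PV hg) v).1 hv

theorem AmbD.mul {g g' : G} {A B : Fin k → Matrix.SpecialLinearGroup (Fin 2) F} (hg' : g' ∈ P) (h1 : Ac M g A)
    (h2 : Ac M g' B) : Ac M (g * g') (A * B) := by
  refine ⟨fun v hv i => ?_, fun d hd => ?_⟩
  · have e1 : g * g' * v * (g * g')⁻¹ = g * (g' * v * g'⁻¹) * g⁻¹ := by group
    rw [e1, h1.1 _ (h.cm hg' hv), h2.1 v hv, Pi.mul_apply, ap_mul]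
  · rw [mul_assoc, h2.2 d hd, ← mul_assoc, h1.2 d hd, mul_assoc]

theorem AmbD.inv {g : G} {A : Fin k → Matrix.SpecialLinearGroup (Fin 2) F} (hg : g ∈ P) (h1 : Ac M g A) :
    Ac M g⁻¹ A⁻¹ := by
  refine ⟨fun v hv i => ?_, fun d hd => ?_⟩
  · have h2 := h1.1 _ (h.cm (inv_mem hg) hv) i
    have e1 : g * (g⁻¹ * v * g⁻¹⁻¹) * g⁻¹ = v := by group
    rw [e1] at h2
    rw [h2, Pi.inv_apply, ap_inv_ap]
  · rw [inv_mul_eq_iff_eq_mul, ← mul_assoc, h1.2 d hd, mul_inv_cancel_right]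

theorem AmbD.one {g : G} (hg : g ∈ centralizer (V : Set G)) : Ac M g 1 := by
  refine ⟨fun v hv i => ?_, fun d hd => (mem_centralizer_iff.1 hg d (h.DV hd)).symm⟩
  have e1 : g * v * g⁻¹ = v := by
    have := mem_centralizer_iff.1 hg v hv
    rw [← this]; group
  rw [e1, Pi.one_apply, ap_one]

theorem AmbD.cent {g : G} (hg : g ∈ P) (h1 : Ac M g 1) : g ∈ centralizer (V : Set G) := by
  refine h.uq g hg (fun v hv => ?_) h1.2
  funext i
  rw [h1.1 v hv i, Pi.one_apply, ap_one]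

/-- `g` acting as `A` centralises the vectors supported where `A = 1`. -/
theorem AmbD.blk {g : G} {A : Fin k → Matrix.SpecialLinearGroup (Fin 2) F} (hg : g ∈ P) (h1 : Ac M g A) {v : G}
    (hv : v ∈ V) (h0 : ∀ l, A l ≠ 1 → M.e v l = 0) : g * v * g⁻¹ = v := by
  classical
  -- the commutator with `g`
  have hmem : ∀ w ∈ V, (∀ l, A l ≠ 1 → M.e w l = 0) → g * w * g⁻¹ * w⁻¹ ∈ D := by
    intro w hw hw0
    refine mem_D (M := M) (h.cm hg hw) hw ?_
    funext l
    rw [h1.1 w hw l]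
    by_cases hl : A l = 1
    · rw [hl, ap_one]
    · rw [hw0 l hl]
      exact ext2 (by rw [ap_zero']; simp) (by rw [ap_one']; simp)
  -- `h'` acting as `B` with `A l = 1` or `B l = 1` for all `l`
  have hinv : ∀ (B : Fin k → Matrix.SpecialLinearGroup (Fin 2) F), (∀ l, A l ≠ 1 → B l = 1) →
      ∀ w ∈ V, (∀ l, A l ≠ 1 → M.e w l = 0) → ∀ g' ∈ P, Ac M g' B →
        g * (g' * w * g'⁻¹ * w⁻¹) * g⁻¹ = g' * w * g'⁻¹ * w⁻¹ := by
    intro B hB w hw hw0 g' hg' h2
    have h3 := h.mul (mul_mem (inv_mem hg) (inv_mem hg')) (h.mul hg' h1 h2) (h.mul (inv_mem hg') (h.inv hg h1) (h.inv hg' h2))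
    have h4 : A * B * (A⁻¹ * B⁻¹) = 1 := by
      funext l
      by_cases hl : A l = 1
      · simp [hl]
      · simp [hB l hl]
    rw [h4] at h3
    set z := g * g' * (g⁻¹ * g'⁻¹) with hz
    have h5 : z ∈ centralizer (V : Set G) :=
      h.cent (mul_mem (mul_mem hg hg') (mul_mem (inv_mem hg) (inv_mem hg'))) h3
    have h6 : g * g' = z * (g' * g) := by rw [hz]; group
    -- `g (g' w g'⁻¹) g⁻¹ = g' (g w g⁻¹) g'⁻¹`
    have h7 : g * (g' * w * g'⁻¹) * g⁻¹ = g' * (g * w * g⁻¹) * g'⁻¹ := by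
      have h8 : g' * (g * w * g⁻¹) * g'⁻¹ ∈ V := h.cm hg' (h.cm hg hw)
      have h9 := mem_centralizer_iff.1 h5 _ h8
      calc g * (g' * w * g'⁻¹) * g⁻¹ = (g * g') * w * (g * g')⁻¹ := by group
        _ = z * (g' * g) * w * (z * (g' * g))⁻¹ := by rw [h6]
        _ = z * (g' * (g * w * g⁻¹) * g'⁻¹) * z⁻¹ := by group
        _ = g' * (g * w * g⁻¹) * g'⁻¹ := by rw [← h9]; group
    have h10 := hmem w hw hw0
    have h11 : g * w * g⁻¹ = (g * w * g⁻¹ * w⁻¹) * w := by group
    have h12 := h2.2 _ h10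
    have e : g * (g' * w * g'⁻¹ * w⁻¹) * g⁻¹ = (g * (g' * w * g'⁻¹) * g⁻¹) * (g * w * g⁻¹)⁻¹ := by group
    rw [e, h7]
    have e2 : g' * (g * w * g⁻¹) * g'⁻¹ = (g * w * g⁻¹ * w⁻¹) * (g' * w * g'⁻¹) := by
      calc g' * (g * w * g⁻¹) * g'⁻¹ = g' * (g * w * g⁻¹ * w⁻¹) * w * g'⁻¹ := by group
        _ = (g * w * g⁻¹ * w⁻¹) * g' * w * g'⁻¹ := by rw [h12]
        _ = (g * w * g⁻¹ * w⁻¹) * (g' * w * g'⁻¹) := by group
    have e3 : (g * w * g⁻¹)⁻¹ = w⁻¹ * (g * w * g⁻¹ * w⁻¹)⁻¹ := by group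
    rw [e2, e3]
    have h13 := h.comm _ (h.DV h10) _ (mul_mem (h.cm hg' hw) (inv_mem hw))
    calc (g * w * g⁻¹ * w⁻¹) * (g' * w * g'⁻¹) * (w⁻¹ * (g * w * g⁻¹ * w⁻¹)⁻¹)
        = ((g * w * g⁻¹ * w⁻¹) * (g' * w * g'⁻¹ * w⁻¹)) * (g * w * g⁻¹ * w⁻¹)⁻¹ := by group
      _ = (g' * w * g'⁻¹ * w⁻¹) * (g * w * g⁻¹ * w⁻¹) * (g * w * g⁻¹ * w⁻¹)⁻¹ := by rw [h13]
      _ = g' * w * g'⁻¹ * w⁻¹ := mul_inv_cancel_right _ _
  -- the two generators
  obtain ⟨w₁, hw₁, he₁⟩ := M.surj fun l => if A l = 1 then ![0, 1] else 0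
  obtain ⟨w₂, hw₂, he₂⟩ := M.surj fun l => if A l = 1 then ![1, 0] else 0
  obtain ⟨g₁, hg₁, ha₁⟩ := M.lift fun l => up (M.e v l 0)
  obtain ⟨g₂, hg₂, ha₂⟩ := M.lift fun l => lo (M.e v l 1)
  have h21 := hinv _ (fun l hl => by rw [h0 l hl]; exact up_zero) w₁ hw₁ (fun l hl => by rw [he₁]; simp [hl]) g₁ hg₁ ha₁
  have h22 := hinv _ (fun l hl => by rw [h0 l hl]; exact lo_zero) w₂ hw₂ (fun l hl => by rw [he₂]; simp [hl]) g₂ hg₂ ha₂
  set a := g₁ * w₁ * g₁⁻¹ * w₁⁻¹ with ha
  set b := g₂ * w₂ * g₂⁻¹ * w₂⁻¹ with hb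
  have haV : a ∈ V := mul_mem (h.cm hg₁ hw₁) (inv_mem hw₁)
  have hbV : b ∈ V := mul_mem (h.cm hg₂ hw₂) (inv_mem hw₂)
  have hab : M.e v = M.e (a * b) := by
    rw [M.mul a haV b hbV, ha, hb, M.mul _ (h.cm hg₁ hw₁) _ (inv_mem hw₁), M.mul _ (h.cm hg₂ hw₂) _ (inv_mem hw₂),
      e_inv hw₁, e_inv hw₂]
    funext l
    rw [Pi.add_apply, Pi.add_apply, Pi.add_apply, ha₁.1 w₁ hw₁ l, ha₂.1 w₂ hw₂ l, Pi.neg_apply, Pi.neg_apply, he₁, he₂,
      ap_up, ap_lo]
    by_cases hl : A l = 1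
    · simp only [hl, if_true]
      exact ext2 (by simp) (by simp)
    · simp only [hl, if_false]
      rw [h0 l hl]
      exact ext2 (by simp) (by simp)
  have hd := mem_D (M := M) hv (mul_mem haV hbV) hab
  have h23 : v = v * (a * b)⁻¹ * (a * b) := by group
  have h24 := h1.2 _ hd
  have h25 : g * (v * (a * b)⁻¹) * g⁻¹ = v * (a * b)⁻¹ := by rw [h24, mul_inv_cancel_right]
  calc g * v * g⁻¹ = (g * (v * (a * b)⁻¹) * g⁻¹) * (g * a * g⁻¹) * (g * b * g⁻¹) := by group
    _ = v * (a * b)⁻¹ * a * b := by rw [h25, h21, h22]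
    _ = v := by group

end basic

/-! ### Root groups -/

/-- `A` acts on `V / D` as the full root group of the `i`-th factor, and trivially on `D`. -/
structure RtD (M : NatKM F S P V D k) (i : Fin k) (A : Subgroup G) : Prop where
  le : A ≤ S
  acts : ∀ a ∈ A, ∃ c : F, Ac M a (Pi.mulSingle i (up c))
  ex : ∀ c : F, ∃ a ∈ A, Ac M a (Pi.mulSingle i (up c))

section root

variable {M : NatKM F S P V D k} {i : Fin k} {A : Subgroup G}

theorem ac_at {a v : G} {c : F} (h : Ac M a (Pi.mulSingle i (up c))) (hv : v ∈ V) :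
    M.e (a * v * a⁻¹) i = ![M.e v i 0 + c * M.e v i 1, M.e v i 1] := by
  rw [h.1 v hv i, Pi.mulSingle_eq_same, ap_up]

theorem ac_ne {a v : G} {c : F} (h : Ac M a (Pi.mulSingle i (up c))) (hv : v ∈ V) {j : Fin k} (hj : j ≠ i) :
    M.e (a * v * a⁻¹) j = M.e v j := by
  rw [h.1 v hv j, Pi.mulSingle_eq_of_ne hj, ap_one]

theorem RtD.zero_of_cent (h : RtD M i A) {v : G} (hv : v ∈ V) (hc : v ∈ centralizer (A : Set G)) :
    M.e v i 1 = 0 := by
  obtain ⟨a, ha, hac⟩ := h.ex 1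
  have h1 : a * v * a⁻¹ = v := by
    rw [mem_centralizer_iff.1 hc a ha]; group
  have h2 := ac_at hac hv
  rw [h1] at h2
  have h3 := congrFun h2 0
  simp only [Matrix.cons_val_zero, one_mul] at h3
  exact left_eq_add.1 h3

theorem key_single [DecidableEq (Fin k)] (i : Fin k) (c : F) : (fun j => up ((Pi.single i c : Fin k → F) j) :
    Fin k → Matrix.SpecialLinearGroup (Fin 2) F) = Pi.mulSingle i (up c) := by
  funext j
  by_cases hj : j = i
  · subst hj; rw [Pi.single_eq_same, Pi.mulSingle_eq_same]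
  · rw [Pi.single_eq_of_ne hj, Pi.mulSingle_eq_of_ne hj, up_zero]

variable (h : AmbD M)
include h

/-- `A / C_A(V)` has order `|F|`. -/
theorem RtD.relIndex (hA : RtD M i A) : (centralizer (V : Set G)).relIndex A = Nat.card F := by
  obtain ⟨v, hv, hvi, hvj⟩ := exists_pt (M := M) i ![0, 1]
  have hval : ∀ a ∈ A, ∀ c, Ac M a (Pi.mulSingle i (up c)) → M.e (a * v * a⁻¹) i 0 = c := by
    intro a _ c hc
    rw [ac_at hc hv, hvi]; simp
  let φ : A →* Multiplicative F :=
    { toFun := fun a => Multiplicative.ofAdd (M.e ((a : G) * v * (a : G)⁻¹) i 0)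
      map_one' := by
        change Multiplicative.ofAdd (M.e ((1 : G) * v * (1 : G)⁻¹) i 0) = 1
        rw [one_mul, inv_one, mul_one, hvi]; rfl
      map_mul' := by
        rintro ⟨a, ha⟩ ⟨b, hb⟩
        obtain ⟨c, hc⟩ := hA.acts a ha
        obtain ⟨d, hd⟩ := hA.acts b hb
        have hab := h.mul (h.SP (hA.le hb)) hc hd
        rw [mulSingle_mul] at hab
        change Multiplicative.ofAdd (M.e ((a * b) * v * (a * b)⁻¹) i 0) =
          Multiplicative.ofAdd (M.e (a * v * a⁻¹) i 0) * Multiplicative.ofAdd (M.e (b * v * b⁻¹) i 0)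
        rw [hval _ (mul_mem ha hb) _ hab, hval a ha c hc, hval b hb d hd, ofAdd_add] }
  have hker : (centralizer (V : Set G)).subgroupOf A = φ.ker := by
    ext ⟨a, ha⟩
    rw [mem_subgroupOf, MonoidHom.mem_ker]
    obtain ⟨c, hc⟩ := hA.acts a ha
    have hφ : φ ⟨a, ha⟩ = Multiplicative.ofAdd c := by
      change Multiplicative.ofAdd (M.e (a * v * a⁻¹) i 0) = _
      rw [hval a ha c hc]
    rw [hφ]
    constructor
    · intro hcen
      have h1 : a * v * a⁻¹ = v := by
        have := mem_centralizer_iff.1 hcen v hv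
        change v * a = a * v at this
        rw [← this]; group
      have h2 := hval a ha c hc
      rw [h1, hvi] at h2
      rw [← h2]; rfl
    · intro h0
      have h1 : c = 0 := Multiplicative.ofAdd.injective h0
      rw [h1, mulSingle_zero] at hc
      exact h.cent (h.SP (hA.le ha)) hc
  unfold Subgroup.relIndex
  rw [hker, index_ker]
  have hr : φ.range = ⊤ := by
    rw [MonoidHom.range_eq_top]
    intro c
    obtain ⟨a, ha, hac⟩ := hA.ex (Multiplicative.toAdd c)
    refine ⟨⟨a, ha⟩, ?_⟩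
    change Multiplicative.ofAdd (M.e (a * v * a⁻¹) i 0) = _
    rw [hval a ha _ hac]; rfl
  rw [hr, Nat.card_congr (topEquiv (G := Multiplicative F)).toEquiv]
  rfl

omit h in
/-- the vectors with second coordinate 0 at `I` -/
def YI (M : NatKM F S P V D k) (I : Set (Fin k)) : Subgroup G where
  carrier := {v | v ∈ V ∧ ∀ i ∈ I, M.e v i 1 = 0}
  mul_mem' := by
    rintro a b ⟨ha, ha1⟩ ⟨hb, hb1⟩
    exact ⟨mul_mem ha hb, fun i hi => by rw [M.mul a ha b hb, Pi.add_apply, Pi.add_apply, ha1 i hi, hb1 i hi, add_zero]⟩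
  one_mem' := ⟨one_mem _, fun i _ => by rw [e_one]; rfl⟩
  inv_mem' := by
    rintro a ⟨ha, ha1⟩
    exact ⟨inv_mem ha, fun i hi => by rw [e_inv ha, Pi.neg_apply, Pi.neg_apply, ha1 i hi, neg_zero]⟩

omit h in
theorem YI_relIndex (I : Set (Fin k)) : (YI M I).relIndex V = Nat.card (I → F) := by
  let ψ : V →* Multiplicative (I → F) :=
    { toFun := fun v => Multiplicative.ofAdd (fun i : I => M.e (v : G) i 1)
      map_one' := by
        change Multiplicative.ofAdd (fun i : I => M.e (1 : G) i 1) = 1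
        rw [e_one]; rfl
      map_mul' := by
        rintro ⟨v, hv⟩ ⟨w, hw⟩
        change Multiplicative.ofAdd (fun i : I => M.e (v * w) i 1) = _
        rw [M.mul v hv w hw]; rfl }
  have hker : (YI M I).subgroupOf V = ψ.ker := by
    ext ⟨v, hv⟩
    rw [mem_subgroupOf, MonoidHom.mem_ker]
    constructor
    · intro hc
      refine congrArg Multiplicative.ofAdd (funext fun i => ?_)
      exact hc.2 i i.2
    · intro h0
      have h1 : (fun i : I => M.e v i 1) = 0 := Multiplicative.ofAdd.injective h0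
      exact ⟨hv, fun i hi => congrFun h1 ⟨i, hi⟩⟩
  unfold Subgroup.relIndex
  rw [hker, index_ker]
  have hr : ψ.range = ⊤ := by
    classical
    rw [MonoidHom.range_eq_top]
    intro c
    obtain ⟨v, hv, hev⟩ := M.surj fun j => if hj : j ∈ I then ![0, Multiplicative.toAdd c ⟨j, hj⟩] else 0
    refine ⟨⟨v, hv⟩, ?_⟩
    change Multiplicative.ofAdd (fun i : I => M.e v i 1) = _
    rw [← ofAdd_toAdd c]
    refine congrArg Multiplicative.ofAdd (funext fun i => ?_)
    rw [hev]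
    simp [i.2]
  rw [hr, Nat.card_congr (topEquiv (G := Multiplicative (I → F))).toEquiv]
  rfl

/-- an offender acting as `∏ R_i`, `i ∈ I`, centralises the vectors with second coordinates 0 at `I` -/
theorem AmbD.fixI [Finite G] {I : Set (Fin k)} (hAS : A ≤ S)
    (h1 : ∀ a ∈ A, ∃ b : Fin k → F, (∀ i, i ∉ I → b i = 0) ∧ Ac M a fun i => up (b i))
    (h2 : ∀ b : Fin k → F, (∀ i, i ∉ I → b i = 0) → ∃ a ∈ A, Ac M a fun i => up (b i)) (hoff : OffM V A) {v : G}
    (hv : v ∈ V) (h0 : ∀ i ∈ I, M.e v i 1 = 0) : v ∈ centralizer (A : Set G) := by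
  classical
  obtain ⟨v₀, hv₀, he₀⟩ := M.surj fun _ => ![0, 1]
  have hval : ∀ a : G, ∀ b : Fin k → F, Ac M a (fun i => up (b i)) → ∀ i, M.e (a * v₀ * a⁻¹) i 0 = b i := by
    intro a b hac i
    rw [hac.1 v₀ hv₀ i, he₀, ap_up]; simp
  let φ : A →* Multiplicative (I → F) :=
    { toFun := fun a => Multiplicative.ofAdd (fun i : I => M.e ((a : G) * v₀ * (a : G)⁻¹) i 0)
      map_one' := by
        refine congrArg Multiplicative.ofAdd (funext fun i => ?_)
        change M.e ((1 : G) * v₀ * (1 : G)⁻¹) i 0 = 0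
        rw [one_mul, inv_one, mul_one, he₀]; rfl
      map_mul' := by
        rintro ⟨a, ha⟩ ⟨b, hb⟩
        obtain ⟨c, -, hc⟩ := h1 a ha
        obtain ⟨d, -, hd⟩ := h1 b hb
        have hab := h.mul (h.SP (hAS hb)) hc hd
        have e1 : ((fun i => up (c i)) * fun i => up (d i) : Fin k → Matrix.SpecialLinearGroup (Fin 2) F) =
            fun i => up (c i + d i) := funext fun i => up_mul _ _
        rw [e1] at hab
        refine congrArg Multiplicative.ofAdd (funext fun i => ?_)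
        change M.e ((a * b) * v₀ * (a * b)⁻¹) i 0 = M.e (a * v₀ * a⁻¹) i 0 + M.e (b * v₀ * b⁻¹) i 0
        rw [hval _ _ hab, hval a c hc, hval b d hd] }
  have hker : (centralizer (V : Set G)).subgroupOf A = φ.ker := by
    ext ⟨a, ha⟩
    rw [mem_subgroupOf, MonoidHom.mem_ker]
    obtain ⟨c, hc0, hc⟩ := h1 a ha
    constructor
    · intro hcen
      have h3 : a * v₀ * a⁻¹ = v₀ := by
        have := mem_centralizer_iff.1 hcen v₀ hv₀
        change v₀ * a = a * v₀ at this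
        rw [← this]; group
      refine congrArg Multiplicative.ofAdd (funext fun i => ?_)
      change M.e (a * v₀ * a⁻¹) i 0 = 0
      rw [h3, he₀]; rfl
    · intro hk
      have h3 : (fun i : I => M.e (a * v₀ * a⁻¹) i 0) = 0 := Multiplicative.ofAdd.injective hk
      have h4 : c = 0 := by
        funext j
        by_cases hj : j ∈ I
        · rw [← hval a c hc j]; exact congrFun h3 ⟨j, hj⟩
        · exact hc0 j hj
      have h5 : (fun i => up (c i) : Fin k → Matrix.SpecialLinearGroup (Fin 2) F) = 1 := by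
        funext j
        rw [h4]; exact up_zero
      rw [h5] at hc
      exact h.cent (h.SP (hAS ha)) hc
  have hA : (centralizer (V : Set G)).relIndex A = Nat.card (I → F) := by
    unfold Subgroup.relIndex
    rw [hker, index_ker]
    have hr : φ.range = ⊤ := by
      rw [MonoidHom.range_eq_top]
      intro c
      obtain ⟨a, ha, hac⟩ := h2 (fun j => if hj : j ∈ I then Multiplicative.toAdd c ⟨j, hj⟩ else 0)
        (fun j hj => by simp [hj])
      refine ⟨⟨a, ha⟩, ?_⟩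
      rw [← ofAdd_toAdd c]
      refine congrArg Multiplicative.ofAdd (funext fun i => ?_)
      change M.e (a * v₀ * a⁻¹) i 0 = _
      rw [hval a _ hac]
      simp [i.2]
    rw [hr, Nat.card_congr (topEquiv (G := Multiplicative (I → F))).toEquiv]
    rfl
  have hle : V ⊓ centralizer (A : Set G) ≤ V ⊓ YI M I := by
    rintro w ⟨hw, hwc⟩
    refine ⟨hw, hw, fun i hi => ?_⟩
    obtain ⟨a, ha, hac⟩ := h2 (Pi.single i 1) (fun j hj => by
      have : j ≠ i := fun h3 => hj (by rw [h3]; exact hi)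
      rw [Pi.single_apply, if_neg this])
    have h3 : a * w * a⁻¹ = w := by
      rw [mem_centralizer_iff.1 hwc a ha]; group
    have h4 := hac.1 w hw i
    simp only [Pi.single_eq_same] at h4
    rw [h3, ap_up] at h4
    have h5 := congrFun h4 0
    simp only [Matrix.cons_val_zero, one_mul] at h5
    exact left_eq_add.1 h5
  have h3 := relIndex_le_iff.1 hoff.le
  rw [hA, ← YI_relIndex (M := M)] at h3
  have e1 := Star.rel_mul_card V (centralizer (A : Set G))
  have e2 := Star.rel_mul_card V (YI M I)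
  have h4 : Nat.card ↥(V ⊓ YI M I) ≤ Nat.card ↥(V ⊓ centralizer (A : Set G)) := by
    have hpos : 0 < (YI M I).relIndex V := Nat.pos_of_ne_zero (by
      rintro h0
      rw [h0, zero_mul] at e2
      exact Nat.card_pos.ne' e2.symm)
    have h5 : (YI M I).relIndex V * Nat.card ↥(V ⊓ YI M I) ≤
        (YI M I).relIndex V * Nat.card ↥(V ⊓ centralizer (A : Set G)) := by
      rw [e2, ← e1]
      exact Nat.mul_le_mul_right _ h3
    exact Nat.le_of_mul_le_mul_left h5 hpos
  have h5 := Subgroup.eq_of_le_of_card_ge hle h4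
  have h6 : v ∈ V ⊓ YI M I := ⟨hv, hv, h0⟩
  rw [← h5] at h6
  exact h6.2

/-- a subgroup acting as a root group inside an offender centralises `{v | e v i 1 = 0}` -/
theorem RtD.fix [Finite G] {I : Set (Fin k)} {A B : Subgroup G} (hAS : A ≤ S) (hBA : B ≤ A)
    (h1 : ∀ a ∈ A, ∃ b : Fin k → F, (∀ i, i ∉ I → b i = 0) ∧ Ac M a fun i => up (b i))
    (h2 : ∀ b : Fin k → F, (∀ i, i ∉ I → b i = 0) → ∃ a ∈ A, Ac M a fun i => up (b i)) (hoff : OffM V A)
    (hB : RtD M i B) {v : G} (hv : v ∈ V) (h0 : M.e v i 1 = 0) : v ∈ centralizer (B : Set G) := by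
  classical
  obtain ⟨v₁, hv₁, hv₁i, hv₁j⟩ := exists_pt (M := M) i (M.e v i)
  have h3 : v₁ ∈ centralizer (A : Set G) := by
    refine h.fixI hAS h1 h2 hoff hv₁ fun j _ => ?_
    by_cases hj : j = i
    · subst hj; rw [hv₁i]; exact h0
    · rw [hv₁j j hj]; rfl
  refine mem_centralizer_iff.2 fun a ha => ?_
  obtain ⟨c, hc⟩ := hB.acts a ha
  have hw : v₁⁻¹ * v ∈ V := mul_mem (inv_mem hv₁) hv
  have h4 : a * (v₁⁻¹ * v) * a⁻¹ = v₁⁻¹ * v := by
    refine h.blk (h.SP (hB.le ha)) hc hw fun l hl => ?_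
    have hli : l = i := by
      by_contra hne
      exact hl (Pi.mulSingle_eq_of_ne hne _)
    subst hli
    rw [M.mul _ (inv_mem hv₁) v hv, Pi.add_apply, e_inv hv₁, Pi.neg_apply, hv₁i, neg_add_cancel]
  have h5 := mem_centralizer_iff.1 h3 a (hBA ha)
  have h6 : a * v₁ * a⁻¹ = v₁ := by rw [h5]; group
  have h7 : a * v * a⁻¹ = v := by
    calc a * v * a⁻¹ = (a * v₁ * a⁻¹) * (a * (v₁⁻¹ * v) * a⁻¹) := by group
      _ = v := by rw [h6, h4]; group
  exact mul_inv_eq_iff_eq_mul.1 h7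

/-- the data of an offender: the support `I` is not empty -/
theorem AmbD.offI [Finite G] (hAS : A ≤ S) (hoff : OffM V A) : ∃ I : Set (Fin k), I.Nonempty ∧
    (∀ a ∈ A, ∃ b : Fin k → F, (∀ i, i ∉ I → b i = 0) ∧ Ac M a fun i => up (b i)) ∧
      (∀ b : Fin k → F, (∀ i, i ∉ I → b i = 0) → ∃ a ∈ A, Ac M a fun i => up (b i)) := by
  obtain ⟨I, h1, h2⟩ := M.offM A hAS hoff
  refine ⟨I, ?_, h1, h2⟩
  rw [Set.nonempty_iff_ne_empty]
  rintro rfl
  refine hoff.ne fun a ha => ?_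
  obtain ⟨b, hb, hac⟩ := h1 a ha
  have h3 : (fun i => up (b i) : Fin k → Matrix.SpecialLinearGroup (Fin 2) F) = 1 := by
    funext j
    rw [hb j (Set.notMem_empty j)]; exact up_zero
  rw [h3] at hac
  exact h.cent (h.SP (hAS ha)) hac

/-- a root group which is an offender: `C_V(A) = {v | e v i 1 = 0}` -/
theorem RtD.cent_iff [Finite G] (hA : RtD M i A) (hoff : OffM V A) {v : G} (hv : v ∈ V) :
    v ∈ centralizer (A : Set G) ↔ M.e v i 1 = 0 := by
  classical
  refine ⟨hA.zero_of_cent hv, fun h0 => ?_⟩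
  refine h.fixI (I := {i}) hA.le (fun a ha => ?_) (fun b hb => ?_) hoff hv (fun j hj => by
    rw [Set.mem_singleton_iff.1 hj]; exact h0)
  · obtain ⟨c, hc⟩ := hA.acts a ha
    refine ⟨Pi.single i c, fun j hj => Pi.single_eq_of_ne hj _, ?_⟩
    rw [key_single]; exact hc
  · obtain ⟨a, ha, hac⟩ := hA.ex (b i)
    refine ⟨a, ha, ?_⟩
    have e : (fun j => up (b j) : Fin k → Matrix.SpecialLinearGroup (Fin 2) F) = Pi.mulSingle i (up (b i)) := by
      rw [← key_single]
      funext j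
      by_cases hj : j = i
      · subst hj; rw [Pi.single_eq_same]
      · rw [Pi.single_eq_of_ne hj, hb j hj]
    rw [e]; exact hac

/-- `V / C_V(A)` has order `|F|`. -/
theorem RtD.relIndex' [Finite G] (hA : RtD M i A) (hoff : OffM V A) :
    (centralizer (A : Set G)).relIndex V = Nat.card F := by
  have h1 : (centralizer (A : Set G)).relIndex V = (YI M {i}).relIndex V := by
    unfold Subgroup.relIndex
    congr 1
    ext ⟨v, hv⟩
    rw [mem_subgroupOf, mem_subgroupOf]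
    constructor
    · intro hc
      exact ⟨hv, fun j hj => by rw [Set.mem_singleton_iff.1 hj]; exact hA.zero_of_cent hv hc⟩
    · intro hy
      exact (hA.cent_iff h hoff hv).2 (hy.2 i rfl)
  rw [h1, YI_relIndex, Nat.card_fun]
  simp

/-- a subgroup acting as the root group of block `i` in an offender is an offender -/
theorem RtD.offM [Finite G] {I : Set (Fin k)} {A B : Subgroup G} (hAS : A ≤ S) (hBA : B ≤ A)
    (h1 : ∀ a ∈ A, ∃ b : Fin k → F, (∀ i, i ∉ I → b i = 0) ∧ Ac M a fun i => up (b i))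
    (h2 : ∀ b : Fin k → F, (∀ i, i ∉ I → b i = 0) → ∃ a ∈ A, Ac M a fun i => up (b i)) (hoff : OffM V A)
    (hB : RtD M i B) : OffM V B where
  sq a ha := hoff.sq a (hBA ha)
  comm a ha b hb := hoff.comm a (hBA ha) b (hBA hb)
  ne h0 := by
    obtain ⟨v, hv, hvi, -⟩ := exists_pt (M := M) i ![0, 1]
    have h1 := hB.zero_of_cent hv (NO3b.EZero.cent_symm h0 hv)
    rw [hvi] at h1
    exact one_ne_zero (α := F) h1
  le := by
    refine relIndex_le_iff.2 ?_
    rw [hB.relIndex h]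
    have h3 : (centralizer (B : Set G)).relIndex V = (YI M {i}).relIndex V := by
      unfold Subgroup.relIndex
      congr 1
      ext ⟨v, hv⟩
      rw [mem_subgroupOf, mem_subgroupOf]
      constructor
      · intro hc
        exact ⟨hv, fun j hj => by rw [Set.mem_singleton_iff.1 hj]; exact hB.zero_of_cent hv hc⟩
      · intro hy
        exact RtD.fix h hAS hBA h1 h2 hoff hB hv (hy.2 i rfl)
    rw [h3, YI_relIndex, Nat.card_fun]
    simp

/-- **A minimal offender is a root group.** -/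
theorem RtD.of [Finite G] (hA : MinOffM V S A) : ∃ i, RtD M i A := by
  classical
  obtain ⟨I, ⟨i, hi⟩, h1, h2⟩ := h.offI hA.le hA.off
  let B : Subgroup G :=
    { carrier := {a | a ∈ A ∧ ∃ c : F, Ac M a (Pi.mulSingle i (up c))}
      mul_mem' := by
        rintro a b ⟨ha, c, hc⟩ ⟨hb, d, hd⟩
        refine ⟨mul_mem ha hb, c + d, ?_⟩
        rw [← mulSingle_mul]
        exact h.mul (h.SP (hA.le hb)) hc hd
      one_mem' := ⟨one_mem _, 0, by rw [mulSingle_zero]; exact h.one (one_mem _)⟩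
      inv_mem' := by
        rintro a ⟨ha, c, hc⟩
        refine ⟨inv_mem ha, -c, ?_⟩
        rw [← mulSingle_inv]
        exact h.inv (h.SP (hA.le ha)) hc }
  have hBA : B ≤ A := fun a ha => ha.1
  have hB : RtD M i B := by
    refine ⟨hBA.trans hA.le, fun a ha => ha.2, fun c => ?_⟩
    have hs : ∀ j, j ∉ I → (Pi.single i c : Fin k → F) j = 0 := by
      intro j hj
      have h3 : j ≠ i := fun h3 => hj (by rw [h3]; exact hi)
      rw [Pi.single_apply, if_neg h3]
    obtain ⟨a, ha, hac⟩ := h2 (Pi.single i c) hs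
    rw [key_single] at hac
    exact ⟨a, ⟨ha, c, hac⟩, hac⟩
  have hm := hA.min B hBA (RtD.offM h hA.le hBA h1 h2 hA.off hB)
  have hAB : A ⊓ centralizer (V : Set G) = B ⊓ centralizer (V : Set G) := by
    refine le_antisymm (fun a ha => ⟨⟨ha.1, 0, ?_⟩, ha.2⟩) (inf_le_inf_right _ hBA)
    rw [mulSingle_zero]; exact h.one ha.2
  have e1 := Star.rel_mul_card A (centralizer (V : Set G))
  have e2 := Star.rel_mul_card B (centralizer (V : Set G))
  rw [← hAB] at e2
  have h3 : Nat.card A ≤ Nat.card B := by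
    rw [← e1, ← e2]
    exact Nat.mul_le_mul_right _ hm
  have h4 : B = A := Subgroup.eq_of_le_of_card_ge hBA h3
  exact ⟨i, h4 ▸ hB⟩

/-- **An offender with constant commutators is a root group.** -/
theorem RtD.of_const [Finite G] (hAS : A ≤ S) (hoff : OffM V A) (hc : Const V A) : ∃ i, RtD M i A := by
  classical
  obtain ⟨I, ⟨i, hi⟩, h1, h2⟩ := h.offI hAS hoff
  have hcm : ∀ (a v : G), v ∈ V → a ∈ A → a * v * a⁻¹ ∈ V := fun a v hv ha => h.cm (h.SP (hAS ha)) hv
  -- the commutator of an element with `v_j`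
  have hel : ∀ j ∈ I, ∃ v ∈ V, M.e v j = ![0, 1] ∧ (∀ l, l ≠ j → M.e v l = 0) ∧
      ∃ a ∈ A, M.e (a * v * a⁻¹ * v⁻¹) j = ![1, 0] := by
    intro j hj
    obtain ⟨v, hv, hvj, hvl⟩ := exists_pt (M := M) j ![0, 1]
    obtain ⟨a, ha, hac⟩ := h2 (Pi.single j 1) (fun l hl => by
      have : l ≠ j := fun h3 => hl (by rw [h3]; exact hj)
      rw [Pi.single_apply, if_neg this])
    refine ⟨v, hv, hvj, hvl, a, ha, ?_⟩
    rw [M.mul _ (hcm a v hv ha) _ (inv_mem hv), e_inv hv, Pi.add_apply, Pi.neg_apply, hac.1 v hv j, hvj]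
    simp only [Pi.single_eq_same]
    rw [ap_up]
    exact ext2 (by simp) (by simp)
  have huniq : ∀ j ∈ I, j = i := by
    intro j hj
    by_contra hne
    obtain ⟨v, hv, hvi, hvl, a, ha, hav⟩ := hel i hi
    obtain ⟨w, hw, hwj, hwl, b, hb, hbw⟩ := hel j hj
    have hvc : v ∉ centralizer (A : Set G) := fun h3 => by
      have h4 : a * v * a⁻¹ * v⁻¹ = 1 := by rw [mem_centralizer_iff.1 h3 a ha]; group
      rw [h4, e_one] at hav
      exact one_ne_zero (α := F) (congrFun hav 0).symm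
    have hwc : w ∉ centralizer (A : Set G) := fun h3 => by
      have h4 : b * w * b⁻¹ * w⁻¹ = 1 := by rw [mem_centralizer_iff.1 h3 b hb]; group
      rw [h4, e_one] at hbw
      exact one_ne_zero (α := F) (congrFun hbw 0).symm
    obtain ⟨d, hd, h3⟩ := hc v hv hvc w hw hwc a ha
    obtain ⟨β, -, hdac⟩ := h1 d hd
    have hwi : M.e w i = 0 := hwl i (Ne.symm hne)
    rw [h3, M.mul _ (hcm d w hw hd) _ (inv_mem hw), e_inv hw, Pi.add_apply, Pi.neg_apply, hdac.1 w hw i, hwi,
      ap_up] at hav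
    have h4 := congrFun hav 0
    simp at h4
  refine ⟨i, hAS, fun a ha => ?_, fun c => ?_⟩
  · obtain ⟨b, hb, hac⟩ := h1 a ha
    refine ⟨b i, ?_⟩
    have h3 : b = Pi.single i (b i) := by
      funext j
      by_cases hj : j = i
      · subst hj; rw [Pi.single_eq_same]
      · rw [Pi.single_eq_of_ne hj, hb j fun h4 => hj (huniq j h4)]
    rw [← key_single, ← h3]
    exact hac
  · obtain ⟨a, ha, hac⟩ := h2 (Pi.single i c) (fun l hl => by
      have : l ≠ i := fun h3 => hl (by rw [h3]; exact hi)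
      rw [Pi.single_apply, if_neg this])
    refine ⟨a, ha, ?_⟩
    rw [← key_single]
    exact hac

/-- a root group which is an offender is a minimal offender -/
theorem RtD.min [Finite G] (hA : RtD M i A) (hoff : OffM V A) : MinOffM V S A := by
  classical
  refine ⟨hA.le, hoff, fun B hBA hB => ?_⟩
  obtain ⟨I, ⟨j, hj⟩, h1, h2⟩ := h.offI (hBA.trans hA.le) hB
  have hij : j = i := by
    by_contra hne
    obtain ⟨v, hv, hvj, -⟩ := exists_pt (M := M) j ![0, 1]
    obtain ⟨a, ha, hac⟩ := h2 (Pi.single j 1) (fun l hl => by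
      have : l ≠ j := fun h3 => hl (by rw [h3]; exact hj)
      rw [Pi.single_apply, if_neg this])
    obtain ⟨c, hc⟩ := hA.acts a (hBA ha)
    have h3 := hac.1 v hv j
    rw [ac_ne hc hv hne, hvj] at h3
    simp only [Pi.single_eq_same] at h3
    rw [ap_up] at h3
    have h4 := congrFun h3 0
    simp at h4
  subst hij
  have hRB : RtD M j B := by
    refine ⟨hBA.trans hA.le, fun a ha => hA.acts a (hBA ha), fun c => ?_⟩
    obtain ⟨a, ha, hac⟩ := h2 (Pi.single j c) (fun l hl => by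
      have : l ≠ j := fun h3 => hl (by rw [h3]; exact hj)
      rw [Pi.single_apply, if_neg this])
    refine ⟨a, ha, ?_⟩
    rw [← key_single]
    exact hac
  rw [hA.relIndex h, hRB.relIndex h]

theorem AmbD.const [Finite G] (hAS : A ≤ S) (hoff : OffM V A) (hc : Const V A) : MinOffM V S A := by
  obtain ⟨i, hi⟩ := RtD.of_const h hAS hoff hc
  exact hi.min h hoff

/-- `C_A(r) = C_A(V)` for `r ∈ V - C(A)` -/
theorem RtD.cent [Finite G] (hA : RtD M i A) (hoff : OffM V A) {r a : G} (hr : r ∈ V)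
    (hrA : r ∉ centralizer (A : Set G)) (ha : a ∈ A) (har : a * r = r * a) : a ∈ centralizer (V : Set G) := by
  have h0 : M.e r i 1 ≠ 0 := fun h0 => hrA ((hA.cent_iff h hoff hr).2 h0)
  obtain ⟨c, hc⟩ := hA.acts a ha
  have h1 := ac_at hc hr
  have h2 : a * r * a⁻¹ = r := by rw [har]; group
  rw [h2] at h1
  have h3 := congrFun h1 0
  simp only [Matrix.cons_val_zero] at h3
  have h4 : c * M.e r i 1 = 0 := left_eq_add.1 h3
  have h5 : c = 0 := (mul_eq_zero.1 h4).resolve_right h0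
  rw [h5, mulSingle_zero] at hc
  exact h.cent (h.SP (hA.le ha)) hc

end root

end Cfsg.Agent.Omega.NO3S.SOne.NTD
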