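import Cfsg.Agent.Omega.NO3S.SOne.End
import Cfsg.Agent.Omega.NO3S.SOne.KeyLe.Main
import Cfsg.Agent.Omega.NO3S.GFF.S1.Loc
import Cfsg.Agent.Omega.NO3S.Level.Gamma

/-!
# GammaFF, (S1): the end

* **`rad_false`** : `Rad S`, some `W_F ≤ S` moves some `V_R`, `R ∈ P*(S)`: `False`;
* `s1_four` : the same for one `F`, `P ∈ P**` passive for this `F` only, `|[V_R, W_F]| ≥ 4`, given the KEY for the front;
* **`gamRad`** : the socket `GamRad K` of `GammaFF`.
-/

set_option autoImplicit false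
set_option linter.unusedSectionVars false

namespace Cfsg.Agent.Omega.NO3S.SOne

open Subgroup Cfsg Cfsg.Agent.ZN Cfsg.Agent.Omega.MinPar Cfsg.Agent.Omega.Frame
open Cfsg.Agent.Omega.NOne.Flat (EE)
open Cfsg.Agent.Omega.NO3S.Level (W0 WSt X0 M0 K0)
open Cfsg.Agent.Omega.NO3S.GFF.S1 (Rad RadW)
open Cfsg.Agent.Omega.NO3S.Pas (ChT Key)
open scoped Pointwise

universe u

variable {G : Type u} [Group G] [Finite G] {S : Sylow 2 G} {P R F : Subgroup G}

theorem sg_of_radW (w : RadW S P R F) : Sg S P R F :=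
  { toWSt := w.toWSt, hz := w.hz, hP := w.pss, hp := w.hp }

/-- **(S1) at one `F`**, given the KEY for the front. -/
theorem s1_four (w : RadW S P R F)
    (hkey : ∀ n, Fnt S P R (X0 (S : Subgroup G)) F n → ∀ g Q,
      ChT (TT (S : Subgroup G) P R) (P ⊔ R) (S : Subgroup G) (NOne.Flat.WW (X0 (S : Subgroup G)) F) n g →
      Q ∈ TT (S : Subgroup G) P R → ¬ MulAut.conj g • zl (S : Subgroup G) Q ≤ EE (X0 (S : Subgroup G)) F →
      Key (X0 (S : Subgroup G)) F (BF (TT (S : Subgroup G) P R) (P ⊔ R) (S : Subgroup G) (X0 (S : Subgroup G)) n F))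
    (h4 : 4 ≤ Nat.card ↥(⁅zl (S : Subgroup G) R, NOne.Flat.WW (X0 (S : Subgroup G)) F⁆ : Subgroup G)) : False := by
  obtain ⟨n, hf, so, g, Q, hg, hQ, hbad⟩ := exists_so (sg_of_radW w)
  exact so.false_of_four (hkey n hf g Q hg hQ hbad)
    (fun x hx hx1 y hy hy1 => w.tr x hx y hy hx1 hy1) w.hz h4

/-- **(S1)**: `Rad S` is impossible in the W-stage. -/
theorem rad_false (h : Rad S) (w : WSt S R F) : False := by
  obtain ⟨P, hP1, hP2⟩ := h.ex
  have hP : PSS (S : Subgroup G) P := ⟨hP1, hP2⟩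
  have w' := h.radW w hP
  obtain ⟨n, hf, so, g, Q, hg, hQ, hbad⟩ := exists_so (sg_of_radW w')
  exact so.false_of_pas (KeyLe.key_fnt h w hP hf hg hQ hbad)
    (fun x hx hx1 y hy hy1 => w'.tr x hx y hy hx1 hy1) w'.hz w'.hypN.toHyp.inf_eq_bot (pas_of_rad h w hP)

/-- **the socket `GamRad`** -/
theorem gamRad (K : Cls.{u}) : NO3S.GamRad K := fun _ _ _ _ _ _ _ w hr =>
  absurd (rad_false { toW0 := w.toW0, rad := hr } w) id

end Cfsg.Agent.Omega.NO3S.SOne
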