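import Cfsg.Agent.Omega.NO3S.SOne.KeyLe.Main
import Cfsg.Agent.Omega.NO3S.SOne.KeyInst
import Cfsg.Agent.Omega.NO3S.SOne.Main
import Cfsg.Agent.Omega.NO3S.SOne.NTNat
import Cfsg.Agent.Omega.NO3S.SOne.NTGen
import Cfsg.Agent.Omega.NO3S.SOne.PU.Use
import Cfsg.Agent.Omega.NO3S.GFF.S1.Loc

/-!
# GammaFF, (S1): the plug

* `nt` : `NT S P₁ q` from the natural module, radical allowed, `q ≥ 4`;
* `so_false` : `SO`, KEY, the transitivity of `N_P(S)` on `Z#`, `C_Z(P₁) ≠ 1`, `C_Z(P) = 1`, passivity of `P` ⟹ `False`;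
* `rad_false` : **(S1)**;
* `s1_const` : the local form, `q ≥ 4`, constant commutators.
-/

set_option autoImplicit false
set_option linter.unusedSectionVars false

namespace Cfsg.Agent.Omega.NO3S.SOne.PlugRad

open Subgroup Cfsg Cfsg.Agent.ZN Cfsg.Agent.Omega.MinPar
open Cfsg.Agent.Omega.NOne.Flat (EE NN)
open Cfsg.Agent.Omega.FFThm (ElemM OffM NoOverM StmtM ConclM NatKM SymKM)
open Cfsg.Agent.Omega.FrameFF (cv)
open Cfsg.Agent.Omega.NO3S.Pas (Key)
open Cfsg.Agent.Omega.NO3S.Level (W0 WSt X0 M0 K0)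
open Cfsg.Agent.Omega.NO3S.GFF.S1 (Rad RadW)
open scoped Pointwise

universe u

variable {G : Type u} [Group G] [Finite G] {S : Sylow 2 G} {P P₁ V F B : Subgroup G}

theorem nt (hG : IsCharacteristicTwoType G) (hP : IsParS (S : Subgroup G) P₁) {K : Type} [Field K] [Finite K] [CharP K 2]
    {k : ℕ} (M : NatKM K (S : Subgroup G) P₁ (zl (S : Subgroup G) P₁) (cv (S : Subgroup G) P₁) k) (h4 : 4 ≤ Nat.card K)
    (no : NoOverM (zl (S : Subgroup G) P₁) P₁) : NT (S : Subgroup G) P₁ (Nat.card K) :=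
  NTNat.nt_of hG hP M h4 no
    (fun _ hm hc => NatD.exists_gen M (NatD.AmbD.of hG hP M) hP hm hc)
    (fun _ hm hc => NatD.RR_inf M (NatD.AmbD.of hG hP M) hm hc)

theorem eq_zero_or_one {K : Type} [Field K] [Finite K] (h : Nat.card K = 2) (c : K) : c = 0 ∨ c = 1 := by
  classical
  have : Fintype K := Fintype.ofFinite K
  by_contra hcon
  push Not at hcon
  have h1 : ({0, 1, c} : Finset K).card ≤ Fintype.card K := Finset.card_le_univ _
  rw [← Nat.card_eq_fintype_card, h, Finset.card_insert_of_notMem, Finset.card_insert_of_notMem,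
    Finset.card_singleton] at h1
  · omega
  · rw [Finset.mem_singleton]
    exact fun h2 => hcon.2 h2.symm
  · rw [Finset.mem_insert, Finset.mem_singleton]
    rintro (h2 | h2)
    · exact zero_ne_one h2
    · exact hcon.1 h2.symm

/-- `SO` + KEY ⟹ `False` -/
theorem so_false (so : SO S V F B P P₁) (hk : Key V F B)
    (htr : ∀ x ∈ zc (S : Subgroup G), x ≠ 1 → ∀ y ∈ zc (S : Subgroup G), y ≠ 1 →
      ∃ h ∈ P, h ∈ normalizer ((S : Subgroup G) : Set G) ∧ h * x * h⁻¹ = y)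
    (hC : zc (S : Subgroup G) ⊓ centralizer (P₁ : Set G) ≠ ⊥)
    (hCP : zc (S : Subgroup G) ⊓ centralizer (P : Set G) = ⊥)
    (hpas : ∀ y ∈ P ⊔ P₁, MulAut.conj y • NOne.Flat.WW V F ≤ (S : Subgroup G) →
      MulAut.conj y • NOne.Flat.WW V F ≤ o2 P) : False := by
  have hff := FF.Glob.ffthmM G (S : Subgroup G) P₁ (MinSimple.EmptyTI.syl_of_le so.hP₁.le) so.hP₁.toIsMinPar
    (so.hP₁.isLoc.char2 S so.hc) ⟨_, so.WS.trans so.SP₁, (so.ka_one hk).off⟩
  rcases hff.2 with ⟨K, fK, fiK, cK, k, hk0, ⟨M⟩⟩ | ⟨k, m, hk0, hm, ⟨M⟩⟩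
  · by_cases h4 : 4 ≤ Nat.card K
    · exact so.false_of_NT hk (nt so.hc so.hP₁ M h4 hff.1) htr hC
    · have h3 : Nat.card K ≠ 3 := KeyRad.card_field_ne_three K
      have h2 : 1 < Nat.card K := Finite.one_lt_card
      have h5 : Nat.card K = 2 := by omega
      exact so.false_of_two hk (PU.two_of_nat so.hc so.hP₁ (eq_zero_or_one h5) M) hCP hpas
  · exact so.false_of_two hk (PU.two_of_sym so.hc so.hP₁ hm M) hCP hpas

/-- **(S1)** -/
theorem rad_false (h : Rad S) (w : WSt S P₁ F) : False := by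
  obtain ⟨P, hP, hPn⟩ := h.toHypC.ex
  have hPS : PSS (S : Subgroup G) P := ⟨hP, hPn⟩
  obtain ⟨n, f, so, g, Q, hg, hQ, hbad⟩ := exists_so (sg_of_rad h w hPS)
  have hk := KeyLe.key_fnt h w hPS f hg hQ hbad
  have rw' := h.radW w hPS
  refine so_false so hk ?_ (h.rad P₁ F w) rw'.hypN.toHyp.inf_eq_bot (pas_of_rad h w hPS)
  intro x hx hx1 y hy hy1
  exact rw'.tr x hx y hy hx1 hy1

/-- `Two` ⟹ `|⁅L₁, W⁆| = 2` -/
theorem card_of_two (so : SO S V F B P P₁) (hk : Key V F B) (two : Two (S : Subgroup G) P₁) :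
    Nat.card ↥⁅zl (S : Subgroup G) P₁, NOne.Flat.WW V F⁆ ≤ 2 := by
  obtain ⟨r, -, hr, -⟩ := two.pt _ (so.ka_one hk)
  have h1 : r ∈ V := by
    have h2 : r ∈ ⁅zl (S : Subgroup G) P₁, NOne.Flat.WW V F⁆ := by
      rw [hr]
      exact mem_zpowers r
    exact so.L_le_V (so.comm_le_L so.WS h2)
  rw [hr, Nat.card_zpowers]
  exact orderOf_le_of_pow_eq_one Nat.two_pos (so.toHyp.sq r h1)

/-- **(S1), the local form**, `q ≥ 4`, constant commutators (mixed case). -/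
theorem s1_const (w : RadW S P P₁ F) (hc : NOThreeL.NF.NatR.Const (zl (S : Subgroup G) P₁)
      (NOne.Flat.WW (X0 (S : Subgroup G)) F))
    (h4 : 4 ≤ Nat.card ↥⁅zl (S : Subgroup G) P₁, NOne.Flat.WW (X0 (S : Subgroup G)) F⁆) : False := by
  have sg : Sg S P P₁ F := { toWSt := w.toWSt, hz := w.hz, hP := w.pss, hp := w.hp }
  obtain ⟨n, f, so, g, Q, hg, hQ, hbad⟩ := exists_so sg
  have hk := f.key_of_const FF.Glob.ffthmM (fun Q hQ => w.low Q hQ) w.hypN.toHyp.cv w.mv hg hQ hbad hc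
  have hff := FF.Glob.ffthmM G (S : Subgroup G) P₁ (MinSimple.EmptyTI.syl_of_le so.hP₁.le) so.hP₁.toIsMinPar
    (so.hP₁.isLoc.char2 S so.hc) ⟨_, so.WS.trans so.SP₁, (so.ka_one hk).off⟩
  have hno : ¬ Two (S : Subgroup G) P₁ := fun two => by
    have h5 := card_of_two so hk two
    omega
  rcases hff.2 with ⟨K, fK, fiK, cK, k, hk0, ⟨M⟩⟩ | ⟨k, m, hk0, hm, ⟨M⟩⟩
  · by_cases h4 : 4 ≤ Nat.card K
    · refine so.false_of_NT hk (nt so.hc so.hP₁ M h4 hff.1) ?_ w.hz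
      intro x hx hx1 y hy hy1
      exact w.tr x hx y hy hx1 hy1
    · have h3 : Nat.card K ≠ 3 := KeyRad.card_field_ne_three K
      have h2 : 1 < Nat.card K := Finite.one_lt_card
      have h5 : Nat.card K = 2 := by omega
      exact hno (PU.two_of_nat so.hc so.hP₁ (eq_zero_or_one h5) M)
  · exact hno (PU.two_of_sym so.hc so.hP₁ hm M)

end Cfsg.Agent.Omega.NO3S.SOne.PlugRad
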